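import Mathlib
import Cfsg.Agent.KFacts.Mult.Calc
import Cfsg.Agent.TitsThree.WittFrame
import Cfsg.Agent.TitsThree.WittWeyl
import Cfsg.Agent.TitsThree.KSideO
import Cfsg.Agent.Nodes.TypeC
import Cfsg.Agent.Nodes.TypeD
import Cfsg.Agent.Nodes.Reps
import Cfsg.Agent.H51.Mult
import Cfsg.Agent.Nodes.Unique
import Cfsg.Agent.Nodes.NormalForm
import Cfsg.Agent.Nodes.WittInst
set_option linter.all false

-- part: H63/OSys
section
/-!
# Root elements of orthogonal groups and central extensions with a kernel without involutions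

`OSys X Z B N` : elements `X x y t`, `Z x p` (`x`, `y` signed indices, `t : F`, `p : A`) of a group with the relations
of the long and short root elements of an orthogonal group in odd characteristic. `X x y t` belongs to the root
`e_x + e_y`, `Z x p` to the root `e_x`, `A` is the anisotropic part.

In a central extension `π : L → Y` without involutions in the kernel the lifts of commuting root elements commute
(`lc_*`), if there are at least four indices, or three indices and an anisotropic part.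
-/

set_option autoImplicit false

namespace Cfsg.Agent.H63.Ort

open Cfsg.Agent.KFacts.Mult.Calc
open Cfsg.Agent.TitsThree.WittFrame (neg neg_neg neg_fst)
open scoped commutatorElement

variable {ι : Type*} [DecidableEq ι] {F : Type*} [Field F] {A : Type*} [AddCommGroup A] [Module F A]
  {Y : Type*} [Group Y]

/-- the weight of the torus element `h_{x,y}(c)` on the line of `a` -/
def chi (x y : ι × Bool) (c : F) (a : ι × Bool) : F :=
  if a = x ∨ a = y then c else if a = neg x ∨ a = neg y then c⁻¹ else 1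

/-- The relations of the root elements; `T` is a commutative group of torus elements. -/
structure OSys (T : Subgroup Y) (X : ι × Bool → ι × Bool → F → Y) (Z : ι × Bool → A → Y) (B : A → A → F)
    (N : A → F) : Prop where
  two : (2 : F) ≠ 0
  comm : ∀ g ∈ T, ∀ k ∈ T, g * k = k * g
  X_add : ∀ x y s t, X x y (s + t) = X x y s * X x y t
  Z_add : ∀ x p q, Z x (p + q) = Z x p * Z x q
  X_swap : ∀ {x y}, x.1 ≠ y.1 → ∀ t, X x y t = X y x (-t)
  XX : ∀ {x y z u : ι × Bool}, x.1 ≠ y.1 → z.1 ≠ u.1 → z ≠ neg x → z ≠ neg y → u ≠ neg x → u ≠ neg y → ∀ s t,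
    Commute (X x y s) (X z u t)
  XXX : ∀ {x y z : ι × Bool}, x.1 ≠ y.1 → y.1 ≠ z.1 → x.1 ≠ z.1 → ∀ s t,
    ⁅X x y s, X (neg y) z t⁆ = X x z (s * t)
  XXn : ∀ {x y : ι × Bool}, x.1 ≠ y.1 → ∀ s t, Commute (X x y s) (X x (neg y) t)
  XZ : ∀ {x y : ι × Bool}, x.1 ≠ y.1 → ∀ t p, ⁅X x (neg y) t, Z y p⁆ = Z x (t • p) * X x y (N p * t)
  ZZ : ∀ {x y : ι × Bool}, x.1 ≠ y.1 → ∀ p q, ⁅Z x p, Z y q⁆ = X x y (B p q)
  ZX : ∀ {x y z : ι × Bool}, y.1 ≠ z.1 → y ≠ neg x → z ≠ neg x → ∀ p t, Commute (Z x p) (X y z t)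
  tor : ∀ {x y : ι × Bool}, x.1 ≠ y.1 → ∀ {c : F}, c ≠ 0 → ∃ h ∈ T,
    (∀ a b : ι × Bool, a.1 ≠ b.1 → ∀ t, h * X a b t * h⁻¹ = X a b (chi x y c a * chi x y c b * t)) ∧
    ∀ a p, h * Z a p * h⁻¹ = Z a (chi x y c a • p)
  swap : ∀ {x y z : ι × Bool}, x.1 ≠ y.1 → y.1 ≠ z.1 → x.1 ≠ z.1 → ∃ w : Y,
    (∀ t, w * X x y t * w⁻¹ = X x (neg y) (-t)) ∧ ∀ t, w * X x (neg y) t * w⁻¹ = X x y (-t)
  swap' : ∀ {x y z u : ι × Bool}, x.1 ≠ y.1 → x.1 ≠ z.1 → x.1 ≠ u.1 → y.1 ≠ z.1 → y.1 ≠ u.1 → z.1 ≠ u.1 →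
    ∃ w : Y, (∀ t, w * X x y t * w⁻¹ = X z u t) ∧ ∀ t, w * X z u t * w⁻¹ = X x y t

variable {T : Subgroup Y} {X : ι × Bool → ι × Bool → F → Y} {Z : ι × Bool → A → Y} {B : A → A → F} {N : A → F}

theorem chi_of_ne {x y a : ι × Bool} (h1 : a.1 ≠ x.1) (h2 : a.1 ≠ y.1) (c : F) : chi x y c a = 1 := by
  unfold chi
  rw [if_neg, if_neg]
  · rintro (rfl | rfl)
    · exact h1 rfl
    · exact h2 rfl
  · rintro (rfl | rfl)
    · exact h1 rfl
    · exact h2 rfl

omit [DecidableEq ι] in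
theorem ne_neg_self (x : ι × Bool) : x ≠ neg x := by
  intro h'; have := congrArg Prod.snd h'; simp [neg] at this

omit [DecidableEq ι] in
theorem ne_of_fst {x y : ι × Bool} (h : x.1 ≠ y.1) : x ≠ y := fun h' => h (by rw [h'])

omit [DecidableEq ι] in
theorem ne_neg_of_fst {x y : ι × Bool} (h : x.1 ≠ y.1) : x ≠ neg y := fun h' => h (by rw [h', neg_fst])

theorem chi_left (x y : ι × Bool) (c : F) : chi x y c x = c := by
  unfold chi
  rw [if_pos (Or.inl rfl)]

theorem chi_right (x y : ι × Bool) (c : F) : chi x y c y = c := by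
  unfold chi
  rw [if_pos (Or.inr rfl)]

theorem chi_neg_left {x y : ι × Bool} (h : x.1 ≠ y.1) (c : F) : chi x y c (neg x) = c⁻¹ := by
  unfold chi
  rw [if_neg, if_pos (Or.inl rfl)]
  rintro (h' | h')
  · exact ne_neg_self x h'.symm
  · exact h (by rw [← h', neg_fst])

theorem chi_neg_right {x y : ι × Bool} (h : x.1 ≠ y.1) (c : F) : chi x y c (neg y) = c⁻¹ := by
  unfold chi
  rw [if_neg, if_pos (Or.inr rfl)]
  rintro (h' | h')
  · exact h (by rw [← h', neg_fst])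
  · exact ne_neg_self y h'.symm

namespace OSys

variable (S : OSys T X Z B N)

include S

theorem X_zero (x y : ι × Bool) : X x y 0 = 1 := by
  have := S.X_add x y 0 0
  rw [add_zero] at this
  exact (mul_eq_left.mp this.symm)

theorem X_neg (x y : ι × Bool) (t : F) : X x y (-t) = (X x y t)⁻¹ := by
  rw [eq_inv_iff_mul_eq_one, ← S.X_add, neg_add_cancel, S.X_zero]

theorem Z_zero (x : ι × Bool) : Z x 0 = 1 := by
  have := S.Z_add x 0 0
  rw [add_zero] at this
  exact (mul_eq_left.mp this.symm)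

theorem Z_neg (x : ι × Bool) (t : A) : Z x (-t) = (Z x t)⁻¹ := by
  rw [eq_inv_iff_mul_eq_one, ← S.Z_add, neg_add_cancel, S.Z_zero]

theorem Z_comm (x : ι × Bool) (p q : A) : Commute (Z x p) (Z x q) := by
  show Z x p * Z x q = Z x q * Z x p
  rw [← S.Z_add, ← S.Z_add, add_comm]

theorem X_comm (x y : ι × Bool) (p q : F) : Commute (X x y p) (X x y q) := by
  show X x y p * X x y q = X x y q * X x y p
  rw [← S.X_add, ← S.X_add, add_comm]

/-- the commutator of `Z y q` and `Z x p` -/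
theorem conj_Z {x y : ι × Bool} (hxy : x.1 ≠ y.1) (p q : A) :
    Z y q * Z x p * (Z y q)⁻¹ = (X x y (B p q))⁻¹ * Z x p := by
  rw [← S.ZZ hxy, commutatorElement_def]; group

theorem conj_X {x y : ι × Bool} (hxy : x.1 ≠ y.1) (t : F) (p : A) :
    Z y p * X x (neg y) t * (Z y p)⁻¹ = (Z x (t • p) * X x y (N p * t))⁻¹ * X x (neg y) t := by
  rw [← S.XZ hxy, commutatorElement_def]; group

section lc

variable {L : Type*} [Group L] {π : L →* Y} (h : CE π)

/-- **Criterion**: `g` commutes with the factors of `X x y t` as a commutator of long root elements. -/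
theorem lc_X_of {g : Y} {x y k : ι × Bool} (hxy : x.1 ≠ y.1) (hxk : x.1 ≠ k.1) (hyk : y.1 ≠ k.1)
    (h1 : ∀ t, Commute g (X x k t)) (h2 : ∀ t, Commute g (X (neg k) y t)) (t : F) : h.lc g (X x y t) = 1 := by
  have e := S.XXX hxk (Ne.symm hyk) hxy t 1
  rw [mul_one] at e
  rw [← e]
  exact h.lc_comm_eq_one (h1 t) (h2 1)

/-- **Criterion**: `g` commutes with the factors of `X x y t` as a commutator of short root elements. -/
theorem lc_X_of' {g : Y} {x y : ι × Bool} (hxy : x.1 ≠ y.1)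
    (hB : ∀ t : F, ∃ p q, B p q = t)
    (h1 : ∀ p, Commute g (Z x p)) (h2 : ∀ p, Commute g (Z y p)) (t : F) : h.lc g (X x y t) = 1 := by
  obtain ⟨p, q, hpq⟩ := hB t
  rw [← hpq, ← S.ZZ hxy]
  exact h.lc_comm_eq_one (h1 p) (h2 q)

/-- **Criterion** for short root elements. -/
theorem lc_Z_of {g : Y} {x k : ι × Bool} (hxk : x.1 ≠ k.1)
    (h1 : ∀ t, Commute g (X x (neg k) t)) (h2 : ∀ p, Commute g (Z k p)) (h3 : ∀ t, Commute g (X x k t))
    (h4 : ∀ t, h.lc g (X x k t) = 1) (p : A) : h.lc g (Z x p) = 1 := by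
  have e := S.XZ hxk 1 p
  rw [one_smul, mul_one] at e
  have e1 : h.lc g ⁅X x (neg k) 1, Z k p⁆ = 1 := h.lc_comm_eq_one (h1 1) (h2 p)
  rw [e, h.lc_mul_right (h3 _), h4, mul_one] at e1
  exact e1

/-- (L1) the same root -/
theorem lc_XX_self {x y : ι × Bool} (hxy : x.1 ≠ y.1) (hk : ∃ k : ι × Bool, x.1 ≠ k.1 ∧ y.1 ≠ k.1) (s t : F) :
    h.lc (X x y s) (X x y t) = 1 := by
  obtain ⟨k, hxk, hyk⟩ := hk
  refine S.lc_X_of h hxy hxk hyk (fun t => ?_) (fun t => ?_) t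
  · exact S.XX hxy hxk (ne_neg_self x) (ne_neg_of_fst hxy) (ne_neg_of_fst hxk.symm) (ne_neg_of_fst hyk.symm) _ _
  · exact S.XX hxy (show (neg k).1 ≠ y.1 from hyk.symm) (ne_neg_of_fst (x := neg k) hxk.symm)
      (ne_neg_of_fst (x := neg k) hyk.symm) (ne_neg_of_fst hxy.symm) (ne_neg_self y) _ _

/-- (L2) roots at 60 degrees, four indices -/
theorem lc_XX_adj {x y z : ι × Bool} (hxy : x.1 ≠ y.1) (hyz : y.1 ≠ z.1) (hxz : x.1 ≠ z.1)
    (hk : (∃ k : ι × Bool, x.1 ≠ k.1 ∧ y.1 ≠ k.1 ∧ z.1 ≠ k.1) ∨ ∀ t : F, ∃ p q, B p q = t) (s t : F) :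
    h.lc (X x y s) (X x z t) = 1 := by
  rcases hk with ⟨k, hxk, hyk, hzk⟩ | hB
  · refine S.lc_X_of h hxz hxk hzk (fun t => ?_) (fun t => ?_) t
    · exact S.XX hxy hxk (ne_neg_self x) (ne_neg_of_fst hxy) (ne_neg_of_fst hxk.symm) (ne_neg_of_fst hyk.symm) _ _
    · exact S.XX hxy (show (neg k).1 ≠ z.1 from hzk.symm) (ne_neg_of_fst (x := neg k) hxk.symm)
        (ne_neg_of_fst (x := neg k) hyk.symm) (ne_neg_of_fst hxz.symm) (ne_neg_of_fst hyz.symm) _ _
  · refine S.lc_X_of' h hxz hB (fun p => ?_) (fun p => ?_) t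
    · exact (S.ZX hxy (ne_neg_self x) (ne_neg_of_fst hxy.symm) _ _).symm
    · exact (S.ZX hxy (ne_neg_of_fst hxz) (ne_neg_of_fst hyz) _ _).symm

/-- (L3) a long and a short root at 45 degrees -/
theorem lc_XZ_adj {x y : ι × Bool} (hxy : x.1 ≠ y.1)
    (hk : ∃ k : ι × Bool, x.1 ≠ k.1 ∧ y.1 ≠ k.1 ∧
      ((∃ l : ι × Bool, x.1 ≠ l.1 ∧ y.1 ≠ l.1 ∧ k.1 ≠ l.1) ∨ ∀ t : F, ∃ p q, B p q = t)) (s : F) (p : A) :
    h.lc (X x y s) (Z x p) = 1 := by
  obtain ⟨k, hxk, hyk, hl⟩ := hk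
  refine S.lc_Z_of h hxk (fun t => ?_) (fun p => ?_) (fun t => ?_) (fun t => ?_) p
  · exact S.XX hxy (show x.1 ≠ (neg k).1 from hxk) (ne_neg_self x) (ne_neg_of_fst hxy)
      (ne_neg_of_fst (x := neg k) hxk.symm) (ne_neg_of_fst (x := neg k) hyk.symm) _ _
  · exact (S.ZX hxy (ne_neg_of_fst hxk) (ne_neg_of_fst hyk) _ _).symm
  · exact S.XX hxy hxk (ne_neg_self x) (ne_neg_of_fst hxy)
      (ne_neg_of_fst hxk.symm) (ne_neg_of_fst hyk.symm) _ _
  · exact S.lc_XX_adj h hxy hyk hxk hl s t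

omit S in
/-- conjugation does not change the commutator of lifts of commuting elements -/
theorem _root_.Cfsg.Agent.H63.Ort.lc_conj {π : L →* Y} (h : CE π) {l m : Y} (hc : Commute l m) (g : Y) :
    h.lc (g * l * g⁻¹) (g * m * g⁻¹) = h.lc l m := by
  have e1 := h.conj_lc (h.lift g) l m
  rw [h.lc_comm hc, mul_inv_cancel_right, h.map_lift] at e1
  exact e1.symm

omit S in
/-- a commutator of lifts of commuting elements which equals its inverse is trivial -/
theorem _root_.Cfsg.Agent.H63.Ort.lc_eq_one_of_inv {π : L →* Y} (h : CE π)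
    (hodd : ∀ z : L, π z = 1 → z * z = 1 → z = 1) {l m : Y} (hc : Commute l m)
    (he : h.lc l m = (h.lc l m)⁻¹) : h.lc l m = 1 := by
  apply hodd
  · rw [h.map_lc, commutatorElement_eq_one_iff_commute.2 hc]
  · nth_rw 2 [he]; rw [mul_inv_cancel]

/-- (L4) orthogonal long roots `e_x + e_y`, `e_x - e_y` -/
theorem lc_XX_neg (hodd : ∀ z : L, π z = 1 → z * z = 1 → z = 1) {x y : ι × Bool} (hxy : x.1 ≠ y.1)
    (hk : ∃ k : ι × Bool, x.1 ≠ k.1 ∧ y.1 ≠ k.1) (s t : F) :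
    h.lc (X x y s) (X x (neg y) t) = 1 := by
  obtain ⟨z, hxz, hyz⟩ := hk
  have hc : ∀ s t, Commute (X x y s) (X x (neg y) t) := fun s t => S.XXn hxy s t
  -- the torus
  have h1 : ∀ (c : F), c ≠ 0 → ∀ s t, h.lc (X x y (c * s)) (X x (neg y) (c⁻¹ * t)) =
      h.lc (X x y s) (X x (neg y) t) := by
    intro c hc0 s t
    have hyz' : y.1 ≠ (neg z).1 := hyz
    obtain ⟨g, -, hg, -⟩ := S.tor hyz' hc0
    have e1 := hg x y hxy s
    have e2 := hg x (neg y) hxy t
    rw [chi_of_ne hxy (show x.1 ≠ (neg z).1 from hxz), one_mul, chi_left] at e1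
    rw [chi_of_ne hxy (show x.1 ≠ (neg z).1 from hxz), one_mul, chi_neg_left hyz'] at e2
    rw [← e1, ← e2]
    exact lc_conj h (hc s t) g
  obtain ⟨w, hw1, hw2⟩ := S.swap hxy hyz hxz
  have h2 : ∀ s t, h.lc (X x y s) (X x (neg y) t) = (h.lc (X x y (-t)) (X x (neg y) (-s)))⁻¹ := by
    intro s t
    rw [← h.lc_swap, ← lc_conj h (hc s t) w, hw1, hw2]
  apply lc_eq_one_of_inv h hodd (hc s t)
  by_cases hs : s = 0
  · rw [hs, S.X_zero, h.lc_one_left, inv_one]
  by_cases ht : t = 0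
  · rw [ht, S.X_zero, h.lc_one_right, inv_one]
  nth_rw 2 [h2]
  rw [inv_inv, ← h1 (-(t * s⁻¹)) (neg_ne_zero.2 (mul_ne_zero ht (inv_ne_zero hs)))]
  congr 2
  · field_simp
  · rw [inv_neg, mul_inv, inv_inv]; field_simp

/-- (L5) orthogonal long roots `e_x + e_y`, `e_z + e_u` -/
theorem lc_XX_orth (hodd : ∀ z : L, π z = 1 → z * z = 1 → z = 1) {x y z u : ι × Bool} (hxy : x.1 ≠ y.1)
    (hxz : x.1 ≠ z.1) (hxu : x.1 ≠ u.1) (hyz : y.1 ≠ z.1) (hyu : y.1 ≠ u.1) (hzu : z.1 ≠ u.1) (s t : F) :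
    h.lc (X x y s) (X z u t) = 1 := by
  have hc : ∀ s t, Commute (X x y s) (X z u t) := fun s t => S.XX hxy hzu (ne_neg_of_fst hxz.symm)
    (ne_neg_of_fst hyz.symm) (ne_neg_of_fst hxu.symm) (ne_neg_of_fst hyu.symm) s t
  -- the torus
  have h1 : ∀ (c : F), c ≠ 0 → ∀ s t, h.lc (X x y (c * s)) (X z u (c⁻¹ * t)) =
      h.lc (X x y s) (X z u t) := by
    intro c hc0 s t
    have hxz' : x.1 ≠ (neg z).1 := hxz
    obtain ⟨g, -, hg, -⟩ := S.tor hxz' hc0
    have e1 := hg x y hxy s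
    have e2 := hg z u hzu t
    have e3 : chi x (neg z) c z = c⁻¹ := by
      have := chi_neg_right hxz' c
      rwa [neg_neg] at this
    rw [chi_left, chi_of_ne hxy.symm (show y.1 ≠ (neg z).1 from hyz), mul_one] at e1
    rw [e3, chi_of_ne hxu.symm (show u.1 ≠ (neg z).1 from hzu.symm), mul_one] at e2
    rw [← e1, ← e2]
    exact lc_conj h (hc s t) g
  obtain ⟨w, hw1, hw2⟩ := S.swap' hxy hxz hxu hyz hyu hzu
  have h2 : ∀ s t, h.lc (X x y s) (X z u t) = (h.lc (X x y t) (X z u s))⁻¹ := by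
    intro s t
    rw [← h.lc_swap, ← lc_conj h (hc s t) w, hw1, hw2]
  apply lc_eq_one_of_inv h hodd (hc s t)
  by_cases hs : s = 0
  · rw [hs, S.X_zero, h.lc_one_left, inv_one]
  by_cases ht : t = 0
  · rw [ht, S.X_zero, h.lc_one_right, inv_one]
  nth_rw 2 [h2]
  rw [inv_inv, ← h1 (t * s⁻¹) (mul_ne_zero ht (inv_ne_zero hs))]
  congr 2
  · field_simp
  · field_simp

/-- (L6) a short root `e_x` and a long root `e_y + e_z` -/
theorem lc_ZX {x y z : ι × Bool} (hxy : x.1 ≠ y.1) (hyz : y.1 ≠ z.1) (hxz : x.1 ≠ z.1)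
    (hk : (∃ k : ι × Bool, x.1 ≠ k.1 ∧ y.1 ≠ k.1 ∧ z.1 ≠ k.1) ∨
      ∃ (g : Y) (c : F), c ≠ 1 ∧ (∀ t, Commute g (X y z t)) ∧ ∀ p, g * Z x p * g⁻¹ = Z x (c • p)) (p : A) (t : F) :
    h.lc (Z x p) (X y z t) = 1 := by
  rcases hk with ⟨k, hxk, hyk, hzk⟩ | ⟨g, c, hc, hg, hg'⟩
  · refine S.lc_X_of h hyz hyk hzk (fun t => ?_) (fun t => ?_) t
    · exact S.ZX hyk (ne_neg_of_fst hxy.symm) (ne_neg_of_fst hxk.symm) _ _
    · exact S.ZX (show (neg k).1 ≠ z.1 from hzk.symm) (ne_neg_of_fst (x := neg k) hxk.symm)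
        (ne_neg_of_fst hxz.symm) _ _
  · have hcom : ∀ p t, Commute (Z x p) (X y z t) := fun p t => S.ZX hyz (ne_neg_of_fst hxy.symm)
      (ne_neg_of_fst hxz.symm) _ _
    have e : ⁅g, Z x ((c - 1)⁻¹ • p)⁆ = Z x p := by
      rw [commutatorElement_def, hg', ← S.Z_neg, ← S.Z_add]
      congr 1
      have h1 : c - 1 ≠ 0 := sub_ne_zero.2 hc
      have h2 : c • ((c - 1)⁻¹ • p) + -((c - 1)⁻¹ • p) = (c - 1) • ((c - 1)⁻¹ • p) := by module
      rw [h2, smul_smul, mul_inv_cancel₀ h1, one_smul]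
    rw [h.lc_swap, ← e, h.lc_comm_eq_one (hg t).symm (hcom _ t).symm, inv_one]

/-- (L7) the same short root -/
theorem lc_ZZ_self (hodd : ∀ z : L, π z = 1 → z * z = 1 → z = 1) {x y : ι × Bool} (hxy : x.1 ≠ y.1)
    (hk : ∃ k : ι × Bool, x.1 ≠ k.1 ∧ y.1 ≠ k.1 ∧
      ((∃ l : ι × Bool, x.1 ≠ l.1 ∧ y.1 ≠ l.1 ∧ k.1 ≠ l.1) ∨ ∀ t : F, ∃ p q, B p q = t)) (p q : A) :
    h.lc (Z x p) (Z x q) = 1 := by
  have hk2 : ∃ k : ι × Bool, x.1 ≠ k.1 ∧ y.1 ≠ k.1 := hk.imp fun k hk => ⟨hk.1, hk.2.1⟩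
  have hxy' : x.1 ≠ (neg y).1 := hxy
  have l3 : ∀ s p, h.lc (X x y s) (Z x p) = 1 := fun s p => S.lc_XZ_adj h hxy hk s p
  have l3' : ∀ s p, h.lc (X x (neg y) s) (Z x p) = 1 := fun s p => S.lc_XZ_adj h hxy' hk s p
  have l4 : ∀ s t, h.lc (X x (neg y) s) (X x y t) = 1 := fun s t => by
    rw [h.lc_swap, S.lc_XX_neg h hodd hxy hk2, inv_one]
  have l1 : ∀ s t, h.lc (X x y s) (X x y t) = 1 := fun s t => S.lc_XX_self h hxy hk2 s t
  have c3 : ∀ s p, Commute (X x y s) (Z x p) := fun s p =>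
    (S.ZX hxy (ne_neg_self x) (ne_neg_of_fst hxy.symm) p s).symm
  have c3' : ∀ s p, Commute (X x (neg y) s) (Z x p) := fun s p =>
    (S.ZX hxy' (ne_neg_self x) (ne_neg_of_fst (x := neg y) hxy.symm) p s).symm
  have c4 : ∀ s t, Commute (X x (neg y) s) (X x y t) := fun s t => (S.XXn hxy t s).symm
  -- conjugate `lc (X x (neg y) 1) (Z x q) = 1` with `Z y p`
  have e := lc_conj h (c3' 1 q) (Z y p)
  rw [l3', S.conj_X hxy, S.conj_Z hxy, one_smul, mul_one, ← S.X_neg, mul_inv_rev, ← S.X_neg, ← S.Z_neg] at e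
  have k1 : Commute (X x (neg y) 1) (X x y (-B q p) * Z x q) := (c4 _ _).mul_right (c3' _ _)
  have k2 : Commute (Z x (-p)) (X x y (-B q p) * Z x q) := (c3 _ _).symm.mul_right (S.Z_comm _ _ _)
  rw [h.lc_mul_left k1, h.lc_mul_left k2, h.lc_mul_right (c3 _ _), h.lc_mul_right (S.Z_comm _ _ _),
    h.lc_mul_right (c3' _ _), l1, l3, l4, l3', mul_one, one_mul, mul_one, h.lc_swap, l3, inv_one, one_mul] at e
  have e2 := h.lc_mul_left (l := Z x p) (l' := Z x (-p)) (m := Z x q) (S.Z_comm _ _ _)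
  rw [← S.Z_add, add_neg_cancel, S.Z_zero, h.lc_one_left, e, mul_one] at e2
  exact e2.symm

end lc

end OSys

/-! ### Canonical lifts -/

section hat

variable {L : Type*} [Group L] {π : L →* Y} (h : CE π) {M : Type*} [AddCommGroup M] [Module F M]

/-- `x : M → Y` is a homomorphism and its values have commuting lifts. -/
structure RHom (h : CE π) (x : M → Y) : Prop where
  add : ∀ s t, x (s + t) = x s * x t
  lc : ∀ s t, h.lc (x s) (x t) = 1

variable (F) in
/-- the canonical lift -/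
noncomputable def hat (d : Y) (x : M → Y) (t : M) : L := h.lc (x ((2 : F)⁻¹ • t)) d

variable {h} {x : M → Y} (R : RHom h x)

include R

theorem RHom.zero : x 0 = 1 := by
  have := R.add 0 0
  rw [add_zero] at this
  exact (mul_eq_left.mp this.symm)

theorem RHom.neg (t : M) : x (-t) = (x t)⁻¹ := by
  rw [eq_inv_iff_mul_eq_one, ← R.add, neg_add_cancel, R.zero]

/-- `d` inverts the root group -/
theorem RHom.comm_eq {d : Y} (hd : ∀ t, d * x t * d⁻¹ = x (-t)) (t : M) : ⁅x t, d⁆ = x (t + t) := by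
  have h1 : (x t)⁻¹ = x (-t) := (R.neg t).symm
  rw [commutatorElement_def, h1]
  have h2 : x t * d * x (-t) * d⁻¹ = x t * (d * x (-t) * d⁻¹) := by group
  rw [h2, hd, _root_.neg_neg, R.add]

theorem RHom.map_hat (h2 : (2 : F) ≠ 0) {d : Y} (hd : ∀ t, d * x t * d⁻¹ = x (-t)) (t : M) :
    π (hat F h d x t) = x t := by
  rw [hat, h.map_lc, R.comm_eq hd]
  congr 1
  rw [← two_smul F, smul_smul, mul_inv_cancel₀ h2, one_smul]

theorem RHom.hat_add {d : Y} (hd : ∀ t, d * x t * d⁻¹ = x (-t)) (s t : M) :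
    hat F h d x (s + t) = hat F h d x s * hat F h d x t := by
  rw [add_comm]
  unfold hat
  rw [smul_add, R.add, h.lc_mul_left', R.comm_eq hd, R.lc, one_mul]

theorem RHom.hat_zero {d : Y} (hd : ∀ t, d * x t * d⁻¹ = x (-t)) : hat F h d x (0 : M) = 1 := by
  have := R.hat_add (F := F) hd 0 0
  rw [add_zero] at this
  exact (mul_eq_left.mp this.symm)

theorem RHom.hat_neg {d : Y} (hd : ∀ t, d * x t * d⁻¹ = x (-t)) (t : M) :
    hat F h d x (-t) = (hat F h d x t)⁻¹ := by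
  rw [eq_inv_iff_mul_eq_one, ← R.hat_add hd, neg_add_cancel, R.hat_zero hd]

omit R in
/-- conjugation of the canonical lift by an element commuting with `d` -/
theorem hat_conj {d : Y} {g : L} (hg : π g * d = d * π g) {t t' : M}
    (hx : π g * x ((2 : F)⁻¹ • t) * (π g)⁻¹ = x ((2 : F)⁻¹ • t')) :
    g * hat F h d x t * g⁻¹ = hat F h d x t' := by
  unfold hat
  rw [h.conj_lc, hx, hg, mul_inv_cancel_right]

/-- **uniqueness** of a lift inverted by some `d'` -/
theorem RHom.eq_hat (h2 : (2 : F) ≠ 0) (hodd : ∀ z : L, π z = 1 → z * z = 1 → z = 1) {d d' : L}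
    (hdd : π d' * π d = π d * π d') (hd : ∀ t, π d * x t * (π d)⁻¹ = x (-t))
    (hd' : ∀ t, π d' * x t * (π d')⁻¹ = x (-t)) {t : M} {g : L} (hg : π g = x t) (hi : d' * g * d'⁻¹ = g⁻¹) :
    g = hat F h (π d) x t := by
  set k := hat F h (π d) x t with hk
  have e1 : d' * k * d'⁻¹ = k⁻¹ := by
    rw [hk, hat_conj (t' := -t) hdd (by rw [hd', smul_neg]), R.hat_neg hd]
  have e2 : π k = x t := R.map_hat h2 hd t
  set z := g * k⁻¹ with hz
  have hz1 : π z = 1 := by rw [hz, map_mul, map_inv, hg, e2, mul_inv_cancel]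
  have hzc : ∀ a, a * z = z * a := fun a => Subgroup.mem_center_iff.1 (h.cen (MonoidHom.mem_ker.2 hz1)) a
  have hgz : g = z * k := by rw [hz]; group
  have e3 : z * k⁻¹ = g⁻¹ := by
    rw [← hi, hgz, ← e1]
    calc z * (d' * k * d'⁻¹) = (z * d') * k * d'⁻¹ := by group
      _ = (d' * z) * k * d'⁻¹ := by rw [← hzc d']
      _ = d' * (z * k) * d'⁻¹ := by group
  rw [hgz, mul_inv_rev] at e3
  have e4 : z * k⁻¹ = z⁻¹ * k⁻¹ := by
    rw [e3]
    have := hzc k
    rw [← mul_inv_rev, ← mul_inv_rev, this]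
  have e5 : z = z⁻¹ := mul_right_cancel e4
  have e6 : z = 1 := by
    apply hodd z hz1
    nth_rw 2 [e5]; rw [mul_inv_cancel]
  rw [hgz, e6, one_mul]

end hat

end Cfsg.Agent.H63.Ort
end

-- part: H63/OLift
section
/-!
# The canonical lifts of the root elements of an orthogonal group satisfy the same relations

`π : L → Y` a central extension without involutions in the kernel, `OSys T X Z B N` the root elements of `Y`:
`Xh x y t`, `Zh x p` are lifts with the same relations.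
-/

set_option autoImplicit false

namespace Cfsg.Agent.H63.Ort

open Cfsg.Agent.KFacts.Mult.Calc
open Cfsg.Agent.TitsThree.WittFrame (neg neg_neg neg_fst)
open scoped commutatorElement

variable {ι : Type*} [DecidableEq ι] {F : Type*} [Field F] {A : Type*} [AddCommGroup A] [Module F A]
  {Y : Type*} [Group Y]
variable {T : Subgroup Y} {X : ι × Bool → ι × Bool → F → Y} {Z : ι × Bool → A → Y} {B : A → A → F} {N : A → F}

/-- There are enough indices, or three indices and an anisotropic part. -/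
structure Big (X : ι × Bool → ι × Bool → F → Y) (Z : ι × Bool → A → Y) (B : A → A → F) : Prop where
  third : ∀ x y : ι × Bool, ∃ k : ι × Bool, x.1 ≠ k.1 ∧ y.1 ≠ k.1
  fourth : (∀ x y z : ι × Bool, ∃ k : ι × Bool, x.1 ≠ k.1 ∧ y.1 ≠ k.1 ∧ z.1 ≠ k.1) ∨ ∀ t : F, ∃ p q, B p q = t
  short : (∀ x y z : ι × Bool, ∃ k : ι × Bool, x.1 ≠ k.1 ∧ y.1 ≠ k.1 ∧ z.1 ≠ k.1) ∨
    ∀ x : ι × Bool, ∃ (g : Y) (c : F), c ≠ 1 ∧ (∀ y z : ι × Bool, x.1 ≠ y.1 → x.1 ≠ z.1 → y.1 ≠ z.1 → ∀ t,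
      Commute g (X y z t)) ∧ ∀ p, g * Z x p * g⁻¹ = Z x (c • p)

/-- `d` is a torus element with the weights `e a` on the lines. -/
structure Sg (T : Subgroup Y) (X : ι × Bool → ι × Bool → F → Y) (Z : ι × Bool → A → Y) (d : Y)
    (e : ι × Bool → F) : Prop where
  mem : d ∈ T
  x : ∀ a b : ι × Bool, a.1 ≠ b.1 → ∀ t, d * X a b t * d⁻¹ = X a b (e a * e b * t)
  z : ∀ a p, d * Z a p * d⁻¹ = Z a (e a • p)

omit [DecidableEq ι] in
theorem Sg.inv_x {d : Y} {e : ι × Bool → F} (hd : Sg T X Z d e) {a b : ι × Bool} (hab : a.1 ≠ b.1)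
    (he : e a * e b = -1) (t : F) : d * X a b t * d⁻¹ = X a b (-t) := by
  rw [hd.x a b hab, he, neg_one_mul]

omit [DecidableEq ι] in
theorem Sg.inv_z {d : Y} {e : ι × Bool → F} (hd : Sg T X Z d e) {a : ι × Bool}
    (he : e a = -1) (t : A) : d * Z a t * d⁻¹ = Z a (-t) := by
  rw [hd.z a, he, neg_one_smul]

theorem OSys.exists_sg (S : OSys T X Z B N) (hbig : Big X Z B) {x y : ι × Bool} (hxy : x.1 ≠ y.1) :
    ∃ d e, Sg T X Z d e ∧ e x = -1 ∧ e y = 1 ∧ e (neg x) = -1 ∧ e (neg y) = 1 := by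
  obtain ⟨k, hxk, hyk⟩ := hbig.third x y
  obtain ⟨d, hdT, h1, h2⟩ := S.tor hxk (neg_ne_zero.2 (one_ne_zero (α := F)))
  refine ⟨d, chi x k (-1), ⟨hdT, h1, h2⟩, chi_left _ _ _, chi_of_ne hxy.symm hyk _, ?_, ?_⟩
  · rw [chi_neg_left hxk, inv_neg, inv_one]
  · exact chi_of_ne (a := neg y) hxy.symm hyk _

theorem OSys.exists_sg2 (S : OSys T X Z B N) {x y z : ι × Bool} (hxy : x.1 ≠ y.1)
    (hxz : x.1 ≠ z.1) (hyz : y.1 ≠ z.1) :
    ∃ d e, Sg T X Z d e ∧ e x = -1 ∧ e y = -1 ∧ e z = 1 ∧ e (neg x) = -1 ∧ e (neg y) = -1 ∧ e (neg z) = 1 := by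
  obtain ⟨d, hdT, h1, h2⟩ := S.tor hxy (neg_ne_zero.2 (one_ne_zero (α := F)))
  refine ⟨d, chi x y (-1), ⟨hdT, h1, h2⟩, chi_left _ _ _, chi_right _ _ _, chi_of_ne hxz.symm hyz.symm _, ?_, ?_, ?_⟩
  · rw [chi_neg_left hxy, inv_neg, inv_one]
  · rw [chi_neg_right hxy, inv_neg, inv_one]
  · exact chi_of_ne (a := neg z) hxz.symm hyz.symm _

/-- The situation. -/
structure Sit {L : Type*} [Group L] (T : Subgroup Y) (X : ι × Bool → ι × Bool → F → Y) (Z : ι × Bool → A → Y)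
    (B : A → A → F) (N : A → F) (π : L →* Y) : Prop where
  sys : OSys T X Z B N
  big : Big X Z B
  ce : CE π
  odd : ∀ z : L, π z = 1 → z * z = 1 → z = 1

namespace Sit

variable {L : Type*} [Group L] {π : L →* Y} (C : Sit T X Z B N π)

include C

/-! ### Commuting lifts -/

theorem l1 {x y : ι × Bool} (hxy : x.1 ≠ y.1) (s t : F) : C.ce.lc (X x y s) (X x y t) = 1 :=
  C.sys.lc_XX_self C.ce hxy (C.big.third x y) s t

theorem four (x y z : ι × Bool) : (∃ k : ι × Bool, x.1 ≠ k.1 ∧ y.1 ≠ k.1 ∧ z.1 ≠ k.1) ∨ ∀ t : F, ∃ p q, B p q = t :=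
  C.big.fourth.imp (fun h => h x y z) id

theorem l2 {x y z : ι × Bool} (hxy : x.1 ≠ y.1) (hyz : y.1 ≠ z.1) (hxz : x.1 ≠ z.1) (s t : F) :
    C.ce.lc (X x y s) (X x z t) = 1 := C.sys.lc_XX_adj C.ce hxy hyz hxz (C.four x y z) s t

theorem l3 {x y : ι × Bool} (hxy : x.1 ≠ y.1) (s : F) (p : A) : C.ce.lc (X x y s) (Z x p) = 1 := by
  obtain ⟨k, h1, h2⟩ := C.big.third x y
  exact C.sys.lc_XZ_adj C.ce hxy ⟨k, h1, h2, C.four x y k⟩ s p

theorem l4 {x y : ι × Bool} (hxy : x.1 ≠ y.1) (s t : F) : C.ce.lc (X x y s) (X x (neg y) t) = 1 :=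
  C.sys.lc_XX_neg C.ce C.odd hxy (C.big.third x y) s t

theorem l5 {x y z u : ι × Bool} (hxy : x.1 ≠ y.1)
    (hxz : x.1 ≠ z.1) (hxu : x.1 ≠ u.1) (hyz : y.1 ≠ z.1) (hyu : y.1 ≠ u.1) (hzu : z.1 ≠ u.1) (s t : F) :
    C.ce.lc (X x y s) (X z u t) = 1 := C.sys.lc_XX_orth C.ce C.odd hxy hxz hxu hyz hyu hzu s t

theorem l6 {x y z : ι × Bool} (hxy : x.1 ≠ y.1) (hyz : y.1 ≠ z.1) (hxz : x.1 ≠ z.1) (p : A) (t : F) :
    C.ce.lc (Z x p) (X y z t) = 1 := by
  refine C.sys.lc_ZX C.ce hxy hyz hxz ?_ p t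
  rcases C.big.short with h | h
  · exact Or.inl (h x y z)
  · obtain ⟨g, c, h1, h2, h3⟩ := h x
    exact Or.inr ⟨g, c, h1, h2 y z hxy hxz hyz, h3⟩

theorem l7 (x : ι × Bool) (p q : A) : C.ce.lc (Z x p) (Z x q) = 1 := by
  obtain ⟨y, hxy, -⟩ := C.big.third x x
  obtain ⟨k, h1, h2⟩ := C.big.third x y
  exact C.sys.lc_ZZ_self C.ce C.odd hxy ⟨k, h1, h2, C.four x y k⟩ p q

theorem rx {x y : ι × Bool} (hxy : x.1 ≠ y.1) : RHom C.ce (X x y) := ⟨C.sys.X_add x y, C.l1 hxy⟩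

theorem rz (x : ι × Bool) : RHom C.ce (Z x) := ⟨C.sys.Z_add x, C.l7 x⟩

/-! ### The lifts -/

theorem ex_x {x y : ι × Bool} (hxy : x.1 ≠ y.1) : ∃ d ∈ T, ∀ t, d * X x y t * d⁻¹ = X x y (-t) := by
  obtain ⟨d, e, hd, h1, h2, -, -⟩ := C.sys.exists_sg C.big hxy
  exact ⟨d, hd.mem, hd.inv_x hxy (by rw [h1, h2, mul_one])⟩

theorem ex_z (x : ι × Bool) : ∃ d ∈ T, ∀ t, d * Z x t * d⁻¹ = Z x (-t) := by
  obtain ⟨y, hxy, -⟩ := C.big.third x x
  obtain ⟨d, e, hd, h1, h2, -, -⟩ := C.sys.exists_sg C.big hxy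
  exact ⟨d, hd.mem, hd.inv_z h1⟩

open Classical in
/-- lift of a long root element -/
noncomputable def Xh (x y : ι × Bool) (t : F) : L :=
  if h : x.1 ≠ y.1 then hat F C.ce (C.ex_x h).choose (X x y) t else 1

/-- lift of a short root element -/
noncomputable def Zh (x : ι × Bool) (p : A) : L := hat F C.ce (C.ex_z x).choose (Z x) p

theorem Xh_eq {x y : ι × Bool} (hxy : x.1 ≠ y.1) (t : F) :
    C.Xh x y t = hat F C.ce (C.ex_x hxy).choose (X x y) t := dif_pos hxy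

theorem map_Xh {x y : ι × Bool} (hxy : x.1 ≠ y.1) (t : F) : π (C.Xh x y t) = X x y t := by
  rw [C.Xh_eq hxy]
  exact (C.rx hxy).map_hat C.sys.two (C.ex_x hxy).choose_spec.2 t

theorem map_Zh (x : ι × Bool) (p : A) : π (C.Zh x p) = Z x p :=
  (C.rz x).map_hat C.sys.two (C.ex_z x).choose_spec.2 p

theorem Xh_add {x y : ι × Bool} (hxy : x.1 ≠ y.1) (s t : F) : C.Xh x y (s + t) = C.Xh x y s * C.Xh x y t := by
  rw [C.Xh_eq hxy, C.Xh_eq hxy, C.Xh_eq hxy]
  exact (C.rx hxy).hat_add (C.ex_x hxy).choose_spec.2 s t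

theorem Zh_add (x : ι × Bool) (s t : A) : C.Zh x (s + t) = C.Zh x s * C.Zh x t :=
  (C.rz x).hat_add (C.ex_z x).choose_spec.2 s t

theorem Xh_zero {x y : ι × Bool} (hxy : x.1 ≠ y.1) : C.Xh x y 0 = 1 := by
  have := C.Xh_add hxy 0 0
  rw [add_zero] at this
  exact (mul_eq_left.mp this.symm)

theorem Xh_neg {x y : ι × Bool} (hxy : x.1 ≠ y.1) (t : F) : C.Xh x y (-t) = (C.Xh x y t)⁻¹ := by
  rw [eq_inv_iff_mul_eq_one, ← C.Xh_add hxy, neg_add_cancel, C.Xh_zero hxy]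

theorem Zh_zero (x : ι × Bool) : C.Zh x 0 = 1 := by
  have := C.Zh_add x 0 0
  rw [add_zero] at this
  exact (mul_eq_left.mp this.symm)

theorem Zh_neg (x : ι × Bool) (t : A) : C.Zh x (-t) = (C.Zh x t)⁻¹ := by
  rw [eq_inv_iff_mul_eq_one, ← C.Zh_add, neg_add_cancel, C.Zh_zero]

/-- uniqueness -/
theorem eq_Xh {d : L} {e : ι × Bool → F} (hd : Sg T X Z (π d) e) {x y : ι × Bool} (hxy : x.1 ≠ y.1)
    (he : e x * e y = -1) {t : F} {g : L} (hg : π g = X x y t) (hi : d * g * d⁻¹ = g⁻¹) : g = C.Xh x y t := by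
  rw [C.Xh_eq hxy]
  have h1 := (C.ex_x hxy).choose_spec
  obtain ⟨k, hk⟩ := C.ce.surj (C.ex_x hxy).choose
  rw [← hk] at h1 ⊢
  exact (C.rx hxy).eq_hat C.sys.two C.odd (C.sys.comm _ hd.mem _ h1.1) h1.2 (hd.inv_x hxy he) hg hi

theorem eq_Zh {d : L} {e : ι × Bool → F} (hd : Sg T X Z (π d) e) {x : ι × Bool}
    (he : e x = -1) {t : A} {g : L} (hg : π g = Z x t) (hi : d * g * d⁻¹ = g⁻¹) : g = C.Zh x t := by
  rw [Zh]
  have h1 := (C.ex_z x).choose_spec
  obtain ⟨k, hk⟩ := C.ce.surj (C.ex_z x).choose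
  rw [← hk] at h1 ⊢
  exact (C.rz x).eq_hat C.sys.two C.odd (C.sys.comm _ hd.mem _ h1.1) h1.2 (hd.inv_z he) hg hi

/-- action of the torus -/
theorem conj_Xh {d : L} {e : ι × Bool → F} (hd : Sg T X Z (π d) e) {x y : ι × Bool} (hxy : x.1 ≠ y.1) (t : F) :
    d * C.Xh x y t * d⁻¹ = C.Xh x y (e x * e y * t) := by
  rw [C.Xh_eq hxy, C.Xh_eq hxy]
  refine hat_conj (C.sys.comm _ hd.mem _ (C.ex_x hxy).choose_spec.1) ?_
  rw [hd.x x y hxy]
  congr 1
  simp only [smul_eq_mul]; ring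

theorem conj_Zh {d : L} {e : ι × Bool → F} (hd : Sg T X Z (π d) e) (x : ι × Bool) (t : A) :
    d * C.Zh x t * d⁻¹ = C.Zh x (e x • t) := by
  rw [Zh]
  refine hat_conj (C.sys.comm _ hd.mem _ (C.ex_z x).choose_spec.1) ?_
  rw [hd.z x, smul_comm]

/-! ### Relations of the lifts -/

theorem comm_XX {x y z u : ι × Bool} (hxy : x.1 ≠ y.1) (hzu : z.1 ≠ u.1) {s t : F}
    (hl : C.ce.lc (X x y s) (X z u t) = 1) : Commute (C.Xh x y s) (C.Xh z u t) := by
  apply C.ce.commute_of_lc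
  rwa [C.map_Xh hxy, C.map_Xh hzu]

theorem comm_XZ {x y z : ι × Bool} (hxy : x.1 ≠ y.1) {s : F} {p : A}
    (hl : C.ce.lc (X x y s) (Z z p) = 1) : Commute (C.Xh x y s) (C.Zh z p) := by
  apply C.ce.commute_of_lc
  rwa [C.map_Xh hxy, C.map_Zh]

/-- (H1) -/
theorem Xh_swap {x y : ι × Bool} (hxy : x.1 ≠ y.1) (t : F) : C.Xh x y t = C.Xh y x (-t) := by
  obtain ⟨d, e, hd, h1, h2, -, -⟩ := C.sys.exists_sg C.big hxy
  obtain ⟨d, rfl⟩ := C.ce.surj d
  refine C.eq_Xh hd hxy.symm (by rw [h1, h2, one_mul]) ?_ ?_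
  · rw [C.map_Xh hxy, C.sys.X_swap hxy]
  · rw [C.conj_Xh hd hxy, h1, h2, mul_one, neg_one_mul, C.Xh_neg hxy]

/-- lifts of commuting long root elements commute -/
theorem hXX {x y z u : ι × Bool} (hxy : x.1 ≠ y.1) (hzu : z.1 ≠ u.1) (h1 : z ≠ neg x) (h2 : z ≠ neg y)
    (h3 : u ≠ neg x) (h4 : u ≠ neg y) (s t : F) : C.ce.lc (X x y s) (X z u t) = 1 := by
  have key : ∀ {a b : ι × Bool}, b ≠ neg a → a.1 = b.1 → b = a := by
    intro a b hab h
    obtain ⟨a, s⟩ := a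
    obtain ⟨b, t⟩ := b
    simp only at h
    subst h
    cases s <;> cases t <;> simp_all [neg]
  have hs : ∀ {a b c d : ι × Bool}, a.1 ≠ b.1 → a = c → d ≠ neg b → a.1 ≠ d.1 → ∀ s t,
      C.ce.lc (X a b s) (X c d t) = 1 := by
    intro a b c d hab hac hdb had s t
    subst hac
    by_cases hbd : b.1 = d.1
    · have := key hdb hbd
      subst this
      exact C.l1 hab s t
    · exact C.l2 hab hbd had s t
  by_cases hxz : x.1 = z.1
  · have e := key h1 hxz
    exact hs hxy e.symm h4 (by rw [hxz]; exact hzu) s t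
  by_cases hxu : x.1 = u.1
  · have e := key h3 hxu
    rw [C.sys.X_swap hzu]
    exact hs hxy e.symm h2 (by rw [hxu]; exact hzu.symm) s _
  by_cases hyz : y.1 = z.1
  · have e := key h2 hyz
    rw [C.sys.X_swap hxy]
    exact hs hxy.symm e.symm h3 (by rw [hyz]; exact hzu) _ t
  by_cases hyu : y.1 = u.1
  · have e := key h4 hyu
    rw [C.sys.X_swap hxy, C.sys.X_swap hzu]
    exact hs hxy.symm e.symm h1 (by rw [hyu]; exact hzu.symm) _ _
  exact C.l5 hxy hxz hxu hyz hyu hzu s t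

/-- lifts of commuting long and short root elements commute -/
theorem hZX {x y z : ι × Bool} (hyz : y.1 ≠ z.1) (h1 : y ≠ neg x) (h2 : z ≠ neg x) (p : A) (t : F) :
    C.ce.lc (X y z t) (Z x p) = 1 := by
  have key : ∀ {a b : ι × Bool}, b ≠ neg a → a.1 = b.1 → b = a := by
    intro a b hab h
    obtain ⟨a, s⟩ := a
    obtain ⟨b, t⟩ := b
    simp only at h
    subst h
    cases s <;> cases t <;> simp_all [neg]
  by_cases hxy : x.1 = y.1
  · have e := key h1 hxy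
    subst e
    exact C.l3 hyz t p
  by_cases hxz : x.1 = z.1
  · have e := key h2 hxz
    subst e
    rw [C.sys.X_swap hyz]
    exact C.l3 hyz.symm _ p
  rw [C.ce.lc_swap, C.l6 hxy hyz hxz, inv_one]

/-- (H3) -/
theorem hXXX {x y z : ι × Bool} (hxy : x.1 ≠ y.1) (hyz : y.1 ≠ z.1) (hxz : x.1 ≠ z.1) (s t : F) :
    ⁅C.Xh x y s, C.Xh (neg y) z t⁆ = C.Xh x z (s * t) := by
  have hyz' : (neg y).1 ≠ z.1 := hyz
  obtain ⟨d, e, hd, h1, h2, h3, h4, h5, h6⟩ := C.sys.exists_sg2 hxy hxz hyz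
  obtain ⟨d, rfl⟩ := C.ce.surj d
  refine C.eq_Xh hd hxz (by rw [h1, h3, mul_one]) ?_ ?_
  · rw [map_commutatorElement, C.map_Xh hxy, C.map_Xh hyz', C.sys.XXX hxy hyz hxz]
  · rw [conjugate_commutatorElement, C.conj_Xh hd hxy, C.conj_Xh hd hyz', h1, h2, h3, h5, mul_one, neg_mul_neg, one_mul,
      one_mul, neg_one_mul, C.Xh_neg hyz']
    have e1 := C.ce.lc_mul_right' (X x y s) (X (neg y) z t) (X (neg y) z (-t))
    rw [← C.sys.X_add, add_neg_cancel, C.sys.X_zero, C.ce.lc_one_right, C.sys.XXX hxy hyz hxz] at e1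
    have e2 : C.ce.lc (X (neg y) z t) (X x z (s * -t)) = 1 := by
      rw [C.sys.X_swap hyz', C.sys.X_swap hxz]
      exact C.l2 (y := neg y) hyz.symm hxy.symm hxz.symm _ _
    rw [e2, mul_one] at e1
    rw [← C.Xh_neg hyz', C.ce.comm_eq, C.ce.comm_eq, C.map_Xh hxy, C.map_Xh hyz', C.map_Xh hyz']
    exact eq_inv_of_mul_eq_one_right e1.symm

/-- (H4) -/
theorem hZZ {x y : ι × Bool} (hxy : x.1 ≠ y.1) (p q : A) : ⁅C.Zh x p, C.Zh y q⁆ = C.Xh x y (B p q) := by
  obtain ⟨d, e, hd, h1, h2, -, -⟩ := C.sys.exists_sg C.big hxy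
  obtain ⟨d, rfl⟩ := C.ce.surj d
  refine C.eq_Xh hd hxy (by rw [h1, h2, mul_one]) ?_ ?_
  · rw [map_commutatorElement, C.map_Zh, C.map_Zh, C.sys.ZZ hxy]
  · rw [conjugate_commutatorElement, C.conj_Zh hd, C.conj_Zh hd, h1, h2, one_smul, neg_one_smul]
    have e1 := C.ce.lc_mul_left' (Z x (-p)) (Z x p) (Z y q)
    rw [← C.sys.Z_add, neg_add_cancel, C.sys.Z_zero, C.ce.lc_one_left, C.sys.ZZ hxy] at e1
    have e2 : C.ce.lc (Z x (-p)) (X x y (B p q)) = 1 := by
      rw [C.ce.lc_swap, C.l3 hxy, inv_one]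
    rw [e2, one_mul] at e1
    rw [C.ce.comm_eq, C.ce.comm_eq, C.map_Zh, C.map_Zh, C.map_Zh]
    exact eq_inv_of_mul_eq_one_right e1.symm

/-- (H5) -/
theorem hXZ {x y : ι × Bool} (hxy : x.1 ≠ y.1) (t : F) (p : A) :
    ⁅C.Xh x (neg y) t, C.Zh y p⁆ = C.Zh x (t • p) * C.Xh x y (N p * t) := by
  have hxy' : x.1 ≠ (neg y).1 := hxy
  obtain ⟨d, e, hd, h1, h2, h3, h4⟩ := C.sys.exists_sg C.big hxy
  obtain ⟨d, rfl⟩ := C.ce.surj d
  set g := ⁅C.Xh x (neg y) t, C.Zh y p⁆ with hg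
  set a := C.Zh x (t • p) with ha
  set b := C.Xh x y (N p * t) with hb
  have hgp : π g = π (a * b) := by
    rw [hg, map_commutatorElement, C.map_Xh hxy', C.map_Zh, C.sys.XZ hxy, map_mul, ha, hb, C.map_Zh, C.map_Xh hxy]
  set z := g * (a * b)⁻¹ with hz
  have hz1 : π z = 1 := by rw [hz, map_mul, map_inv, hgp, mul_inv_cancel]
  have hzc : ∀ k, k * z = z * k := fun k => Subgroup.mem_center_iff.1 (C.ce.cen (MonoidHom.mem_ker.2 hz1)) k
  have hgz : g = z * (a * b) := by rw [hz]; group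
  -- `g` is inverted
  have e1 : d * g * d⁻¹ = g⁻¹ := by
    rw [hg, conjugate_commutatorElement, C.conj_Xh hd hxy', C.conj_Zh hd, h1, h2, h4, one_smul, mul_one, neg_one_mul]
    have e1 := C.ce.lc_mul_left' (X x (neg y) (-t)) (X x (neg y) t) (Z y p)
    rw [← C.sys.X_add, neg_add_cancel, C.sys.X_zero, C.ce.lc_one_left, C.sys.XZ hxy] at e1
    have e2 : C.ce.lc (X x (neg y) (-t)) (Z x (t • p) * X x y (N p * t)) = 1 := by
      rw [C.ce.lc_mul_right (C.sys.XXn hxy _ _).symm, C.l3 hxy', one_mul, C.ce.lc_swap, C.l4 hxy, inv_one]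
    rw [e2, one_mul] at e1
    rw [C.ce.comm_eq, C.ce.comm_eq, C.map_Zh, C.map_Xh hxy', C.map_Xh hxy']
    exact eq_inv_of_mul_eq_one_right e1.symm
  have hab : Commute a b := (C.comm_XZ hxy (C.l3 hxy _ _)).symm
  have e2 : d * (a * b) * d⁻¹ = (a * b)⁻¹ := by
    have e3 : d * (a * b) * d⁻¹ = (d * a * d⁻¹) * (d * b * d⁻¹) := by group
    rw [e3, ha, hb, C.conj_Zh hd, C.conj_Xh hd hxy, h1, h2, mul_one, neg_one_smul, neg_one_mul, C.Zh_neg, C.Xh_neg hxy,
      ← ha, ← hb, mul_inv_rev, hab.inv_inv.eq]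
  have e3 : z * (a * b)⁻¹ = g⁻¹ := by
    rw [← e1, hgz, ← e2]
    calc z * (d * (a * b) * d⁻¹) = (z * d) * (a * b) * d⁻¹ := by group
      _ = (d * z) * (a * b) * d⁻¹ := by rw [← hzc d]
      _ = d * (z * (a * b)) * d⁻¹ := by group
  have e4 : z * (a * b)⁻¹ = z⁻¹ * (a * b)⁻¹ := by
    rw [e3, hgz]
    have := hzc (a * b)
    rw [← mul_inv_rev, ← this]
  have e5 : z = z⁻¹ := mul_right_cancel e4
  have e6 : z = 1 := by
    apply C.odd z hz1
    nth_rw 2 [e5]; rw [mul_inv_cancel]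
  rw [hgz, e6, one_mul]

end Sit

end Cfsg.Agent.H63.Ort
end

-- part: H63/OInst
section
/-!
# The root elements of `PΩ` satisfy the relations of `OSys`

`W` a Witt frame of a quadratic form `Q`, `φ : E Q →* Y`, `2 ≠ 0`: `Xq W φ x y t`, `Zq W φ x w` (`w ∈ V₀`).
-/

set_option autoImplicit false

namespace Cfsg.Agent.H63.Ort

open QuadraticMap
open Cfsg.Agent.LieClassical Cfsg.Agent.LieClassical.OrthCore
open Cfsg.Agent.TitsThree.Siegel Cfsg.Agent.TitsThree.SiegelGen Cfsg.Agent.TitsThree.WittFrame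
open Cfsg.Agent.TitsThree.WBridge Cfsg.Agent.TitsThree.KSideO Cfsg.Agent.TitsThree.WittWeyl
open scoped commutatorElement

variable {κ : Type} {F : Type*} [Field F] {Q : QuadraticForm F (κ → F)} {m : ℕ} (W : WFrame (PO Q) m)

/-- the admissible pair `(w, - Q w)` -/
def pr (w : W.V0) : (toFrame W).Adm := ⟨w.1, -Q w.1, w.2, rfl⟩

theorem pr_add (w w' : W.V0) : pr W (w + w') = pr W w * pr W w' := by
  apply Frame.Adm.ext
  · rfl
  · show -Q (w.1 + w'.1) = -Q w.1 + -Q w'.1 - (1 : F)⁻¹ * polar Q w'.1 w.1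
    rw [Q_add, polar_comm Q w'.1 w.1]; ring

theorem pr_smul (a : F) (w : W.V0) : pr W (a • w) = Frame.Adm.smul a (pr W w) := by
  apply Frame.Adm.ext
  · rfl
  · show -Q (a • w.1) = a * a * -Q w.1
    rw [QuadraticMap.map_smul, smul_eq_mul]; ring

theorem exists_pr (p : (toFrame W).Adm) : ∃ w, p = pr W w := by
  refine ⟨⟨p.w, p.ok.1⟩, ?_⟩
  apply Frame.Adm.ext
  · rfl
  · exact p.ok.2

theorem eta_eq (x : Fin m × Bool) : (toFrame W).η x = 1 := by
  rw [Frame.η]; split_ifs <;> rfl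

variable {Y : Type*} [Group Y] (φ : E Q →* Y)

/-- long root elements -/
noncomputable def Xq (x y : Fin m × Bool) (t : F) : Y := φ ⟨(toFrame W).X x y t, X_mem W x y t⟩

/-- short root elements -/
noncomputable def Zq (x : Fin m × Bool) (w : W.V0) : Y := φ ⟨(toFrame W).Z x (pr W w), Z_mem W x _⟩

/-- `g` is diagonal with respect to the frame and trivial on `V₀`. -/
def Diag (g : (κ → F) ≃ₗ[F] (κ → F)) : Prop :=
  (∀ x, ∃ c : F, c ≠ 0 ∧ g ((toFrame W).b x) = c • (toFrame W).b x) ∧ ∀ w ∈ W.V0, g w = w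

theorem Diag.mul {g k : (κ → F) ≃ₗ[F] (κ → F)} (hg : Diag W g) (hk : Diag W k) : Diag W (g * k) := by
  refine ⟨fun x => ?_, fun w hw => ?_⟩
  · obtain ⟨c, hc, e⟩ := hg.1 x
    obtain ⟨d, hd, e'⟩ := hk.1 x
    exact ⟨d * c, mul_ne_zero hd hc, by rw [mul_apply', e', map_smul, e, smul_smul]⟩
  · rw [mul_apply', hk.2 w hw, hg.2 w hw]

theorem Diag.inv {g : (κ → F) ≃ₗ[F] (κ → F)} (hg : Diag W g) : Diag W g⁻¹ := by
  refine ⟨fun x => ?_, fun w hw => ?_⟩
  · obtain ⟨c, hc, e⟩ := hg.1 x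
    refine ⟨c⁻¹, inv_ne_zero hc, ?_⟩
    apply g.injective
    rw [← mul_apply', mul_inv_cancel, map_smul, e, smul_smul, inv_mul_cancel₀ hc, one_smul]
    rfl
  · apply g.injective
    rw [← mul_apply', mul_inv_cancel, hg.2 w hw]
    rfl

theorem Diag.one : Diag W 1 := ⟨fun x => ⟨1, one_ne_zero, by rw [one_smul]; rfl⟩, fun _ _ => rfl⟩

theorem Diag.comm {g k : (κ → F) ≃ₗ[F] (κ → F)} (hg : Diag W g) (hk : Diag W k) : g * k = k * g := by
  have hb : ∀ x, g (k ((toFrame W).b x)) = k (g ((toFrame W).b x)) := by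
    intro x
    obtain ⟨c, hc, e⟩ := hg.1 x
    obtain ⟨d, hd, e'⟩ := hk.1 x
    rw [e', e, map_smul, map_smul, e, e', smul_comm]
  ext1 v
  obtain ⟨a, b, w, hw, e⟩ := W.span v
  have h1 : ∀ i, g (k (W.e i)) = k (g (W.e i)) := fun i => hb (i, true)
  have h2 : ∀ i, g (k (W.f i)) = k (g (W.f i)) := fun i => hb (i, false)
  rw [mul_apply', mul_apply', e]
  simp only [map_add, map_sum, map_smul, h1, h2, hk.2 w hw, hg.2 w hw]

/-- The torus. -/
def Tq : Subgroup Y where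
  carrier := {k | ∃ (g : (κ → F) ≃ₗ[F] (κ → F)) (hg : g ∈ E Q), Diag W g ∧ k = φ ⟨g, hg⟩}
  one_mem' := ⟨1, one_mem _, Diag.one W, (map_one φ).symm⟩
  mul_mem' := by
    rintro _ _ ⟨g, hg, hg', rfl⟩ ⟨k, hk, hk', rfl⟩
    exact ⟨g * k, mul_mem hg hk, hg'.mul W hk', (map_mul φ ⟨g, hg⟩ ⟨k, hk⟩).symm⟩
  inv_mem' := by
    rintro _ ⟨g, hg, hg', rfl⟩
    exact ⟨g⁻¹, inv_mem hg, hg'.inv W, (map_inv φ ⟨g, hg⟩).symm⟩

theorem nX_mem (x y : Fin m × Bool) (t : F) : nX (toFrame W) x y t ∈ E Q :=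
  mul_mem (mul_mem (X_mem W _ _ _) (X_mem W _ _ _)) (X_mem W _ _ _)

theorem nZ_mem (x : Fin m × Bool) (p : (toFrame W).Adm) : nZ (toFrame W) x p ∈ E Q :=
  mul_mem (mul_mem (Z_mem W _ _) (Z_mem W _ _)) (Z_mem W _ _)

/-- conjugation of long root elements by monomial isometries -/
theorem conj_Xq {g : (κ → F) ≃ₗ[F] (κ → F)} (hg : g ∈ E Q) (hi : (HO Q).IsIso g) {x y x' y' : Fin m × Bool}
    (h : x.1 ≠ y.1) (h' : x'.1 ≠ y'.1) {l c : F} (hx : g ((toFrame W).b x) = l • (toFrame W).b x')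
    (hy : g ((toFrame W).b y) = c • (toFrame W).b y') (t : F) :
    φ ⟨g, hg⟩ * Xq W φ x y t * (φ ⟨g, hg⟩)⁻¹ = Xq W φ x' y' (l * c * t) := by
  unfold Xq
  rw [← map_inv, ← map_mul, ← map_mul]
  congr 1
  apply Subtype.ext
  show g * (toFrame W).X x y t * g⁻¹ = (toFrame W).X x' y' (l * c * t)
  rw [conj_X (toFrame W) hi h h' hx hy, eta_eq, eta_eq]
  congr 1
  show l * c * 1⁻¹ * 1 * t = l * c * t
  ring

/-- conjugation of short root elements by monomial isometries -/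
theorem conj_Zq {g : (κ → F) ≃ₗ[F] (κ → F)} (hg : g ∈ E Q) (hi : (HO Q).IsIso g) {x x' : Fin m × Bool}
    {l : F} (hx : g ((toFrame W).b x) = l • (toFrame W).b x') {w w' : W.V0} (hw : g w.1 = w'.1) :
    φ ⟨g, hg⟩ * Zq W φ x w * (φ ⟨g, hg⟩)⁻¹ = Zq W φ x' (l • w') := by
  unfold Zq
  rw [← map_inv, ← map_mul, ← map_mul]
  congr 1
  apply Subtype.ext
  show g * (toFrame W).Z x (pr W w) * g⁻¹ = (toFrame W).Z x' (pr W (l • w'))
  rw [conj_Z (toFrame W) hi hx (pr W w) (pr W w') hw, pr_smul]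
  · rfl
  · show -Q w.1 = -Q w'.1
    rw [← hw, mem_O.1 (E_le_O hg)]

section apply

variable (Q) in
theorem inv_apply_eq {g : (κ → F) ≃ₗ[F] (κ → F)} {v w : κ → F} (h : g v = w) : g⁻¹ w = v := by
  rw [← h, ← mul_apply', inv_mul_cancel]; rfl

variable {x y : Fin m × Bool} (h : x.1 ≠ y.1) {t : F} (ht : t ≠ 0)
include h ht

theorem nXa : nX (toFrame W) x y t ((toFrame W).b (neg y)) = t • (toFrame W).b x := nX_apply_neg _ h ht

theorem nXb : nX (toFrame W) x y t ((toFrame W).b x) = (-t⁻¹) • (toFrame W).b (neg y) := by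
  rw [nX_apply_self _ h ht, neg_smul]

theorem nXc : nX (toFrame W) x y t ((toFrame W).b (neg x)) = (-t) • (toFrame W).b y := by
  rw [nX_apply_neg' _ h ht, neg_smul, eta_eq, eta_eq]
  congr 2
  show (1 : F)⁻¹ * 1 * 1 * t = t
  simp

theorem nXd : nX (toFrame W) x y t ((toFrame W).b y) = t⁻¹ • (toFrame W).b (neg x) := by
  rw [nX_apply_self' _ h ht, eta_eq, eta_eq]
  congr 2
  show (1 : F)⁻¹ * 1 * 1 * t = t
  simp

end apply

/-- The torus element `h_{x,y}(c)`. -/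
noncomputable def hh (x y : Fin m × Bool) (c : F) : (κ → F) ≃ₗ[F] (κ → F) :=
  nX (toFrame W) x y c * (nX (toFrame W) x y 1)⁻¹

theorem hh_mem (x y : Fin m × Bool) (c : F) : hh W x y c ∈ E Q := mul_mem (nX_mem W _ _ _) (inv_mem (nX_mem W _ _ _))

theorem isIso_of_mem {g : (κ → F) ≃ₗ[F] (κ → F)} (hg : g ∈ E Q) : (HO Q).IsIso g :=
  fun v w => polar_map (E_le_O hg) v w

theorem ne_neg_iff {a b : Fin m × Bool} (h : b ≠ neg a) (h' : a.1 = b.1) : b = a := by
  obtain ⟨a, s⟩ := a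
  obtain ⟨b, t⟩ := b
  simp only at h'
  subst h'
  cases s <;> cases t <;> simp_all [neg]

theorem hh_apply {x y : Fin m × Bool} (h : x.1 ≠ y.1) {c : F} (hc : c ≠ 0) (a : Fin m × Bool) :
    hh W x y c ((toFrame W).b a) = chi x y c a • (toFrame W).b a := by
  have h1 : (1 : F) ≠ 0 := one_ne_zero
  rw [hh, mul_apply']
  by_cases ha : a.1 = x.1
  · by_cases hax : a = x
    · subst hax
      rw [chi_left]
      have e : (nX (toFrame W) a y 1)⁻¹ ((toFrame W).b a) = (toFrame W).b (neg y) := by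
        apply inv_apply_eq
        rw [nXa W h h1, one_smul]
      rw [e, nXa W h hc]
    · have hax' : a = neg x := by
        by_contra hcon
        exact hax (ne_neg_iff hcon ha.symm)
      subst hax'
      rw [chi_neg_left h]
      have e : (nX (toFrame W) x y 1)⁻¹ ((toFrame W).b (neg x)) = (toFrame W).b y := by
        apply inv_apply_eq
        rw [nXd W h h1, inv_one, one_smul]
      rw [e, nXd W h hc]
  · by_cases ha' : a.1 = y.1
    · by_cases hay : a = y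
      · subst hay
        rw [chi_right]
        have e : (nX (toFrame W) x a 1)⁻¹ ((toFrame W).b a) = -(toFrame W).b (neg x) := by
          apply inv_apply_eq
          rw [map_neg, nXc W h h1, neg_smul, one_smul, _root_.neg_neg]
        rw [e, map_neg, nXc W h hc, neg_smul, _root_.neg_neg]
      · have hay' : a = neg y := by
          by_contra hcon
          exact hay (ne_neg_iff hcon ha'.symm)
        subst hay'
        rw [chi_neg_right h]
        have e : (nX (toFrame W) x y 1)⁻¹ ((toFrame W).b (neg y)) = -(toFrame W).b x := by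
          apply inv_apply_eq
          rw [map_neg, nXb W h h1, neg_smul, inv_one, one_smul, _root_.neg_neg]
        rw [e, map_neg, nXb W h hc, neg_smul, _root_.neg_neg]
    · rw [chi_of_ne ha ha', one_smul]
      have e : (nX (toFrame W) x y 1)⁻¹ ((toFrame W).b a) = (toFrame W).b a := by
        apply inv_apply_eq
        rw [nX_apply_of_ne _ h ha ha']
      rw [e, nX_apply_of_ne _ h ha ha']

theorem hh_apply_V0 {x y : Fin m × Bool} (h : x.1 ≠ y.1) (c : F) {w : κ → F} (hw : w ∈ W.V0) :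
    hh W x y c w = w := by
  have e : (nX (toFrame W) x y 1)⁻¹ w = w := by
    apply inv_apply_eq
    rw [nX_apply_V0 _ h hw]
  rw [hh, mul_apply', e, nX_apply_V0 _ h hw]

theorem chi_ne_zero (x y : Fin m × Bool) {c : F} (hc : c ≠ 0) (a : Fin m × Bool) : chi x y c a ≠ 0 := by
  unfold chi
  split_ifs
  · exact hc
  · exact inv_ne_zero hc
  · exact one_ne_zero

/-- **The relations of the root elements.** -/
theorem osys (h2 : (2 : F) ≠ 0) :
    OSys (Tq W φ) (Xq W φ) (Zq W φ) (fun p q => -polar Q p.1 q.1) (fun p => Q p.1) where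
  two := h2
  comm := by
    rintro _ ⟨g, hg, hg', rfl⟩ _ ⟨k, hk, hk', rfl⟩
    rw [← map_mul, ← map_mul]
    congr 1
    exact Subtype.ext (hg'.comm W hk')
  X_add x y s t := by
    unfold Xq
    rw [← map_mul]
    congr 1
    exact Subtype.ext ((toFrame W).X_add x y s t)
  Z_add x p q := by
    unfold Zq
    rw [← map_mul]
    congr 1
    apply Subtype.ext
    show (toFrame W).Z x (pr W (p + q)) = (toFrame W).Z x (pr W p) * (toFrame W).Z x (pr W q)
    rw [pr_add, Frame.Z_mul]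
  X_swap {x y} hxy t := by
    unfold Xq
    congr 1
    apply Subtype.ext
    show (toFrame W).X x y t = (toFrame W).X y x (-t)
    rw [(toFrame W).X_swap hxy, eta_eq, eta_eq]
    congr 2
    show (1 : F)⁻¹ * 1 * 1 * t = t
    simp
  XX {x y z u} _ _ h1 h2 h3 h4 s t := by
    have e := (toFrame W).commute_XX h1 h2 h3 h4 s t
    have e' : Commute (⟨(toFrame W).X x y s, X_mem W x y s⟩ : E Q) ⟨(toFrame W).X z u t, X_mem W z u t⟩ :=
      Subtype.ext e.eq
    exact e'.map φ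
  XXX {x y z} hxy hyz hxz s t := by
    unfold Xq
    rw [← map_commutatorElement]
    congr 1
    apply Subtype.ext
    show ⁅(toFrame W).X x y s, (toFrame W).X (neg y) z t⁆ = (toFrame W).X x z (s * t)
    rw [commutatorElement_def, (toFrame W).conj_X_X hxy hyz hxz]
    exact mul_inv_cancel_right _ _
  XXn {x y} hxy s t := by
    have e := (toFrame W).X_mul_X_same hxy s t
    have e1 : (Frame.Adm.tr ((HO Q).σ s * t * ((toFrame W).η (neg y))⁻¹) : (toFrame W).Adm) = 1 := by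
      apply Frame.Adm.ext
      · rfl
      · show _ - (1 : F)⁻¹ * _ = (0 : F)
        rw [inv_one, one_mul]
        exact sub_self _
    rw [e1, (toFrame W).Z_one, one_mul] at e
    have e' : Commute (⟨(toFrame W).X x y s, X_mem W x y s⟩ : E Q)
        ⟨(toFrame W).X x (neg y) t, X_mem W x (neg y) t⟩ := Subtype.ext e
    exact e'.map φ
  XZ {x y} hxy t p := by
    unfold Xq Zq
    rw [← map_commutatorElement, ← map_mul]
    congr 1
    apply Subtype.ext
    show ⁅(toFrame W).X x (neg y) t, (toFrame W).Z y (pr W p)⁆ =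
      (toFrame W).Z x (pr W (t • p)) * (toFrame W).X x y (Q p.1 * t)
    rw [commutatorElement_def, (toFrame W).conj_X_Z hxy, pr_smul, eta_eq]
    have e : -((HO Q).ε⁻¹ * 1 * (HO Q).σ (pr W p).c * t) = Q p.1 * t := by
      show -((1 : F)⁻¹ * 1 * (-Q p.1) * t) = Q p.1 * t
      rw [inv_one]; ring
    rw [e]
    exact mul_inv_cancel_right _ _
  ZZ {x y} hxy p q := by
    unfold Xq Zq
    rw [← map_commutatorElement]
    congr 1
    apply Subtype.ext
    show ⁅(toFrame W).Z x (pr W p), (toFrame W).Z y (pr W q)⁆ = (toFrame W).X x y (-polar Q p.1 q.1)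
    rw [commutatorElement_def, (toFrame W).Z_mul_Z hxy, eta_eq]
    have e : -(1 * (HO Q).σ ((HO Q).h (pr W p).w (pr W q).w)) = -polar Q p.1 q.1 := by
      rw [one_mul]; rfl
    rw [e]
    group
  ZX {x y z} _ h1 h2 p t := by
    have e := (toFrame W).commute_ZX h1 h2 (pr W p) t
    have e' : Commute (⟨(toFrame W).Z x (pr W p), Z_mem W x _⟩ : E Q)
        ⟨(toFrame W).X y z t, X_mem W y z t⟩ := Subtype.ext e.eq
    exact e'.map φ
  tor {x y} hxy c hc := by
    refine ⟨φ ⟨hh W x y c, hh_mem W x y c⟩, ⟨hh W x y c, hh_mem W x y c, ⟨fun a => ?_, fun w hw => ?_⟩, rfl⟩,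
      fun a b hab t => ?_, fun a p => ?_⟩
    · exact ⟨chi x y c a, chi_ne_zero x y hc a, hh_apply W hxy hc a⟩
    · exact hh_apply_V0 W hxy c hw
    · exact conj_Xq W φ (hh_mem W x y c) (isIso_of_mem (hh_mem W x y c)) hab hab (hh_apply W hxy hc a)
        (hh_apply W hxy hc b) t
    · exact conj_Zq W φ (hh_mem W x y c) (isIso_of_mem (hh_mem W x y c)) (hh_apply W hxy hc a)
        (hh_apply_V0 W hxy c p.2)
  swap {x y z} hxy hyz hxz := by
    have h1 : (1 : F) ≠ 0 := one_ne_zero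
    have hyz' : y.1 ≠ (neg z).1 := hyz
    have hm : nX (toFrame W) y z 1 * nX (toFrame W) y (neg z) 1 ∈ E Q := mul_mem (nX_mem W _ _ _) (nX_mem W _ _ _)
    have ex : (nX (toFrame W) y z 1 * nX (toFrame W) y (neg z) 1) ((toFrame W).b x) = (1 : F) • (toFrame W).b x := by
      rw [mul_apply', nX_apply_of_ne _ hyz' hxy hxz, nX_apply_of_ne _ hyz hxy hxz, one_smul]
    have ey : (nX (toFrame W) y z 1 * nX (toFrame W) y (neg z) 1) ((toFrame W).b y) =
        (-1 : F) • (toFrame W).b (neg y) := by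
      rw [mul_apply', nXb W hyz' h1, map_smul, neg_neg]
      have := nXd W hyz h1
      rw [this, smul_smul]
      congr 1
      simp
    have ey' : (nX (toFrame W) y z 1 * nX (toFrame W) y (neg z) 1) ((toFrame W).b (neg y)) =
        (-1 : F) • (toFrame W).b y := by
      rw [mul_apply', nXc W hyz' h1, map_smul, nXa W hyz h1, smul_smul, mul_one]
    refine ⟨φ ⟨_, hm⟩, fun t => ?_, fun t => ?_⟩
    · rw [conj_Xq W φ hm (isIso_of_mem hm) hxy (show x.1 ≠ (neg y).1 from hxy) ex ey]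
      congr 1
      ring
    · rw [conj_Xq W φ hm (isIso_of_mem hm) (show x.1 ≠ (neg y).1 from hxy) hxy ex ey']
      congr 1
      ring
  swap' {x y z u} hxy hxz hxu hyz hyu hzu := by
    have h1 : (1 : F) ≠ 0 := one_ne_zero
    have hxz' : x.1 ≠ (neg z).1 := hxz
    have hyu' : y.1 ≠ (neg u).1 := hyu
    have hm : nX (toFrame W) x (neg z) 1 * nX (toFrame W) y (neg u) 1 ∈ E Q :=
      mul_mem (nX_mem W _ _ _) (nX_mem W _ _ _)
    have ex : (nX (toFrame W) x (neg z) 1 * nX (toFrame W) y (neg u) 1) ((toFrame W).b x) =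
        (-1 : F) • (toFrame W).b z := by
      rw [mul_apply', nX_apply_of_ne _ hyu' hxy hxu, nXb W hxz' h1, neg_neg, inv_one]
    have ey : (nX (toFrame W) x (neg z) 1 * nX (toFrame W) y (neg u) 1) ((toFrame W).b y) =
        (-1 : F) • (toFrame W).b u := by
      rw [mul_apply', nXb W hyu' h1, map_smul, neg_neg, nX_apply_of_ne _ hxz' hxu.symm hzu.symm, inv_one]
    have ez : (nX (toFrame W) x (neg z) 1 * nX (toFrame W) y (neg u) 1) ((toFrame W).b z) =
        (1 : F) • (toFrame W).b x := by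
      rw [mul_apply', nX_apply_of_ne _ hyu' hyz.symm hzu]
      have := nXa W hxz' h1
      rw [neg_neg] at this
      exact this
    have eu : (nX (toFrame W) x (neg z) 1 * nX (toFrame W) y (neg u) 1) ((toFrame W).b u) =
        (1 : F) • (toFrame W).b y := by
      have := nXa W hyu' h1
      rw [neg_neg] at this
      rw [mul_apply', this, map_smul, nX_apply_of_ne _ hxz' hxy.symm hyz]
    refine ⟨φ ⟨_, hm⟩, fun t => ?_, fun t => ?_⟩
    · rw [conj_Xq W φ hm (isIso_of_mem hm) hxy hzu ex ey]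
      congr 1
      ring
    · rw [conj_Xq W φ hm (isIso_of_mem hm) hzu hxy ez eu]
      congr 1
      ring

end Cfsg.Agent.H63.Ort
end

-- part: H63/OType
section
/-!
# The lifted root groups indexed by the roots of type `C_n`, `D_n`

`C : Sit T X Z B N π` : `PG C a b` lifted root groups, `rgC`, `rgD` the root groups of the roots; commutator
relations `comm_rgC`, `comm_rgD`.
-/

set_option autoImplicit false

namespace Cfsg.Agent.H63.Ort

open Cfsg.Agent.KFacts.Mult.Calc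
open Cfsg.Agent.TitsThree.WittFrame (neg neg_neg neg_fst)
open Cfsg.Agent.ChevalleyStructure.CoxeterGeom Cfsg.Agent.Tits.Roots
open Cfsg.Agent.Nodes.Comb Cfsg.Agent.Nodes.Reps
open Cfsg.Agent.Nodes.TypeC (wt ng ng_ng ng_fst ng_snd wt_ng)
open scoped commutatorElement

variable {n : ℕ} {F : Type*} [Field F] {A : Type*} [AddCommGroup A] [Module F A]
  {Y : Type*} [Group Y] {T : Subgroup Y} {X : Fin n × Bool → Fin n × Bool → F → Y} {Z : Fin n × Bool → A → Y}
  {B : A → A → F} {N : A → F} {L : Type*} [Group L] {π : L →* Y} (C : Sit T X Z B N π)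

namespace Sit

theorem Xh_of_eq {x y : Fin n × Bool} (hxy : x.1 = y.1) (t : F) : C.Xh x y t = 1 := dif_neg (not_not.2 hxy)

theorem Xh_add' (x y : Fin n × Bool) (s t : F) : C.Xh x y (s + t) = C.Xh x y s * C.Xh x y t := by
  by_cases hxy : x.1 = y.1
  · rw [C.Xh_of_eq hxy, C.Xh_of_eq hxy, C.Xh_of_eq hxy, mul_one]
  · exact C.Xh_add hxy s t

theorem Xh_zero' (x y : Fin n × Bool) : C.Xh x y 0 = 1 := by
  have := C.Xh_add' x y 0 0
  rw [add_zero] at this
  exact (mul_eq_left.mp this.symm)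

theorem Xh_neg' (x y : Fin n × Bool) (t : F) : C.Xh x y (-t) = (C.Xh x y t)⁻¹ := by
  rw [eq_inv_iff_mul_eq_one, ← C.Xh_add', neg_add_cancel, C.Xh_zero']

/-- long lifted root groups -/
def XG (a b : Fin n × Bool) : Subgroup L where
  carrier := {g | ∃ t, g = C.Xh a b t}
  one_mem' := ⟨0, (C.Xh_zero' a b).symm⟩
  mul_mem' := by
    rintro _ _ ⟨s, rfl⟩ ⟨t, rfl⟩
    exact ⟨s + t, (C.Xh_add' a b s t).symm⟩
  inv_mem' := by
    rintro _ ⟨t, rfl⟩
    exact ⟨-t, (C.Xh_neg' a b t).symm⟩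

/-- short lifted root groups -/
def ZG (a : Fin n × Bool) : Subgroup L where
  carrier := {g | ∃ p, g = C.Zh a p}
  one_mem' := ⟨0, (C.Zh_zero a).symm⟩
  mul_mem' := by
    rintro _ _ ⟨s, rfl⟩ ⟨t, rfl⟩
    exact ⟨s + t, (C.Zh_add a s t).symm⟩
  inv_mem' := by
    rintro _ ⟨t, rfl⟩
    exact ⟨-t, (C.Zh_neg a t).symm⟩

theorem XG_swap {a b : Fin n × Bool} (h : a.1 ≠ b.1) : C.XG a b = C.XG b a := by
  apply le_antisymm
  · rintro _ ⟨t, rfl⟩; exact ⟨_, C.Xh_swap h t⟩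
  · rintro _ ⟨t, rfl⟩; exact ⟨_, C.Xh_swap h.symm t⟩

/-- The lifted root group of a pair of signed indices. -/
def PG (a b : Fin n × Bool) : Subgroup L := if a = b then C.ZG a else C.XG a b

theorem PG_self (a : Fin n × Bool) : C.PG a a = C.ZG a := if_pos rfl
theorem PG_ne {a b : Fin n × Bool} (h : a.1 ≠ b.1) : C.PG a b = C.XG a b :=
  if_neg fun h' => h (congrArg Prod.fst h')

/-! ### Elements of the kernel -/

theorem X_nc {a b : Fin n × Bool} (h : a.1 ≠ b.1) {g : L} (hg : g ∈ C.XG a b) (h1 : π g = 1) : g = 1 := by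
  obtain ⟨t, rfl⟩ := hg
  obtain ⟨d, e, hd, e1, e2, -, -⟩ := C.sys.exists_sg C.big h
  obtain ⟨d, rfl⟩ := C.ce.surj d
  have h2 := C.conj_Xh hd h t
  rw [e1, e2, mul_one, neg_one_mul, C.Xh_neg h] at h2
  have h3 := Subgroup.mem_center_iff.1 (C.ce.cen (MonoidHom.mem_ker.2 h1)) d
  rw [h3, mul_inv_cancel_right] at h2
  apply C.odd _ h1
  nth_rw 2 [h2]
  rw [mul_inv_cancel]

theorem Z_nc {a : Fin n × Bool} {g : L} (hg : g ∈ C.ZG a) (h1 : π g = 1) : g = 1 := by
  obtain ⟨t, rfl⟩ := hg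
  obtain ⟨y, hxy, -⟩ := C.big.third a a
  obtain ⟨d, e, hd, e1, e2, -, -⟩ := C.sys.exists_sg C.big hxy
  obtain ⟨d, rfl⟩ := C.ce.surj d
  have h2 := C.conj_Zh hd a t
  rw [e1, neg_one_smul, C.Zh_neg] at h2
  have h3 := Subgroup.mem_center_iff.1 (C.ce.cen (MonoidHom.mem_ker.2 h1)) d
  rw [h3, mul_inv_cancel_right] at h2
  apply C.odd _ h1
  nth_rw 2 [h2]
  rw [mul_inv_cancel]

/-! ### Type `C_n` -/

section TypeC

open Cfsg.Agent.Nodes.TypeC

/-- The lifted root group of a root of type `C_n`. -/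
def rgC (x : Fin n → ℤ) : Subgroup L :=
  ⨆ q : {q : (Fin n × Bool) × (Fin n × Bool) // Ok q.1 q.2 ∧ ee x = wt q.1 + wt q.2}, C.PG q.1.1 q.1.2

theorem PG_swap {a b : Fin n × Bool} (h : Ok a b) : C.PG a b = C.PG b a := by
  rcases h with h | rfl
  · rw [C.PG_ne h, C.PG_ne h.symm, C.XG_swap h]
  · rfl

theorem rgC_eq {x : Fin n → ℤ} {a b : Fin n × Bool} (hab : Ok a b) (e : ee x = wt a + wt b) :
    C.rgC x = C.PG a b := by
  apply le_antisymm
  · refine iSup_le ?_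
    rintro ⟨⟨c, d⟩, hcd, e'⟩
    rcases wt_add_eq hab hcd (e.symm.trans e') with ⟨rfl, rfl⟩ | ⟨rfl, rfl⟩
    · exact le_rfl
    · exact (C.PG_swap hcd).le
  · exact le_iSup (fun q : {q : (Fin n × Bool) × (Fin n × Bool) // Ok q.1 q.2 ∧ ee x = wt q.1 + wt q.2} =>
      C.PG q.1.1 q.1.2) ⟨(a, b), hab, e⟩

variable {W : Type*} [Group W] (cs : CoxeterSystem (CoxeterMatrix.B n) W)

theorem PG_le_btw {x y : Fin n → ℤ} {u v : Fin n × Bool} (huv : Ok u v) {m c d : ℤ} (hm : 0 < m) (hc : 0 < c)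
    (hd : 0 < d) (e : m • (wt u + wt v) = c • ee x + d • ee y) :
    C.PG u v ≤ btw cs (isCartan n) C.rgC x y := by
  obtain ⟨z, hz, ez⟩ := rt_of_ok (cs := cs) huv
  rw [← C.rgC_eq huv ez]
  refine le_btw_of ⟨hz, m, c, d, hm, hc, hd, ee_injective ?_⟩
  rw [ee_smul, ee_add, ee_smul, ee_smul, ez, e]

theorem comm_ZZ {x y : Fin n → ℤ} {a b : Fin n × Bool} (hab : a.1 ≠ b.1) (ex : ee x = wt a + wt a)
    (ey : ee y = wt b + wt b) {g k : L} (hg : g ∈ C.ZG a) (hk : k ∈ C.ZG b) :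
    ⁅g, k⁆ ∈ btw cs (isCartan n) C.rgC x y := by
  obtain ⟨p, rfl⟩ := hg
  obtain ⟨q, rfl⟩ := hk
  refine C.PG_le_btw cs (u := a) (v := b) (Or.inl hab) (m := 2) (c := 1) (d := 1) (by norm_num) one_pos one_pos ?_ ?_
  · rw [ex, ey, one_smul, one_smul, two_smul]; abel
  · rw [C.PG_ne hab, C.hZZ hab]
    exact ⟨_, rfl⟩

theorem comm_XZ' {x y : Fin n → ℤ} {a b : Fin n × Bool} (hab : a.1 ≠ b.1) (ex : ee x = wt a + wt (ng b))
    (ey : ee y = wt b + wt b) {g k : L} (hg : g ∈ C.XG a (ng b)) (hk : k ∈ C.ZG b) :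
    ⁅g, k⁆ ∈ btw cs (isCartan n) C.rgC x y := by
  obtain ⟨t, rfl⟩ := hg
  obtain ⟨p, rfl⟩ := hk
  have e2 : ⁅C.Xh a (ng b) t, C.Zh b p⁆ = _ := C.hXZ hab t p
  rw [e2]
  refine mul_mem ?_ ?_
  · refine C.PG_le_btw cs (u := a) (v := a) (Or.inr rfl) (m := 1) (c := 2) (d := 1) one_pos (by norm_num) one_pos ?_ ?_
    · rw [ex, ey, one_smul, one_smul, two_smul, wt_ng]; abel
    · rw [C.PG_self]; exact ⟨_, rfl⟩
  · refine C.PG_le_btw cs (u := a) (v := b) (Or.inl hab) (m := 1) (c := 1) (d := 1) one_pos one_pos one_pos ?_ ?_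
    · rw [ex, ey, one_smul, one_smul, one_smul, wt_ng]; abel
    · rw [C.PG_ne hab]; exact ⟨_, rfl⟩

theorem comm_XX_ne {x y : Fin n → ℤ} {a b d : Fin n × Bool} (hab : a.1 ≠ b.1) (hbd : b.1 ≠ d.1) (had : a.1 ≠ d.1)
    (ex : ee x = wt a + wt b) (ey : ee y = wt (ng b) + wt d) {g k : L} (hg : g ∈ C.XG a b)
    (hk : k ∈ C.XG (ng b) d) : ⁅g, k⁆ ∈ btw cs (isCartan n) C.rgC x y := by
  obtain ⟨s, rfl⟩ := hg
  obtain ⟨t, rfl⟩ := hk
  have e2 : ⁅C.Xh a b s, C.Xh (ng b) d t⁆ = _ := C.hXXX hab hbd had s t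
  rw [e2]
  refine C.PG_le_btw cs (u := a) (v := d) (Or.inl had) (m := 1) (c := 1) (d := 1) one_pos one_pos one_pos ?_ ?_
  · rw [ex, ey, one_smul, one_smul, one_smul, wt_ng]; abel
  · rw [C.PG_ne had]; exact ⟨_, rfl⟩

theorem comm_XX_eq {a b : Fin n × Bool} (hab : a.1 ≠ b.1) {g k : L} (hg : g ∈ C.XG a b)
    (hk : k ∈ C.XG a (ng b)) : ⁅g, k⁆ = 1 := by
  obtain ⟨s, rfl⟩ := hg
  obtain ⟨t, rfl⟩ := hk
  exact commutatorElement_eq_one_iff_commute.2 (C.comm_XX hab (show a.1 ≠ (ng b).1 from hab) (C.l4 hab s t))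

theorem comm_XX'' {x y : Fin n → ℤ} {a b c d : Fin n × Bool} (hab : a.1 ≠ b.1) (hcd : c.1 ≠ d.1) (hc : c = ng b)
    (ex : ee x = wt a + wt b) (ey : ee y = wt c + wt d) (hxy : x ≠ -y) {g k : L} (hg : g ∈ C.XG a b)
    (hk : k ∈ C.XG c d) : ⁅g, k⁆ ∈ btw cs (isCartan n) C.rgC x y := by
  subst hc
  by_cases had : a.1 = d.1
  · by_cases had' : d = a
    · subst had'
      rw [C.XG_swap hcd] at hk
      rw [C.comm_XX_eq hab hg hk]
      exact one_mem _
    · exfalso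
      have h1 : d = ng a := by
        obtain ⟨a, s⟩ := a
        obtain ⟨d, t⟩ := d
        simp only at had
        subst had
        cases s <;> cases t <;> simp_all [ng]
      apply hxy
      apply ee_injective
      rw [ee_neg, ex, ey, h1, wt_ng, wt_ng]; abel
  · exact C.comm_XX_ne cs hab hcd had ex ey hg hk

/-- **The commutator relations of the lifted root groups, type `C_n`.** -/
theorem comm_rgC {x y : Fin n → ℤ} (hx : IsRoot cs (isCartan n) x) (hy : IsRoot cs (isCartan n) y) (hxy : x ≠ y)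
    (hxy' : x ≠ -y) {g k : L} (hg : g ∈ C.rgC x) (hk : k ∈ C.rgC y) :
    ⁅g, k⁆ ∈ btw cs (isCartan n) C.rgC x y := by
  obtain ⟨a, b, hab, ex⟩ := exists_of_isRoot cs hx
  obtain ⟨c, d, hcd, ey⟩ := exists_of_isRoot cs hy
  rw [C.rgC_eq hab ex] at hg
  rw [C.rgC_eq hcd ey] at hk
  have hsymm : ⁅k, g⁆ ∈ btw cs (isCartan n) C.rgC y x → ⁅g, k⁆ ∈ btw cs (isCartan n) C.rgC x y := by
    intro h1
    have h2 : ⁅g, k⁆ = ⁅k, g⁆⁻¹ := (commutatorElement_inv k g).symm
    rw [h2]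
    refine inv_mem ?_
    refine (iSup_le fun z => ?_ : btw cs (isCartan n) C.rgC y x ≤ _) h1
    exact le_btw_of z.2.symm
  rcases hab with hab | rfl
  · rcases hcd with hcd | rfl
    · rw [C.PG_ne hab] at hg
      rw [C.PG_ne hcd] at hk
      by_cases h1 : c = ng b
      · exact C.comm_XX'' cs hab hcd h1 ex ey hxy' hg hk
      by_cases h2 : c = ng a
      · rw [C.XG_swap hab] at hg
        exact C.comm_XX'' cs hab.symm hcd h2 (by rw [ex, add_comm]) ey hxy' hg hk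
      by_cases h3 : d = ng b
      · rw [C.XG_swap hcd] at hk
        exact C.comm_XX'' cs hab hcd.symm h3 ex (by rw [ey, add_comm]) hxy' hg hk
      by_cases h4 : d = ng a
      · rw [C.XG_swap hab] at hg
        rw [C.XG_swap hcd] at hk
        exact C.comm_XX'' cs hab.symm hcd.symm h4 (by rw [ex, add_comm]) (by rw [ey, add_comm]) hxy' hg hk
      obtain ⟨s, rfl⟩ := hg
      obtain ⟨t, rfl⟩ := hk
      rw [commutatorElement_eq_one_iff_commute.2 (C.comm_XX hab hcd (C.hXX (x := a) (y := b) (z := c) (u := d)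
        hab hcd h2 h1 h4 h3 s t))]
      exact one_mem _
    · rw [C.PG_ne hab] at hg
      rw [C.PG_self] at hk
      by_cases h1 : b = ng c
      · subst h1
        exact C.comm_XZ' (a := a) (b := c) cs hab ex ey hg hk
      by_cases h2 : a = ng c
      · subst h2
        rw [C.XG_swap hab] at hg
        exact C.comm_XZ' (a := b) (b := c) cs hab.symm (by rw [ex, add_comm]) ey hg hk
      obtain ⟨t, rfl⟩ := hg
      obtain ⟨p, rfl⟩ := hk
      rw [commutatorElement_eq_one_iff_commute.2 (C.comm_XZ hab (C.hZX (x := c) (y := a) (z := b) hab h2 h1 p t))]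
      exact one_mem _
  · rcases hcd with hcd | rfl
    · rw [C.PG_self] at hg
      rw [C.PG_ne hcd] at hk
      apply hsymm
      by_cases h1 : d = ng a
      · subst h1
        exact C.comm_XZ' (a := c) (b := a) cs hcd ey ex hk hg
      by_cases h2 : c = ng a
      · subst h2
        rw [C.XG_swap hcd] at hk
        exact C.comm_XZ' (a := d) (b := a) cs hcd.symm (by rw [ey, add_comm]) ex hk hg
      obtain ⟨t, rfl⟩ := hk
      obtain ⟨p, rfl⟩ := hg
      rw [commutatorElement_eq_one_iff_commute.2 (C.comm_XZ hcd (C.hZX (x := a) (y := c) (z := d) hcd h2 h1 p t))]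
      exact one_mem _
    · rw [C.PG_self] at hg hk
      have hne : a.1 ≠ c.1 := by
        intro h1
        by_cases h2 : a = c
        · subst h2
          exact hxy (ee_injective (ex.trans ey.symm))
        · have h3 : a = ng c := by
            obtain ⟨a, s⟩ := a
            obtain ⟨c, t⟩ := c
            simp only at h1
            subst h1
            cases s <;> cases t <;> simp_all [ng]
          apply hxy'
          apply ee_injective
          rw [ee_neg, ex, ey, h3, wt_ng]; abel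
      exact C.comm_ZZ cs hne ex ey hg hk

theorem nc_rgC {x : Fin n → ℤ} (hx : IsRoot cs (isCartan n) x) {g : L} (hg : g ∈ C.rgC x) (h1 : π g = 1) :
    g = 1 := by
  obtain ⟨a, b, hab, ex⟩ := exists_of_isRoot cs hx
  rw [C.rgC_eq hab ex] at hg
  rcases hab with hab | rfl
  · rw [C.PG_ne hab] at hg
    exact C.X_nc hab hg h1
  · rw [C.PG_self] at hg
    exact C.Z_nc hg h1

end TypeC

end Sit

/-! ### Type `D_{n+2}` -/

section TypeD

open Cfsg.Agent.Nodes.TypeD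

variable {n : ℕ} {X : Fin (n + 2) × Bool → Fin (n + 2) × Bool → F → Y} {Z : Fin (n + 2) × Bool → A → Y}
  (C : Sit T X Z B N π)

/-- The lifted root group of a root of type `D_{n+2}`. -/
def rgD (x : Fin (n + 2) → ℤ) : Subgroup L :=
  ⨆ q : {q : (Fin (n + 2) × Bool) × (Fin (n + 2) × Bool) // Ok q.1 q.2 ∧ ee x = wt q.1 + wt q.2}, C.XG q.1.1 q.1.2

theorem rgD_eq {x : Fin (n + 2) → ℤ} {a b : Fin (n + 2) × Bool} (hab : Ok a b) (e : ee x = wt a + wt b) :
    rgD C x = C.XG a b := by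
  apply le_antisymm
  · refine iSup_le ?_
    rintro ⟨⟨c, d⟩, hcd, e'⟩
    rcases wt_add_eq hab hcd (e.symm.trans e') with ⟨rfl, rfl⟩ | ⟨rfl, rfl⟩
    · exact le_rfl
    · exact (C.XG_swap hcd).le
  · exact le_iSup (fun q : {q : (Fin (n + 2) × Bool) × (Fin (n + 2) × Bool) //
      Ok q.1 q.2 ∧ ee x = wt q.1 + wt q.2} => C.XG q.1.1 q.1.2) ⟨(a, b), hab, e⟩

variable {W : Type*} [Group W] (cs : CoxeterSystem (M n) W)

theorem XG_le_btwD {x y : Fin (n + 2) → ℤ} {u v : Fin (n + 2) × Bool} (huv : Ok u v) {m c d : ℤ} (hm : 0 < m)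
    (hc : 0 < c) (hd : 0 < d) (e : m • (wt u + wt v) = c • ee x + d • ee y) :
    C.XG u v ≤ btw cs (isCartan n) (rgD C) x y := by
  obtain ⟨z, hz, ez⟩ := rt_of_ok (cs := cs) huv
  rw [← rgD_eq C huv ez]
  refine le_btw_of ⟨hz, m, c, d, hm, hc, hd, ee_injective ?_⟩
  rw [ee_smul, ee_add, ee_smul, ee_smul, ez, e]

theorem comm_XXD {x y : Fin (n + 2) → ℤ} {a b c d : Fin (n + 2) × Bool} (hab : a.1 ≠ b.1) (hcd : c.1 ≠ d.1)
    (hc : c = ng b) (ex : ee x = wt a + wt b) (ey : ee y = wt c + wt d) (hxy : x ≠ -y) {g k : L}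
    (hg : g ∈ C.XG a b) (hk : k ∈ C.XG c d) : ⁅g, k⁆ ∈ btw cs (isCartan n) (rgD C) x y := by
  subst hc
  by_cases had : a.1 = d.1
  · by_cases had' : d = a
    · subst had'
      rw [C.XG_swap hcd] at hk
      rw [C.comm_XX_eq hab hg hk]
      exact one_mem _
    · exfalso
      have h1 : d = ng a := by
        obtain ⟨a, s⟩ := a
        obtain ⟨d, t⟩ := d
        simp only at had
        subst had
        cases s <;> cases t <;> simp_all [ng]
      apply hxy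
      apply ee_injective
      rw [ee_neg, ex, ey, h1, wt_ng, wt_ng]; abel
  · obtain ⟨s, rfl⟩ := hg
    obtain ⟨t, rfl⟩ := hk
    have e2 : ⁅C.Xh a b s, C.Xh (ng b) d t⁆ = _ := C.hXXX hab hcd had s t
    rw [e2]
    refine XG_le_btwD C cs (u := a) (v := d) had (m := 1) (c := 1) (d := 1) one_pos one_pos one_pos ?_ ⟨_, rfl⟩
    rw [ex, ey, one_smul, one_smul, one_smul, wt_ng]; abel

/-- **The commutator relations of the lifted root groups, type `D_{n+2}`.** -/
theorem comm_rgD {x y : Fin (n + 2) → ℤ} (hx : IsRoot cs (isCartan n) x) (hy : IsRoot cs (isCartan n) y)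
    (hxy' : x ≠ -y) {g k : L} (hg : g ∈ rgD C x) (hk : k ∈ rgD C y) :
    ⁅g, k⁆ ∈ btw cs (isCartan n) (rgD C) x y := by
  obtain ⟨a, b, hab, ex⟩ := exists_of_isRoot cs hx
  obtain ⟨c, d, hcd, ey⟩ := exists_of_isRoot cs hy
  rw [rgD_eq C hab ex] at hg
  rw [rgD_eq C hcd ey] at hk
  replace hab : a.1 ≠ b.1 := hab
  replace hcd : c.1 ≠ d.1 := hcd
  by_cases h1 : c = ng b
  · exact comm_XXD C cs hab hcd h1 ex ey hxy' hg hk
  by_cases h2 : c = ng a
  · rw [C.XG_swap hab] at hg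
    exact comm_XXD C cs hab.symm hcd h2 (ex.trans (add_comm _ _)) ey hxy' hg hk
  by_cases h3 : d = ng b
  · rw [C.XG_swap hcd] at hk
    exact comm_XXD C cs hab hcd.symm h3 ex (ey.trans (add_comm _ _)) hxy' hg hk
  by_cases h4 : d = ng a
  · rw [C.XG_swap hab] at hg
    rw [C.XG_swap hcd] at hk
    exact comm_XXD C cs hab.symm hcd.symm h4 (ex.trans (add_comm _ _)) (ey.trans (add_comm _ _)) hxy' hg hk
  obtain ⟨s, rfl⟩ := hg
  obtain ⟨t, rfl⟩ := hk
  rw [commutatorElement_eq_one_iff_commute.2 (C.comm_XX hab hcd (C.hXX (x := a) (y := b) (z := c) (u := d)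
    hab hcd h2 h1 h4 h3 s t))]
  exact one_mem _

theorem nc_rgD {x : Fin (n + 2) → ℤ} (hx : IsRoot cs (isCartan n) x) {g : L} (hg : g ∈ rgD C x) (h1 : π g = 1) :
    g = 1 := by
  obtain ⟨a, b, hab, ex⟩ := exists_of_isRoot cs hx
  rw [rgD_eq C hab ex] at hg
  exact C.X_nc hab hg h1

end TypeD

end Cfsg.Agent.H63.Ort
end

-- part: H63/AsmG
section
/-!
# Central extensions of groups with a root group datum in the defining characteristic: the assembly

`R : RGD cs h p T n X` a root group datum of `Y`, `π : L → Y` a perfect central extension whose kernel is a `p`-group,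
`Xt x` (`x > 0`) subgroups of `L` mapped isomorphically onto the root groups `X x` with the commutator relations
`[Xt x, Xt y] ≤ btw Xt x y`. Then the kernel is trivial (`ker_eq_bot`).
-/

set_option autoImplicit false
set_option linter.unusedSectionVars false

namespace Cfsg.Agent.H63.AsmG

open CoxeterSystem Cfsg.Agent.ChevalleyStructure.CoxeterGeom Cfsg.Agent.Tits.Roots Cfsg.Agent.Tits.Core
  Cfsg.Agent.Tits.RootComb Cfsg.Agent.Nodes.Comb Cfsg.Agent.Nodes.Reps Cfsg.Agent.Nodes.BNOf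
  Cfsg.Agent.Nodes.BNOf.RGD Cfsg.Agent.Nodes.Unique Cfsg.Agent.Nodes.Bruhat Cfsg.Agent.H51.Mult
open scoped commutatorElement

variable {I W Y L : Type*} [Fintype I] [DecidableEq I] [Group W] [Group Y] [Group L] {M : CoxeterMatrix I}
  {cs : CoxeterSystem M W} {A : I → I → ℤ} {h : IsCartan M A} {p : ℕ} {T : Subgroup Y} {n : I → Y}
  {X : (I → ℤ) → Subgroup Y}

variable {π : L →* Y}

/-- The subgroups `Xt x` are mapped isomorphically onto the root groups. -/
structure Lft (cs : CoxeterSystem M W) (h : IsCartan M A) (X : (I → ℤ) → Subgroup Y) (π : L →* Y)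
    (Xt : (I → ℤ) → Subgroup L) : Prop where
  map : ∀ x ∈ Pos cs h, (Xt x).map π = X x
  nc : ∀ x ∈ Pos cs h, ∀ a ∈ Xt x, π a = 1 → a = 1

theorem btw_le_Sup' {Xt : (I → ℤ) → Subgroup L} {x y : I → ℤ} {S : Set (I → ℤ)}
    (hS : ∀ z, Btwn cs h x y z → z ∈ S) : btw cs h Xt x y ≤ Sup Xt S := by
  unfold Nodes.Reps.btw
  refine iSup_le ?_
  rintro ⟨z, hz⟩
  exact le_Sup (hS z hz)

theorem map_Sup {Xt : (I → ℤ) → Subgroup L} {S : Set (I → ℤ)} (hS : ∀ x ∈ S, (Xt x).map π = X x) :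
    (Sup Xt S).map π = Sup X S := by
  unfold Sup
  rw [Subgroup.map_iSup]
  refine iSup_congr fun z => hS z.1 z.2

variable {Xt : (I → ℤ) → Subgroup L}

/-- If all elements of `H` map the generators of `M` into `M`, then `H` normalises `M`. -/
theorem le_normalizer_of {H : Subgroup L} {S : Set (I → ℤ)}
    (hH : ∀ a ∈ H, ∀ y ∈ S, ∀ b ∈ Xt y, a * b * a⁻¹ ∈ Sup Xt S) :
    H ≤ Subgroup.normalizer (Sup Xt S : Set L) := by
  have key : ∀ a ∈ H, ∀ b ∈ Sup Xt S, a * b * a⁻¹ ∈ Sup Xt S := by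
    intro a ha
    have h1 : Sup Xt S ≤ (Sup Xt S).comap (MulAut.conj a).toMonoidHom := by
      refine Sup_le fun y hy b hb => ?_
      rw [Subgroup.mem_comap]
      exact hH a ha y hy b hb
    intro b hb
    exact h1 hb
  intro a ha
  rw [Subgroup.mem_normalizer_iff]
  intro b
  refine ⟨fun hb => key a ha b hb, fun hb => ?_⟩
  have h2 := key a⁻¹ (inv_mem ha) _ hb
  have e : a⁻¹ * (a * b * a⁻¹) * a⁻¹⁻¹ = b := by group
  rwa [e] at h2

variable (R : RGD cs h p T n X)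

include R

/-- The step: `Xt x` normalises `M = Sup Xt (Fut (w s_i))`, `x = w α_i`. -/
theorem step [Finite W] {w : W} {i : I} (hw : 0 ≤ rep cs h w (sr i))
    (hg : ∀ y ∈ Fut cs h (w * cs.simple i), ∀ a ∈ Xt (rep cs h w (sr i)), ∀ b ∈ Xt y,
      ⁅a, b⁆ ∈ btw cs h Xt (rep cs h w (sr i)) y) :
    Xt (rep cs h w (sr i)) ≤ Subgroup.normalizer (Sup Xt (Fut cs h (w * cs.simple i)) : Set L) := by
  set x := rep cs h w (sr i) with hxdef
  set S := Fut cs h (w * cs.simple i) with hSdef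
  have hxr : IsRoot cs h x := ⟨w, i, rfl⟩
  have hSeq : S = Fut cs h w \ {x} := fut_mul hw
  have hSpos : S ⊆ Pos cs h := fut_subset_pos _
  refine le_normalizer_of fun a ha y hy b hb => ?_
  have hyne : y ≠ x := by
    have := hSeq ▸ hy
    exact this.2
  have h2 := hg y hy a ha b hb
  have e : a * b * a⁻¹ = ⁅a, b⁆ * b := by rw [commutatorElement_def]; group
  rw [e]
  refine mul_mem (btw_le_Sup' ?_ h2) (le_Sup hy hb)
  intro z hz
  rw [hSeq]
  have hy' : y ∈ Fut cs h w := by rw [hSeq] at hy; exact hy.1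
  exact ⟨closed_fut w x (mem_fut hw) y hy' z hz,
    btwn_ne_left hxr (hSpos hy).1 hw (hSpos hy).2 hyne.symm hz⟩

/-- The join of the lifts meets the kernel trivially. -/
theorem notMem_fut [Finite W] (hX : Lft cs h X π Xt)
    (hg : ∀ x ∈ Pos cs h, ∀ y ∈ Pos cs h, x ≠ y → ∀ a ∈ Xt x, ∀ b ∈ Xt y, ⁅a, b⁆ ∈ btw cs h Xt x y) (w : W)
    {c : L} (hc : c ∈ Sup Xt (Fut cs h w)) (hπ : π c = 1) : c = 1 := by
  induction hn : (Fut cs h w).ncard generalizing w with
  | zero =>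
    have h1 := (Set.ncard_eq_zero (finite_fut w)).1 hn
    rw [h1] at hc
    have h3 : Sup Xt (∅ : Set (I → ℤ)) ≤ ⊥ := Sup_le fun z hz => absurd hz (Set.notMem_empty z)
    exact Subgroup.mem_bot.1 (h3 hc)
  | succ k ih =>
    have hne : (Fut cs h w).Nonempty := by
      rw [Set.nonempty_iff_ne_empty]
      intro h1
      rw [h1, Set.ncard_empty] at hn
      omega
    obtain ⟨y, hy⟩ := hne
    obtain ⟨i, hi⟩ := exists_simple hy
    set x := rep cs h w (sr i) with hxdef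
    have hxr : IsRoot cs h x := ⟨w, i, rfl⟩
    have hxpos : x ∈ Pos cs h := ⟨hxr, hi⟩
    have hcard : (Fut cs h (w * cs.simple i)).ncard = k := by
      rw [fut_mul hi, Set.ncard_sdiff_singleton_of_mem (mem_fut hi), hn]
      rfl
    have hst := step R hi (fun y hy => hg x hxpos y (fut_subset_pos _ hy) (by
      rw [fut_mul hi] at hy
      exact (Ne.symm hy.2)))
    rw [sup_peel (mem_fut hi), ← fut_mul hi] at hc
    have h1 : c ∈ ((Xt x ⊔ Sup Xt (Fut cs h (w * cs.simple i)) : Subgroup L) : Set L) := hc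
    rw [Subgroup.coe_mul_of_left_le_normalizer_right _ _ hst, Set.mem_mul] at h1
    obtain ⟨a, ha, b, hb, e⟩ := h1
    have h2 : π a = (π b)⁻¹ := by
      rw [eq_inv_iff_mul_eq_one, ← map_mul, e, hπ]
    have h3 : π a ∈ X x ⊓ Sup X (Fut cs h (w * cs.simple i)) := by
      refine ⟨by rw [← hX.map x hxpos]; exact ⟨a, ha, rfl⟩, ?_⟩
      rw [h2]
      apply Subgroup.inv_mem
      rw [← map_Sup (π := π) (Xt := Xt) fun z hz => hX.map z (fut_subset_pos _ hz)]
      exact ⟨b, hb, rfl⟩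
    rw [hxdef, tail_inf R, Subgroup.mem_bot] at h3
    have h4 := hX.nc x hxpos a ha h3
    rw [h4, one_mul] at e
    exact ih (w * cs.simple i) (e ▸ hb) hcard

/-- **The assembly.** -/
theorem ker_eq_bot [Finite W] [Finite L] (hp : p.Prime) (hd : PCE π) (hker : IsPGroup p π.ker)
    (hr : GG cs h T X = ⊤) (hX : Lft cs h X π Xt)
    (hg : ∀ x ∈ Pos cs h, ∀ y ∈ Pos cs h, x ≠ y → ∀ a ∈ Xt x, ∀ b ∈ Xt y, ⁅a, b⁆ ∈ btw cs h Xt x y) :
    π.ker = ⊥ := by
  haveI : Fact p.Prime := ⟨hp⟩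
  haveI : Finite Y := Finite.of_surjective π hd.surj
  have hmap : (Sup Xt (Pos cs h)).map π = Sup X (Pos cs h) := map_Sup fun z hz => hX.map z hz
  set U := Sup X (Pos cs h) with hU
  set V := Sup Xt (Pos cs h) with hV
  have hidx : ¬ p ∣ U.index := by
    let P : Sylow p Y :=
      { toSubgroup := U
        isPGroup' := RGD.isPGroup_Upos R
        is_maximal' := by
          intro Q hQ hle
          exact Nodes.NormalForm.eq_U_of_isPGroup R (P := Q) hQ hle (by rw [hr]; exact le_top) }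
    exact P.not_dvd_index
  have h1 := hd.le_commutator_comap hp hker hidx
  have hle : ⁅U.comap π, U.comap π⁆ ≤ V := by
    rw [Subgroup.commutator_le]
    have key : ∀ a ∈ U.comap π, ∃ v ∈ V, ∃ z, π z = 1 ∧ a = v * z := by
      intro a ha
      rw [Subgroup.mem_comap, ← hmap] at ha
      obtain ⟨v, hv, he⟩ := ha
      exact ⟨v, hv, v⁻¹ * a, by rw [map_mul, map_inv, he, inv_mul_cancel], by group⟩
    intro a ha b hb
    obtain ⟨v, hv, z, hz, rfl⟩ := key a ha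
    obtain ⟨u, hu, w, hw, rfl⟩ := key b hb
    have hz1 := hd.comm hz
    have hw1 := hd.comm hw
    have e : ⁅v * z, u * w⁆ = ⁅v, u⁆ := by
      simp only [commutatorElement_def, mul_inv_rev]
      calc v * z * (u * w) * (z⁻¹ * v⁻¹) * (w⁻¹ * u⁻¹)
          = v * (z * (u * w)) * (z⁻¹ * v⁻¹) * (w⁻¹ * u⁻¹) := by group
        _ = v * ((u * w) * z) * (z⁻¹ * v⁻¹) * (w⁻¹ * u⁻¹) := by rw [hz1]
        _ = v * u * (w * v⁻¹) * (w⁻¹ * u⁻¹) := by group
        _ = v * u * (v⁻¹ * w) * (w⁻¹ * u⁻¹) := by rw [hw1]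
        _ = v * u * v⁻¹ * u⁻¹ := by group
    rw [e, commutatorElement_def]
    exact mul_mem (mul_mem (mul_mem hv hu) (inv_mem hv)) (inv_mem hu)
  rw [eq_bot_iff]
  intro c hc
  have h2 : c ∈ V := hle (h1 hc)
  rw [hV, ← fut_one] at h2
  exact Subgroup.mem_bot.2 (notMem_fut R hX hg 1 h2 hc)

end Cfsg.Agent.H63.AsmG
end

-- part: H63/ODef
section
/-!
# The multiplier of `PΩ` in odd defining characteristic

* `ker_eq_bot_C` : a Witt frame with anisotropic part, type `C_m`, `m ≥ 4` or `m = 3` with a condition;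
* `ker_eq_bot_D` : a hyperbolic Witt frame, type `D_m`, `m ≥ 4`;
* `noCov_plus`, `noCov_minus`, `noCov_odd`.
-/

set_option autoImplicit false

namespace Cfsg.Agent.H63.Ort

open QuadraticMap
open Cfsg.Agent.LieClassical Cfsg.Agent.LieClassical.OrthCore Cfsg.Agent.LieClassical.OrthTrans Cfsg.Agent.LieClassical.OrthSimple Cfsg.Agent.LieClassical.OrthFinite
open Cfsg.Agent.TitsThree Cfsg.Agent.TitsThree.Siegel Cfsg.Agent.TitsThree.SiegelGen
open Cfsg.Agent.TitsThree.WittFrame Cfsg.Agent.TitsThree.FrameCN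
open Cfsg.Agent.TitsThree.WBridge Cfsg.Agent.TitsThree.KSideO Cfsg.Agent.TitsThree.WittWeyl
open Cfsg.Agent.ChevalleyStructure.CoxeterGeom
open Cfsg.Agent.Tits.Roots hiding Good
open Cfsg.Agent.Nodes Cfsg.Agent.Nodes.Comb Cfsg.Agent.Nodes.Reps Cfsg.Agent.Nodes.WittAll Cfsg.Agent.Nodes.WittInst
open Cfsg.Agent.Nodes.TypeC (wt ng)
open Cfsg.Agent.H51.Mult Cfsg.Agent.H63.AsmG
open scoped commutatorElement

variable {κ : Type} [Fintype κ] [DecidableEq κ] {F : Type*} [Field F] {Q : QuadraticForm F (κ → F)}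

/-- a `p`-group with `p` odd has no involutions -/
theorem odd_of_pgroup {L Y : Type*} [Group L] [Group Y] {π : L →* Y} {p : ℕ} [hp : Fact p.Prime] (hp2 : p ≠ 2)
    (hker : IsPGroup p π.ker) (z : L) (hz : π z = 1) (h2 : z * z = 1) : z = 1 := by
  obtain ⟨k, hk⟩ := hker ⟨z, MonoidHom.mem_ker.2 hz⟩
  have hk' : z ^ p ^ k = 1 := by
    have := congrArg Subtype.val hk
    exact this
  have h3 : orderOf z ∣ p ^ k := orderOf_dvd_of_pow_eq_one hk'
  have h4 : orderOf z ∣ 2 := orderOf_dvd_of_pow_eq_one (by rw [pow_two]; exact h2)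
  have h5 : (p ^ k).Coprime 2 := Nat.Coprime.pow_left _ ((Nat.coprime_primes hp.out Nat.prime_two).2 hp2)
  have h6 : orderOf z ∣ 1 := by
    have := Nat.dvd_gcd h3 h4
    rwa [h5] at this
  exact orderOf_eq_one_iff.1 (Nat.dvd_one.1 h6)

theorem p_ne_two {p : ℕ} [CharP F p] (h2 : (2 : F) ≠ 0) : p ≠ 2 := by
  rintro rfl
  exact h2 (by exact_mod_cast CharP.cast_eq_zero F 2)

section C

variable {m : ℕ} (W : WFrame (PO Q) m) (hG : Good Q)

/-- the situation of a central extension of `PΩ` in odd characteristic -/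
theorem sit (h2 : (2 : F) ≠ 0) {p : ℕ} [Fact p.Prime] [CharP F p]
    (hbig : Big (Xq W (toPOmega hG)) (Zq W (toPOmega hG)) (fun p q => -polar Q p.1 q.1))
    {L : Type*} [Group L] {π : L →* Cfsg.POmega F ⇑Q} (hd : PCE π) (hker : IsPGroup p π.ker) :
    Sit (Tq W (toPOmega hG)) (Xq W (toPOmega hG)) (Zq W (toPOmega hG)) (fun p q => -polar Q p.1 q.1)
      (fun p => Q p.1) π where
  sys := osys W _ h2
  big := hbig
  ce := ⟨hd.surj, hd.cen⟩
  odd := odd_of_pgroup (p_ne_two (F := F) h2) hker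

/-- **Type `C_m`.** -/
theorem ker_eq_bot_C [Finite F] (h2 : (2 : F) ≠ 0) {p : ℕ} [hp : Fact p.Prime] [CharP F p] (hm : 0 < m)
    (hbig : Big (Xq W (toPOmega hG)) (Zq W (toPOmega hG)) (fun p q => -polar Q p.1 q.1))
    (hV : ∃ w : W.V0, Q w.1 ≠ 0) {L : Type*} [Group L] [Finite L] {π : L →* Cfsg.POmega F ⇑Q} (hd : PCE π)
    (hker : IsPGroup p π.ker) : π.ker = ⊥ := by
  classical
  obtain ⟨w0, hw0⟩ := hV
  have hc0 : (pr W w0).c ≠ 0 := neg_ne_zero.2 hw0
  set M := model W hG ⟨pr W w0, hc0⟩ with hM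
  have S := sit W hG h2 hbig hd hker
  let cs := (CoxeterMatrix.B m).toCoxeterSystem
  have hfin : Finite (CoxeterMatrix.B m).Group := TypeC.finite_W cs
  have R := rgdC_model (p := p) M (AmbT.of_amb (amb_O_of_two W h2) p) hc0 cs
  have hmap : ∀ x, IsRoot cs (TypeC.isCartan m) x → (S.rgC x).map π = WittModel.X M x := by
    intro x hx
    obtain ⟨a, b, hab, ex⟩ := TypeC.exists_of_isRoot cs hx
    rw [S.rgC_eq hab ex]
    have e1 := WittRoot.rg_eq (toFrame W) hab ex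
    apply le_antisymm
    · rintro _ ⟨g, hg, rfl⟩
      rcases hab with hab | rfl
      · rw [WittRoot.PG_ne _ hab] at e1
        rw [S.PG_ne hab] at hg
        obtain ⟨t, rfl⟩ := hg
        rw [S.map_Xh hab]
        exact WittModel.mem_X_of M (X_mem W a b t) (by rw [e1]; exact ⟨t, rfl⟩)
      · rw [WittRoot.PG_self] at e1
        rw [S.PG_self] at hg
        obtain ⟨t, rfl⟩ := hg
        rw [S.map_Zh]
        exact WittModel.mem_X_of M (Z_mem W a _) (by rw [e1]; exact ⟨_, rfl⟩)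
    · intro k hk
      obtain ⟨g, hg, hgx, rfl⟩ := (WittModel.mem_X M).1 hk
      rw [e1] at hgx
      rcases hab with hab | rfl
      · rw [WittRoot.PG_ne _ hab] at hgx
        obtain ⟨t, rfl⟩ := hgx
        rw [S.PG_ne hab]
        exact ⟨S.Xh a b t, ⟨t, rfl⟩, S.map_Xh hab t⟩
      · rw [WittRoot.PG_self] at hgx
        obtain ⟨q, rfl⟩ := hgx
        obtain ⟨w, rfl⟩ := exists_pr W q
        rw [S.PG_self]
        exact ⟨S.Zh a w, ⟨w, rfl⟩, S.map_Zh a w⟩
  have hX : Lft cs (TypeC.isCartan m) (WittModel.X M) π S.rgC :=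
    ⟨fun x hx => hmap x hx.1, fun x hx a ha h1 => S.nc_rgC cs hx.1 ha h1⟩
  refine ker_eq_bot R hp.out hd hker ?_ hX ?_
  · have h1 := WittModel.G1_eq_top M hm cs
    rw [eq_top_iff, ← h1]
    exact le_sup_right
  · intro x hx y hy hxy a ha b hb
    refine S.comm_rgC cs hx.1 hy.1 hxy ?_ ha hb
    rintro rfl
    exact hy.1.ne_zero (le_antisymm (by
      have := hx.2
      intro i
      have h1 := this i
      simp only [Pi.neg_apply, Pi.zero_apply] at h1 ⊢
      omega) hy.2)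

end C

section D

open Cfsg.Agent.Nodes.TypeD

variable {n : ℕ} (W : WFrame (PO Q) (n + 2)) (hG : Good Q)

/-- **Type `D_{n+2}`.** -/
theorem ker_eq_bot_D [Finite F] (h2 : (2 : F) ≠ 0) {p : ℕ} [hp : Fact p.Prime] [CharP F p]
    (hbig : Big (Xq W (toPOmega hG)) (Zq W (toPOmega hG)) (fun p q => -polar Q p.1 q.1))
    (h0 : ∀ p : (toFrame W).Adm, p = 1) {L : Type*} [Group L] [Finite L] {π : L →* Cfsg.POmega F ⇑Q} (hd : PCE π)
    (hker : IsPGroup p π.ker) : π.ker = ⊥ := by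
  classical
  have S := sit W hG h2 hbig hd hker
  let cs := (M n).toCoxeterSystem
  have hfin : Finite (M n).Group := finite_W cs
  have R := rgdD_model (p := p) W hG (amb_O_of_two W h2) h0 cs
  have hmap : ∀ x, IsRoot cs (isCartan n) x → (rgD S x).map π = XD W (toPOmega hG) x := by
    intro x hx
    obtain ⟨a, b, hab, ex⟩ := exists_of_isRoot cs hx
    rw [rgD_eq S hab ex]
    have e1 := WittRGDD.rg_eq (toFrame W) hab ex
    replace hab : a.1 ≠ b.1 := hab
    apply le_antisymm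
    · rintro _ ⟨g, ⟨t, rfl⟩, rfl⟩
      rw [S.map_Xh hab]
      refine Subgroup.mem_map_of_mem _ (Subgroup.mem_subgroupOf.2 ?_)
      rw [e1]
      exact ⟨t, rfl⟩
    · rintro _ ⟨⟨g, hg⟩, hgx, rfl⟩
      have hgx' : g ∈ WittRGDD.rg (toFrame W) x := hgx
      rw [e1] at hgx'
      obtain ⟨t, rfl⟩ := hgx'
      exact ⟨S.Xh a b t, ⟨t, rfl⟩, S.map_Xh hab t⟩
  have hX : Lft cs (isCartan n) (XD W (toPOmega hG)) π (rgD S) :=
    ⟨fun x hx => hmap x hx.1, fun x hx a ha h1 => nc_rgD S cs hx.1 ha h1⟩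
  refine ker_eq_bot R hp.out hd hker ?_ hX ?_
  · have h1 := G1D_eq_top W (toPOmega hG) (toPOmega_surjective hG) h0 cs
    rw [eq_top_iff, ← h1]
    exact le_sup_right
  · intro x hx y hy hxy a ha b hb
    refine comm_rgD S cs hx.1 hy.1 ?_ ha hb
    rintro rfl
    exact hy.1.ne_zero (le_antisymm (by
      have := hx.2
      intro i
      have h1 := this i
      simp only [Pi.neg_apply, Pi.zero_apply] at h1 ⊢
      omega) hy.2)

end D

/-! ### The condition `Big` -/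

section Big

variable {m : ℕ}

theorem exists_third (hm : 3 ≤ m) (x y : Fin m × Bool) : ∃ k : Fin m × Bool, x.1 ≠ k.1 ∧ y.1 ≠ k.1 := by
  have h1 : ∃ i : Fin m, i ∉ ({x.1, y.1} : Finset (Fin m)) := by
    by_contra hcon
    push Not at hcon
    have h2 : (Finset.univ : Finset (Fin m)) ⊆ {x.1, y.1} := fun i _ => hcon i
    have h3 := Finset.card_le_card h2
    rw [Finset.card_univ, Fintype.card_fin] at h3
    have h4 := Finset.card_le_two (a := x.1) (b := y.1)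
    omega
  obtain ⟨i, hi⟩ := h1
  rw [Finset.mem_insert, Finset.mem_singleton, not_or] at hi
  exact ⟨(i, true), Ne.symm hi.1, Ne.symm hi.2⟩

theorem exists_fourth (hm : 4 ≤ m) (x y z : Fin m × Bool) :
    ∃ k : Fin m × Bool, x.1 ≠ k.1 ∧ y.1 ≠ k.1 ∧ z.1 ≠ k.1 := by
  have h1 : ∃ i : Fin m, i ∉ ({x.1, y.1, z.1} : Finset (Fin m)) := by
    by_contra hcon
    push Not at hcon
    have h2 : (Finset.univ : Finset (Fin m)) ⊆ {x.1, y.1, z.1} := fun i _ => hcon i
    have h3 := Finset.card_le_card h2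
    rw [Finset.card_univ, Fintype.card_fin] at h3
    have h4 := Finset.card_le_three (a := x.1) (b := y.1) (c := z.1)
    omega
  obtain ⟨i, hi⟩ := h1
  rw [Finset.mem_insert, Finset.mem_insert, Finset.mem_singleton, not_or, not_or] at hi
  exact ⟨(i, true), Ne.symm hi.1, Ne.symm hi.2.1, Ne.symm hi.2.2⟩

variable {Y : Type*} [Group Y] {A : Type*} {X : Fin m × Bool → Fin m × Bool → F → Y} {Z : Fin m × Bool → A → Y}
  {B : A → A → F} [AddCommGroup A] [Module F A]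

theorem big_of_four (hm : 4 ≤ m) : Big X Z B :=
  ⟨exists_third (by omega), Or.inl (exists_fourth hm), Or.inl (exists_fourth hm)⟩

/-- three indices, `q > 3` -/
theorem big_of_torus {T : Subgroup Y} {N : A → F} (S : OSys T X Z B N) (hm : 3 ≤ m)
    (hB : ∀ t : F, ∃ p q, B p q = t) (hF : ∃ c : F, c ≠ 0 ∧ c * c ≠ 1) : Big X Z B := by
  refine ⟨exists_third hm, Or.inr hB, Or.inr fun x => ?_⟩
  obtain ⟨c, hc, hc1⟩ := hF
  obtain ⟨k, hxk, -⟩ := exists_third hm x x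
  have hxk' : x.1 ≠ (neg k).1 := hxk
  obtain ⟨g, -, hg1, hg2⟩ := S.tor hxk hc
  obtain ⟨g', -, hg1', hg2'⟩ := S.tor hxk' hc
  -- `g * g'` has the weight `c ^ 2` on `x` and `1` elsewhere
  have key : ∀ a : Fin m × Bool, x.1 ≠ a.1 → chi x k c a * chi x (neg k) c a = 1 := by
    intro a hxa
    by_cases hka : k.1 = a.1
    · by_cases h1 : a = k
      · subst h1
        rw [chi_right]
        have := chi_neg_right hxk' c
        rw [neg_neg] at this
        rw [this, mul_inv_cancel₀ hc]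
      · have h2 : a = neg k := by
          by_contra h3
          exact h1 (ne_neg_iff h3 hka)
        subst h2
        rw [chi_neg_right hxk, chi_right, inv_mul_cancel₀ hc]
    · rw [chi_of_ne (Ne.symm hxa) (Ne.symm hka), chi_of_ne (y := neg k) (Ne.symm hxa) (Ne.symm hka), mul_one]
  refine ⟨g * g', c * c, hc1, ?_, ?_⟩
  · intro y z hxy hxz hyz t
    have e : g * g' * X y z t * (g * g')⁻¹ = X y z t := by
      have e1 : g * g' * X y z t * (g * g')⁻¹ = g * (g' * X y z t * g'⁻¹) * g⁻¹ := by group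
      rw [e1, hg1' y z hyz, hg1 y z hyz]
      congr 1
      have h1 := key y hxy
      have h2 := key z hxz
      linear_combination (chi x k c z * chi x (neg k) c z * t) * h1 + t * h2
    show g * g' * X y z t = X y z t * (g * g')
    nth_rw 2 [← e]
    group
  · intro p
    have e1 : g * g' * Z x p * (g * g')⁻¹ = g * (g' * Z x p * g'⁻¹) * g⁻¹ := by group
    rw [e1, hg2', hg2, chi_left, chi_left, smul_smul]

omit [Fintype κ] [DecidableEq κ] in
/-- three indices, an anisotropic part of dimension two -/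
theorem big_of_refl (W : WFrame (PO Q) m) (φ : E Q →* Y) (h2 : (2 : F) ≠ 0) (hm : 3 ≤ m) {u v : κ → F}
    (hu : u ∈ W.V0) (hv : v ∈ W.V0) (hu0 : Q u ≠ 0) (hv0 : Q v ≠ 0) (huv : polar Q u v = 0)
    (hsp : ∀ w ∈ W.V0, ∃ a b : F, w = a • u + b • v) :
    Big (Xq W φ) (Zq W φ) (fun p q : W.V0 => -polar Q p.1 q.1) := by
  have hB : ∀ t : F, ∃ p q : W.V0, -polar Q p.1 q.1 = t := by
    intro t
    refine ⟨⟨u, hu⟩, (-(t * (2 * Q u)⁻¹)) • ⟨u, hu⟩, ?_⟩
    show -polar Q u ((-(t * (2 * Q u)⁻¹)) • u) = t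
    rw [polar_smul_right, polar_self', smul_eq_mul]
    field_simp
  refine ⟨exists_third hm, Or.inr hB, Or.inr fun x => ?_⟩
  set Fr := toFrame W with hFr
  have hcu : (pr W ⟨u, hu⟩).c ≠ 0 := neg_ne_zero.2 hu0
  have hcv : (pr W ⟨v, hv⟩).c ≠ 0 := neg_ne_zero.2 hv0
  set g := nZ Fr x (pr W ⟨u, hu⟩) * (nZ Fr x (pr W ⟨v, hv⟩))⁻¹ with hg
  have hgE : g ∈ E Q := mul_mem (nZ_mem W _ _) (inv_mem (nZ_mem W _ _))
  -- action on the frame
  have e1 : ∀ z : Fin m × Bool, z.1 ≠ x.1 → g (Fr.b z) = (1 : F) • Fr.b z := by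
    intro z hz
    rw [hg, mul_apply', inv_apply_eq (nZ_apply_of_ne Fr hz _), nZ_apply_of_ne Fr hz, one_smul]
  have e2 : g (Fr.b x) = (Q u * (Q v)⁻¹) • Fr.b x := by
    have h3 : nZ Fr x (pr W ⟨v, hv⟩) ((-Q v)⁻¹ • Fr.b (neg x)) = Fr.b x := by
      rw [map_smul, nZ_apply_neg Fr x _ hcv, smul_smul, eta_eq]
      show ((-Q v)⁻¹ * (1 * -Q v)) • Fr.b x = Fr.b x
      rw [one_mul, inv_mul_cancel₀ (neg_ne_zero.2 hv0), one_smul]
    rw [hg, mul_apply', inv_apply_eq h3, map_smul, nZ_apply_neg Fr x _ hcu, smul_smul, eta_eq]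
    congr 1
    show (-Q v)⁻¹ * (1 * -Q u) = Q u * (Q v)⁻¹
    field_simp
  have e3 : ∀ w ∈ W.V0, g w = -w := by
    intro w hw
    obtain ⟨a, b, rfl⟩ := hsp w hw
    have hr : ∀ (s : κ → F) (hs : s ∈ W.V0) (_ : Q s ≠ 0) (z : κ → F), z ∈ W.V0 →
        nZ Fr x (pr W ⟨s, hs⟩) z = z - ((Q s)⁻¹ * polar Q z s) • s := by
      intro s hs hs0 z hz
      rw [nZ_apply_V0 Fr x _ (neg_ne_zero.2 hs0) hz]
      show z + ((1 : F)⁻¹ * (-Q s)⁻¹ * polar Q z s) • s = _
      rw [sub_eq_add_neg, ← neg_smul]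
      congr 2
      rw [inv_one, one_mul, inv_neg, neg_mul]
    have m1 : a • u - b • v ∈ W.V0 := W.V0.sub_mem (W.V0.smul_mem _ hu) (W.V0.smul_mem _ hv)
    have m2 : a • u + b • v ∈ W.V0 := hw
    have hvu : polar Q v u = 0 := by rw [polar_comm, huv]
    have h3 : nZ Fr x (pr W ⟨v, hv⟩) (a • u - b • v) = a • u + b • v := by
      rw [hr v hv hv0 _ m1, polar_sub_left, polar_smul_left, polar_smul_left, huv, polar_self', smul_eq_mul,
        smul_eq_mul]
      match_scalars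
      · ring
      · field_simp
        ring
    rw [hg, mul_apply', inv_apply_eq h3, hr u hu hu0 _ m1, polar_sub_left, polar_smul_left, polar_smul_left, hvu,
      polar_self', smul_eq_mul, smul_eq_mul]
    match_scalars
    · field_simp
      ring
    · ring
  refine ⟨φ ⟨g, hgE⟩, -(Q u * (Q v)⁻¹), ?_, ?_, ?_⟩
  · intro h
    have h3 : Q (u + v) = 0 := by
      rw [Q_add, huv]
      have : Q u = -Q v := by
        field_simp at h
        linear_combination -h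
      rw [this]; ring
    have h4 := W.aniso (u + v) (W.V0.add_mem hu hv) ((sing_iff Q).2 h3)
    have h5 : u = -v := eq_neg_of_add_eq_zero_left h4
    rw [h5, ← neg_one_smul F, polar_smul_left, polar_self', smul_eq_mul] at huv
    exact hv0 (by
      have := mul_eq_zero.1 huv
      rcases this with h6 | h6
      · exact absurd h6 (neg_ne_zero.2 one_ne_zero)
      · exact (mul_eq_zero.1 h6).resolve_left h2)
  · intro y z hxy hxz hyz t
    have := conj_Xq W φ hgE (isIso_of_mem hgE) hyz hyz (e1 y hxy.symm) (e1 z hxz.symm) t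
    rw [mul_one, one_mul] at this
    show φ ⟨g, hgE⟩ * Xq W φ y z t = Xq W φ y z t * φ ⟨g, hgE⟩
    nth_rw 2 [← this]
    rw [inv_mul_cancel_right]
  · intro p
    have := conj_Zq W φ hgE (isIso_of_mem hgE) e2 (w := p) (w' := -p) (e3 p.1 p.2)
    rw [this, smul_neg, neg_smul]

end Big

/-! ### The results -/

section results

open Cfsg.Agent.LieClassical.OrthForms

theorem noCov_of {X : Type*} [Group X] {p : ℕ} (hp : p.Prime)
    (h : ∀ (L : Type) [Group L] [Finite L] (π : L →* X), PCE π → IsPGroup p π.ker → π.ker = ⊥) : NoCov p X := by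
  intro L _ _ π hd hc
  have h1 := h L π hd (IsPGroup.of_card (n := 1) (by rw [hc, pow_one]))
  rw [h1, Subgroup.card_bot] at hc
  exact hp.one_lt.ne hc

variable (F) [Finite F]

/-- **`PΩ⁺_{2l}(q)`, `q` odd, `l ≥ 4`: no cover in the defining characteristic.** -/
theorem noCov_plus (h2 : (2 : F) ≠ 0) {p : ℕ} [hp : Fact p.Prime] [CharP F p] {l : ℕ} (hl : 4 ≤ l) :
    NoCov p (Cfsg.POmega F (Cfsg.quadFormPlus l F)) := by
  obtain ⟨n, rfl⟩ : ∃ n, l = n + 4 := ⟨l - 4, by omega⟩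
  rw [← coe_plusForm]
  have hG : Good (plusForm (n + 4) F) := by
    apply good_of_finite (nondeg_plusForm (n + 4) F)
    rw [Module.finrank_fintype_fun_eq_card, Fintype.card_sum, Fintype.card_fin]
    omega
  exact noCov_of hp.out fun L _ _ π hd hker =>
    ker_eq_bot_D (n := n + 2) (wplus (n + 4) F) hG h2 (big_of_four (by omega)) (adm_plus _) hd hker

/-- **`PΩ⁻_{2m+2}(q)`, `q` odd, `m ≥ 3`: no cover in the defining characteristic.** -/
theorem noCov_minus (h2 : (2 : F) ≠ 0) {p : ℕ} [hp : Fact p.Prime] [CharP F p] {m : ℕ} (hm : 3 ≤ m) {a b : F}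
    (hab : ∀ z₁ z₂ : F, z₁ ^ 2 + a * z₁ * z₂ + b * z₂ ^ 2 = 0 → z₁ = 0 ∧ z₂ = 0) :
    NoCov p (Cfsg.POmega F (Cfsg.quadFormMinus m F a b)) := by
  rw [← coe_minusForm]
  have hG : Good (minusForm m F a b) := by
    apply good_of_finite (nondeg_minusForm m F a b hab)
    rw [Module.finrank_fintype_fun_eq_card, Fintype.card_sum, Fintype.card_sum, Fintype.card_fin,
      Fintype.card_fin]
    omega
  set W := wminus m F a b hab with hW
  have hQ : ∀ x y : F, minusForm m F a b (Sum.elim (fun _ => 0) ![x, y]) = x ^ 2 + a * x * y + b * y ^ 2 := by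
    intro x y
    rw [coe_minusForm, quadFormMinus_apply]
    simp
  have hmem : ∀ x y : F, (Sum.elim (fun _ => 0) ![x, y] : (Fin m ⊕ Fin m) ⊕ Fin 2 → F) ∈ W.V0 := fun x y j => rfl
  have hu0 : minusForm m F a b (Sum.elim (fun _ => 0) ![1, 0]) ≠ 0 := by rw [hQ]; simp
  have hv0 : minusForm m F a b (Sum.elim (fun _ => 0) ![-a, 2]) ≠ 0 := by
    rw [hQ]
    intro h
    exact h2 (hab _ _ h).2
  refine noCov_of hp.out fun L _ _ π hd hker => ker_eq_bot_C W hG h2 (by omega) ?_ ⟨⟨_, hmem 1 0⟩, hu0⟩ hd hker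
  refine big_of_refl W _ h2 hm (hmem 1 0) (hmem (-a) 2) hu0 hv0 ?_ ?_
  · rw [polar_minusForm]
    simp
    ring
  · intro w hw
    refine ⟨w (Sum.inr 0) + a * w (Sum.inr 1) / 2, w (Sum.inr 1) / 2, ?_⟩
    have hw' : ∀ j, w (Sum.inl j) = 0 := hw
    funext j
    rcases j with j | j
    · simp [hw']
    · fin_cases j
      · simp
        field_simp
        ring
      · simp
        field_simp

/-- **`PΩ_{2m+1}(q)`, `q` odd: no cover in the defining characteristic**, `m ≥ 4`, or `m = 3` and `q > 3`. -/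
theorem noCov_odd (h2 : (2 : F) ≠ 0) {p : ℕ} [hp : Fact p.Prime] [CharP F p] {m : ℕ} (hm : 3 ≤ m)
    (hq : m = 3 → 3 < Nat.card F) : NoCov p (Cfsg.POmega F (Cfsg.quadFormOdd m F)) := by
  rw [← coe_oddForm]
  have hG : Good (oddForm m F) := by
    apply good_of_finite (nondeg_oddForm m F h2)
    rw [Module.finrank_fintype_fun_eq_card, Fintype.card_sum, Fintype.card_sum, Fintype.card_fin,
      Fintype.card_unit]
    omega
  set W := wodd m F with hW
  have hQ : ∀ x : F, oddForm m F (Pi.single (Sum.inl ()) x) = x ^ 2 := by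
    intro x
    rw [coe_oddForm, quadFormOdd_apply]
    simp
  have hmem : ∀ x : F, (Pi.single (Sum.inl ()) x : Unit ⊕ (Fin m ⊕ Fin m) → F) ∈ W.V0 := fun x j => by simp
  refine noCov_of hp.out fun L _ _ π hd hker =>
    ker_eq_bot_C W hG h2 (by omega) ?_ ⟨⟨_, hmem 1⟩, by show oddForm m F _ ≠ 0; rw [hQ]; simp⟩ hd hker
  by_cases h4 : 4 ≤ m
  · exact big_of_four h4
  · have hm3 : m = 3 := by omega
    refine big_of_torus (osys W _ h2) hm ?_ ?_
    · intro t
      refine ⟨⟨_, hmem 1⟩, ⟨_, hmem (-t / 2)⟩, ?_⟩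
      show -polar (oddForm m F) (Pi.single (Sum.inl ()) 1) (Pi.single (Sum.inl ()) (-t / 2)) = t
      rw [polar_oddForm]
      simp
      field_simp
    · by_contra hcon
      classical
      push Not at hcon
      have hF := hq hm3
      have := Fintype.ofFinite F
      rw [Nat.card_eq_fintype_card] at hF
      have h3 : (Finset.univ : Finset F) ⊆ {0, 1, -1} := by
        intro c _
        by_cases hc : c = 0
        · rw [hc]; simp
        · have h4 := hcon c hc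
          have h5 : (c - 1) * (c + 1) = 0 := by linear_combination h4
          rcases mul_eq_zero.1 h5 with h6 | h6
          · rw [sub_eq_zero.1 h6]; simp
          · rw [eq_neg_of_add_eq_zero_left h6]; simp
      have h4 := Finset.card_le_card h3
      rw [Finset.card_univ] at h4
      have h5 := Finset.card_le_three (a := (0 : F)) (b := 1) (c := -1)
      omega

end results

end Cfsg.Agent.H63.Ort
end
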