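import Mathlib
import Cfsg.Agent.LieClassical.OrthSimple
import Cfsg.Agent.H487.SchurPerfect
import Cfsg.Agent.H51.Mult
import Cfsg.Agent.TitsThree.KSideO
import Cfsg.Agent.TitsThree.WittWeyl
set_option linter.all false

-- part: H63/Spin
section
/-!
# The spin cover by the Clifford algebra

`Q` a quadratic form over a field of characteristic `≠ 2`, `C = CliffordAlgebra Q`.

* `Cov Q` : the pairs `(x, g)`, `x` a unit of `C`, `g ∈ GL(V)` with `x ι(y) = ι(g y) x`;
* `pp u v` : the pair `(a⁻¹ ι(u) ι(v), r_u r_v)`, `Q u = Q v = a ≠ 0`;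
* `Gam Q` : the group generated by the `pp u v`, `pr : Gam Q →* E Q` surjective with central kernel;
* `pp_mem_comm` : `pp u w` is a commutator, if there is a third orthogonal vector of the same norm.
-/

set_option autoImplicit false

namespace Cfsg.Agent.H63.Spin

open QuadraticMap CliffordAlgebra
open Cfsg.Agent.LieClassical Cfsg.Agent.LieClassical.OrthCore Cfsg.Agent.LieClassical.OrthTrans
open scoped commutatorElement

variable {F V : Type*} [Field F] [AddCommGroup V] [Module F V] (Q : QuadraticForm F V)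

/-- The ambient group. -/
abbrev Am : Type _ := (CliffordAlgebra Q)ˣ × (V ≃ₗ[F] V)

/-- The pairs `(x, g)` with `x ι(y) = ι(g y) x`. -/
def Cov : Subgroup (Am Q) where
  carrier := {x | ∀ y, (x.1 : CliffordAlgebra Q) * ι Q y = ι Q (x.2 y) * x.1}
  one_mem' y := by
    show (1 : CliffordAlgebra Q) * ι Q y = ι Q y * 1
    rw [one_mul, mul_one]
  mul_mem' := by
    intro a b ha hb y
    show (a.1 : CliffordAlgebra Q) * b.1 * ι Q y = ι Q (a.2 (b.2 y)) * (a.1 * b.1)
    rw [mul_assoc, hb y, ← mul_assoc, ha, mul_assoc]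
  inv_mem' := by
    intro a ha y
    show ((a.1⁻¹ : (CliffordAlgebra Q)ˣ) : CliffordAlgebra Q) * ι Q y =
      ι Q (a.2⁻¹ y) * ((a.1⁻¹ : (CliffordAlgebra Q)ˣ) : CliffordAlgebra Q)
    have h1 := ha (a.2⁻¹ y)
    have h2 : a.2 (a.2⁻¹ y) = y := by
      show (a.2 * a.2⁻¹) y = y
      rw [mul_inv_cancel]; rfl
    rw [h2] at h1
    rw [Units.inv_mul_eq_iff_eq_mul, ← mul_assoc, h1, mul_assoc, Units.mul_inv, mul_one]

variable {Q}

theorem mem_Cov {x : Am Q} : x ∈ Cov Q ↔ ∀ y, (x.1 : CliffordAlgebra Q) * ι Q y = ι Q (x.2 y) * x.1 := Iff.rfl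

theorem ι_anti (u v : V) : ι Q u * ι Q v + ι Q v * ι Q u = (polar Q u v) • (1 : CliffordAlgebra Q) := by
  rw [ι_mul_ι_add_swap, Algebra.algebraMap_eq_smul_one]

theorem ι_sq (u : V) : ι Q u * ι Q u = (Q u) • (1 : CliffordAlgebra Q) := by
  rw [ι_sq_scalar, Algebra.algebraMap_eq_smul_one]

theorem ι_orth {u v : V} (h : polar Q u v = 0) : ι Q u * ι Q v = -(ι Q v * ι Q u) := by
  have h1 := ι_anti (Q := Q) u v
  rw [h, zero_smul] at h1
  exact eq_neg_of_add_eq_zero_left h1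

/-- `v y = - r_v(y) v` -/
theorem ι_mul_ι_refl {v : V} (hv : Q v ≠ 0) (y : V) : ι Q v * ι Q y = -(ι Q (refl Q v hv y) * ι Q v) := by
  have h1 := ι_anti (Q := Q) v y
  rw [refl_apply, map_sub, map_smul, sub_mul, smul_mul_assoc, ι_sq, smul_smul,
    show (Q v)⁻¹ * polar Q v y * Q v = polar Q v y by field_simp, ← h1]
  abel

/-- the unit `a⁻¹ u v` -/
noncomputable def uu (u v : V) (hu : Q u ≠ 0) (h : Q u = Q v) : (CliffordAlgebra Q)ˣ where
  val := (Q u)⁻¹ • (ι Q u * ι Q v)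
  inv := (Q u)⁻¹ • (ι Q v * ι Q u)
  val_inv := by
    rw [smul_mul_smul_comm]
    have e : ι Q u * ι Q v * (ι Q v * ι Q u) = (Q u * Q u) • (1 : CliffordAlgebra Q) := by
      rw [mul_assoc, ← mul_assoc (ι Q v), ι_sq, smul_mul_assoc, one_mul, mul_smul_comm, ι_sq, smul_smul, h]
    rw [e, smul_smul]
    have : (Q u)⁻¹ * (Q u)⁻¹ * (Q u * Q u) = 1 := by field_simp
    rw [this, one_smul]
  inv_val := by
    rw [smul_mul_smul_comm]
    have e : ι Q v * ι Q u * (ι Q u * ι Q v) = (Q u * Q u) • (1 : CliffordAlgebra Q) := by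
      rw [mul_assoc, ← mul_assoc (ι Q u), ι_sq, smul_mul_assoc, one_mul, mul_smul_comm, ι_sq, smul_smul, ← h]
    rw [e, smul_smul]
    have : (Q u)⁻¹ * (Q u)⁻¹ * (Q u * Q u) = 1 := by field_simp
    rw [this, one_smul]

/-- the pair `(a⁻¹ u v, r_u r_v)` -/
noncomputable def pp (u v : V) (hu : Q u ≠ 0) (h : Q u = Q v) : Am Q :=
  (uu u v hu h, refl Q u hu * refl Q v (h ▸ hu))

theorem pp_mem_Cov {u v : V} (hu : Q u ≠ 0) (h : Q u = Q v) : pp u v hu h ∈ Cov Q := by
  intro y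
  show (Q u)⁻¹ • (ι Q u * ι Q v) * ι Q y = ι Q (refl Q u hu (refl Q v (h ▸ hu) y)) * ((Q u)⁻¹ • (ι Q u * ι Q v))
  rw [smul_mul_assoc, mul_smul_comm, mul_assoc, ι_mul_ι_refl (h ▸ hu : Q v ≠ 0), mul_neg, ← mul_assoc,
    ι_mul_ι_refl hu, neg_mul, _root_.neg_neg, mul_assoc]

section nontrivial

variable (h2 : (2 : F) ≠ 0)
include h2

theorem nontriv : Nontrivial (CliffordAlgebra Q) := by
  have : Invertible (2 : F) := invertibleOfNonzero h2
  infer_instance

theorem smul_one_inj {a b : F} (h : a • (1 : CliffordAlgebra Q) = b • 1) : a = b := by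
  have := nontriv (Q := Q) h2
  exact smul_left_injective F (one_ne_zero : (1 : CliffordAlgebra Q) ≠ 0) h

theorem ι_inj (hQ : Nondeg Q) {u v : V} (h : ι Q u = ι Q v) : u = v := by
  rw [← sub_eq_zero]
  apply hQ
  intro y
  have h1 : ι Q (u - v) = 0 := by rw [map_sub, h, sub_self]
  have h3 := ι_anti (Q := Q) (u - v) y
  rw [h1, zero_mul, mul_zero, add_zero, ← zero_smul F] at h3
  exact (smul_one_inj h2 h3).symm

theorem Cov.ext (hQ : Nondeg Q) {x y : Am Q} (hx : x ∈ Cov Q) (hy : y ∈ Cov Q)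
    (h : (x.1 : CliffordAlgebra Q) = y.1) : x = y := by
  apply Prod.ext
  · exact Units.ext h
  · ext1 v
    apply ι_inj h2 hQ
    have h1 := hx v
    rw [h, hy v] at h1
    exact (y.1.mul_left_inj.1 h1).symm

end nontrivial

/-- elements of `Cov Q` over the identity are central -/
theorem Cov.comm {x : Am Q} (hx : x ∈ Cov Q) (h : x.2 = 1) (c : CliffordAlgebra Q) :
    (x.1 : CliffordAlgebra Q) * c = c * x.1 := by
  induction c using CliffordAlgebra.induction with
  | algebraMap r => exact (Algebra.commutes r _).symm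
  | ι v =>
    have := hx v
    rwa [h] at this
  | mul a b ha hb => rw [← mul_assoc, ha, mul_assoc, hb, mul_assoc]
  | add a b ha hb => rw [mul_add, ha, hb, add_mul]

/-- conjugation of `pp u v` -/
theorem conj_pp {x : Am Q} (hx : x ∈ Cov Q) (hxO : x.2 ∈ O Q) {u v : V} (hu : Q u ≠ 0) (h : Q u = Q v) {u' v' : V}
    (eu : x.2 u = u') (ev : x.2 v = v') (hu' : Q u' ≠ 0) (h' : Q u' = Q v') :
    x * pp u v hu h * x⁻¹ = pp u' v' hu' h' := by
  subst eu ev
  rw [mul_inv_eq_iff_eq_mul]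
  apply Prod.ext
  · apply Units.ext
    show (x.1 : CliffordAlgebra Q) * ((Q u)⁻¹ • (ι Q u * ι Q v)) = (Q (x.2 u))⁻¹ • (ι Q (x.2 u) * ι Q (x.2 v)) * x.1
    rw [mem_O.1 hxO, mul_smul_comm, smul_mul_assoc, ← mul_assoc, hx u, mul_assoc, hx v, mul_assoc]
  · show x.2 * (refl Q u hu * refl Q v _) = refl Q (x.2 u) hu' * refl Q (x.2 v) _ * x.2
    rw [← refl_conj hxO hu hu', ← refl_conj hxO (h ▸ hu : Q v ≠ 0) (h' ▸ hu')]
    group

variable (Q) in
/-- The group generated by the `pp u v`. -/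
def Gam : Subgroup (Am Q) :=
  Subgroup.closure {x | ∃ (u v : V) (hu : Q u ≠ 0) (h : Q u = Q v), x = pp u v hu h}

theorem pp_mem_Gam {u v : V} (hu : Q u ≠ 0) (h : Q u = Q v) : pp u v hu h ∈ Gam Q :=
  Subgroup.subset_closure ⟨u, v, hu, h, rfl⟩

theorem Gam_le_Cov : Gam Q ≤ Cov Q := by
  rw [Gam, Subgroup.closure_le]
  rintro _ ⟨u, v, hu, h, rfl⟩
  exact pp_mem_Cov hu h

section Good

variable (hG : Good Q)
include hG

theorem snd_mem_E {x : Am Q} (hx : x ∈ Gam Q) : x.2 ∈ E Q := by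
  have h1 : Gam Q ≤ (E Q).comap (MonoidHom.snd _ _) := by
    rw [Gam, Subgroup.closure_le]
    rintro _ ⟨u, v, hu, h, rfl⟩
    exact hG.refl_mul_refl_mem (h ▸ hu) hu h.symm
  exact h1 hx

omit hG in
/-- `r_u r_v` for orthogonal vectors -/
theorem rr_left {u v : V} (hu : Q u ≠ 0) (hv : Q v ≠ 0) (huv : polar Q u v = 0) :
    (refl Q u hu * refl Q v hv) u = -u := by
  show refl Q u hu (refl Q v hv u) = -u
  rw [refl_apply hv, polar_comm, huv, mul_zero, zero_smul, sub_zero, refl_apply, polar_self']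
  match_scalars
  field_simp
  norm_num

omit hG in
theorem rr_right {u v : V} (hu : Q u ≠ 0) (hv : Q v ≠ 0) (huv : polar Q u v = 0) :
    (refl Q u hu * refl Q v hv) v = -v := by
  show refl Q u hu (refl Q v hv v) = -v
  have e : refl Q v hv v = -v := by
    rw [refl_apply, polar_self']
    match_scalars
    field_simp
    norm_num
  rw [e, map_neg, refl_apply, huv, mul_zero, zero_smul, sub_zero]

omit hG in
theorem rr_orth {u v w : V} (hu : Q u ≠ 0) (hv : Q v ≠ 0) (h1 : polar Q u w = 0) (h2 : polar Q v w = 0) :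
    (refl Q u hu * refl Q v hv) w = w := by
  show refl Q u hu (refl Q v hv w) = w
  rw [refl_apply hv, h2, mul_zero, zero_smul, sub_zero, refl_apply, h1, mul_zero, zero_smul, sub_zero]

theorem map_snd (h2 : (2 : F) ≠ 0) : (Gam Q).map (MonoidHom.snd _ _) = E Q := by
  have hle : (Gam Q).map (MonoidHom.snd _ _) ≤ E Q := by
    rintro _ ⟨x, hx, rfl⟩
    exact snd_mem_E hG hx
  refine (OrthSimple.good_normal_dichotomy hG hle ?_).resolve_left ?_
  · rintro g hg _ ⟨x, hx, rfl⟩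
    have hgO := E_le_O hg
    -- conjugation with `g`
    have key : ∀ x ∈ Gam Q, ∃ y ∈ Gam Q, y.2 = g * x.2 * g⁻¹ := by
      intro x hx
      rw [Gam] at hx
      induction hx using Subgroup.closure_induction with
      | mem x hx =>
        obtain ⟨u, v, hu, h, rfl⟩ := hx
        have hu' : Q (g u) ≠ 0 := by rwa [mem_O.1 hgO]
        have h' : Q (g u) = Q (g v) := by rw [mem_O.1 hgO, mem_O.1 hgO, h]
        refine ⟨pp (g u) (g v) hu' h', pp_mem_Gam _ _, ?_⟩
        show refl Q (g u) hu' * refl Q (g v) _ = g * (refl Q u hu * refl Q v _) * g⁻¹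
        rw [← refl_conj hgO hu hu', ← refl_conj hgO (h ▸ hu : Q v ≠ 0) (h' ▸ hu')]
        group
      | one => exact ⟨1, one_mem _, by show (1 : V ≃ₗ[F] V) = g * 1 * g⁻¹; rw [mul_one, mul_inv_cancel]⟩
      | mul x y _ _ hx hy =>
        obtain ⟨a, ha, ea⟩ := hx
        obtain ⟨b, hb, eb⟩ := hy
        refine ⟨a * b, mul_mem ha hb, ?_⟩
        show a.2 * b.2 = g * (x.2 * y.2) * g⁻¹
        rw [ea, eb]; group
      | inv x _ hx =>
        obtain ⟨a, ha, ea⟩ := hx
        refine ⟨a⁻¹, inv_mem ha, ?_⟩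
        show a.2⁻¹ = g * x.2⁻¹ * g⁻¹
        rw [ea]; group
    obtain ⟨y, hy, e⟩ := key x hx
    exact ⟨y, hy, e⟩
  · intro hcon
    obtain ⟨x, y, hxy⟩ := hG.exists_hyp
    obtain ⟨z, w, hzw, h1, h3, h4, h5⟩ := hG.exists_hyp2 hxy
    have hQu : Q (x + y) = 1 := by rw [Q_add, hxy.left, hxy.right, hxy.pair]; ring
    have hQv : Q (z + w) = 1 := by rw [Q_add, hzw.left, hzw.right, hzw.pair]; ring
    have hu : Q (x + y) ≠ 0 := by rw [hQu]; exact one_ne_zero
    have hv : Q (z + w) ≠ 0 := by rw [hQv]; exact one_ne_zero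
    have huv : polar Q (x + y) (z + w) = 0 := by
      rw [polar_add_left, polar_add_right, polar_add_right, h1, h3, h4, h5]; ring
    have hun : polar Q (x + y) (x - y) = 0 := by
      rw [polar_add_left, polar_sub_right, polar_sub_right, hxy.polar_left, hxy.polar_right, hxy.pair, hxy.pair']
      ring
    have hvn : polar Q (z + w) (x - y) = 0 := by
      rw [polar_comm, polar_sub_left, polar_add_right, polar_add_right, h1, h3, h4, h5]; ring
    obtain ⟨c, hc⟩ := hcon (refl Q (x + y) hu * refl Q (z + w) hv)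
      ⟨_, pp_mem_Gam hu (hQu.trans hQv.symm), rfl⟩
    have e1 := hc (x + y)
    rw [rr_left hu hv huv] at e1
    have e2 := hc (x - y)
    rw [rr_orth hu hv hun hvn] at e2
    have hne1 : x + y ≠ 0 := by
      intro h0; rw [h0, QuadraticMap.map_zero] at hu; exact hu rfl
    have hne2 : x - y ≠ 0 := by
      intro h0
      have h6 := hxy.pair
      rw [sub_eq_zero.1 h0, polar_self_of_sing hxy.right] at h6
      exact zero_ne_one h6
    have e3 : c = 1 := by
      have h6 : (c - 1) • (x - y) = 0 := by rw [sub_smul, one_smul, ← e2, sub_self]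
      exact sub_eq_zero.1 ((smul_eq_zero.1 h6).resolve_right hne2)
    have e4 : c = -1 := by
      have h6 : (c + 1) • (x + y) = 0 := by rw [add_smul, one_smul, ← e1, neg_add_cancel]
      exact eq_neg_of_add_eq_zero_left ((smul_eq_zero.1 h6).resolve_right hne1)
    apply h2
    rw [e3] at e4
    linear_combination e4

/-- the projection -/
noncomputable def pr : Gam Q →* E Q where
  toFun x := ⟨x.1.2, snd_mem_E hG x.2⟩
  map_one' := rfl
  map_mul' _ _ := rfl

theorem pr_surjective (h2 : (2 : F) ≠ 0) : Function.Surjective (pr hG) := by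
  rintro ⟨g, hg⟩
  rw [← map_snd hG h2] at hg
  obtain ⟨x, hx, e⟩ := hg
  exact ⟨⟨x, hx⟩, Subtype.ext e⟩

theorem pr_ker : (pr hG).ker ≤ Subgroup.center (Gam Q) := by
  intro x hx
  have h1 : x.1.2 = 1 := congrArg Subtype.val hx
  rw [Subgroup.mem_center_iff]
  intro y
  apply Subtype.ext
  apply Prod.ext
  · apply Units.ext
    show (y.1.1 : CliffordAlgebra Q) * x.1.1 = x.1.1 * y.1.1
    rw [Cov.comm (Gam_le_Cov x.2) h1]
  · show y.1.2 * x.1.2 = x.1.2 * y.1.2
    rw [h1, mul_one, one_mul]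

theorem perfect_E : Group.IsPerfect (E Q) := by
  constructor
  apply Subgroup.map_injective (E Q).subtype_injective
  rw [_root_.commutator_def, Subgroup.map_commutator, ← MonoidHom.range_eq_map, Subgroup.range_subtype, hG.E_perfect]

end Good

/-! ### Commutators -/

/-- A third orthogonal vector of the same norm: `pp u w` is a commutator. -/
theorem pp_mem_comm (hQ : Nondeg Q) (h2 : (2 : F) ≠ 0) {u v w : V} (hu : Q u ≠ 0) (huv : Q u = Q v) (huw : Q u = Q w)
    (o1 : polar Q u v = 0) (o2 : polar Q v w = 0) (o3 : polar Q u w = 0) :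
    (⟨pp u w hu huw, pp_mem_Gam hu huw⟩ : Gam Q) ∈ commutator (Gam Q) := by
  have hv : Q v ≠ 0 := huv ▸ hu
  have e1 : Q (u - v) = 2 * Q u := by
    rw [sub_eq_add_neg, Q_add, QuadraticMap.map_neg, polar_neg_right, o1, ← huv]; ring
  have e2 : Q (v - w) = 2 * Q u := by
    rw [sub_eq_add_neg, Q_add, QuadraticMap.map_neg, polar_neg_right, o2, ← huv, ← huw]; ring
  have hn1 : Q (u - v) ≠ 0 := by rw [e1]; exact mul_ne_zero h2 hu
  have hn2 : Q (v - w) ≠ 0 := by rw [e2]; exact mul_ne_zero h2 hu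
  -- the element of order three
  set ρ : Gam Q := ⟨pp (u - v) (v - w) hn1 (e1.trans e2.symm), pp_mem_Gam _ _⟩ with hρ
  set i : Gam Q := ⟨pp u v hu huv, pp_mem_Gam _ _⟩ with hi
  have ρu : ρ.1.2 u = v := by
    show refl Q (u - v) hn1 (refl Q (v - w) _ u) = v
    have h1 : refl Q (v - w) hn2 u = u := by
      rw [refl_apply, polar_sub_left, polar_comm Q v u, polar_comm Q w u, o1, o3]; simp
    rw [h1]
    exact refl_sub_apply huv.symm hn1
  have ρv : ρ.1.2 v = w := by
    show refl Q (u - v) hn1 (refl Q (v - w) _ v) = w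
    have h1 : refl Q (v - w) hn2 v = w := refl_sub_apply (huw.symm.trans huv) hn2
    rw [h1, refl_apply, polar_sub_left, o2, o3]; simp
  have hc : ρ * i * ρ⁻¹ = ⟨pp v w hv (huv.symm.trans huw), pp_mem_Gam _ _⟩ :=
    Subtype.ext (conj_pp (Gam_le_Cov ρ.2)
      (mul_mem (refl_mem_O hn1) (refl_mem_O hn2)) hu huv ρu ρv hv (huv.symm.trans huw))
  have key : (⟨pp u w hu huw, pp_mem_Gam hu huw⟩ : Gam Q) = ⁅ρ, i⁆ := by
    rw [commutatorElement_def, hc, eq_mul_inv_iff_mul_eq]
    apply Subtype.ext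
    apply Cov.ext h2 hQ (mul_mem (pp_mem_Cov _ _) (pp_mem_Cov _ _)) (pp_mem_Cov _ _)
    show (Q u)⁻¹ • (ι Q u * ι Q w) * ((Q u)⁻¹ • (ι Q u * ι Q v)) = (Q v)⁻¹ • (ι Q v * ι Q w)
    rw [smul_mul_smul_comm, ← huv]
    have e3 : ι Q u * ι Q w * (ι Q u * ι Q v) = (Q u) • (ι Q v * ι Q w) := by
      have s1 := ι_orth o3
      have s2 := ι_orth o2
      calc ι Q u * ι Q w * (ι Q u * ι Q v) = (ι Q u * ι Q w) * ι Q u * ι Q v := by rw [mul_assoc, mul_assoc, mul_assoc]
        _ = -(ι Q w * ι Q u) * ι Q u * ι Q v := by rw [s1]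
        _ = -(ι Q w * (ι Q u * ι Q u) * ι Q v) := by noncomm_ring
        _ = -((Q u) • (ι Q w * ι Q v)) := by rw [ι_sq, mul_smul_comm, mul_one, smul_mul_assoc]
        _ = (Q u) • (ι Q v * ι Q w) := by rw [s2, smul_neg]
    rw [e3, smul_smul]
    congr 1
    field_simp
  rw [key]
  exact Subgroup.commutator_mem_commutator (Subgroup.mem_top _) (Subgroup.mem_top _)

end Cfsg.Agent.H63.Spin
end

-- part: H63/SpinCov
section
/-!
# The perfect central extension of `PΩ` given by the spin group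

`LL Q = commutator (Gam Q)`, `spi hG : LL Q →* PΩ(Q)`; `pce` : it is a finite perfect central extension. Elements of
the kernel: `exists_m0` (`-1`), `exists_z_even`, `exists_z_odd`, `exists_z_minus` (lifts of `-1 ∈ Ω`).
-/

set_option autoImplicit false

namespace Cfsg.Agent.H63.Spin

open QuadraticMap CliffordAlgebra
open Cfsg.Agent.LieClassical Cfsg.Agent.LieClassical.OrthCore Cfsg.Agent.LieClassical.OrthTrans
open Cfsg.Agent.TitsThree Cfsg.Agent.TitsThree.Siegel Cfsg.Agent.TitsThree.SiegelGen Cfsg.Agent.TitsThree.KSideO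
open Cfsg.Agent.TitsThree.WBridge
open Cfsg.Agent.H51.Mult
open scoped commutatorElement

section perfect

variable {F V : Type*} [Field F] [AddCommGroup V] [Module F V] {Q : QuadraticForm F V}

variable (Q) in
/-- the perfect group -/
abbrev LL : Type _ := ↥(commutator (Gam Q))

variable (hG : Good Q) (h2 : (2 : F) ≠ 0)

/-- the projection onto `Ω` -/
noncomputable def prL : LL Q →* E Q := (pr hG).comp (commutator (Gam Q)).subtype

include h2 in
theorem prL_surjective : Function.Surjective (prL hG) :=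
  (H487.perfect_commutator (perfect_E hG) (pr_surjective hG h2) (pr_ker hG)).2

include hG h2 in
theorem perfect_LL : Group.IsPerfect (LL Q) :=
  (H487.perfect_commutator (perfect_E hG) (pr_surjective hG h2) (pr_ker hG)).1

theorem prL_ker : (prL hG).ker ≤ Subgroup.center (LL Q) := by
  intro x hx
  have h1 := pr_ker hG (show x.1 ∈ (pr hG).ker from hx)
  rw [Subgroup.mem_center_iff] at h1 ⊢
  exact fun y => Subtype.ext (h1 y.1)

/-! ### Squares -/

variable {hG}

theorem sq_pp {u v : V} (hu : Q u ≠ 0) (huv : Q u = Q v) (o : polar Q u v = 0) :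
    ((pp u v hu huv * pp u v hu huv : Am Q).1 : CliffordAlgebra Q) = -1 := by
  show (Q u)⁻¹ • (ι Q u * ι Q v) * ((Q u)⁻¹ • (ι Q u * ι Q v)) = -1
  have e1 : ι Q u * ι Q v * (ι Q u * ι Q v) = -((Q u * Q u) • (1 : CliffordAlgebra Q)) := by
    calc ι Q u * ι Q v * (ι Q u * ι Q v) = (ι Q u * ι Q v) * ι Q u * ι Q v := by rw [mul_assoc, mul_assoc, mul_assoc]
      _ = -(ι Q v * ι Q u) * ι Q u * ι Q v := by rw [ι_orth o]
      _ = -(ι Q v * (ι Q u * ι Q u) * ι Q v) := by noncomm_ring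
      _ = -((Q u * Q u) • (1 : CliffordAlgebra Q)) := by
        rw [ι_sq, mul_smul_comm, mul_one, smul_mul_assoc, ι_sq, smul_smul, huv]
  rw [smul_mul_smul_comm, e1, smul_neg, smul_smul]
  have : (Q u)⁻¹ * (Q u)⁻¹ * (Q u * Q u) = 1 := by field_simp
  rw [this, one_smul]

/-- `-1` -/
def mm : Am Q := (-1, 1)

theorem mm_mem_Cov : mm ∈ Cov Q := by
  intro y
  show (-1 : CliffordAlgebra Q) * ι Q y = ι Q y * -1
  simp

theorem mm_sq : (mm * mm : Am Q) = 1 := by
  apply Prod.ext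
  · show (-1 : (CliffordAlgebra Q)ˣ) * -1 = 1
    simp
  · show (1 : V ≃ₗ[F] V) * 1 = 1
    rw [mul_one]

theorem mm_ne (h2 : (2 : F) ≠ 0) : (mm : Am Q) ≠ 1 := by
  intro h
  have h1 : ((mm : Am Q).1 : CliffordAlgebra Q) = 1 := by rw [h]; rfl
  have h3 : (-1 : CliffordAlgebra Q) = 1 := h1
  have h4 : (-1 : F) • (1 : CliffordAlgebra Q) = (1 : F) • 1 := by rw [neg_one_smul, one_smul, h3]
  have h5 := smul_one_inj h2 h4
  apply h2
  linear_combination -h5

theorem mm_comm (x : Am Q) : mm * x = x * mm := by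
  apply Prod.ext
  · show (-1 : (CliffordAlgebra Q)ˣ) * x.1 = x.1 * -1
    simp
  · show (1 : V ≃ₗ[F] V) * x.2 = x.2 * 1
    rw [mul_one, one_mul]

theorem sq_pp' (hQ : Nondeg Q) (h2 : (2 : F) ≠ 0) {u v : V} (hu : Q u ≠ 0) (huv : Q u = Q v) (o : polar Q u v = 0) :
    (pp u v hu huv * pp u v hu huv : Am Q) = mm :=
  Cov.ext h2 hQ (mul_mem (pp_mem_Cov _ _) (pp_mem_Cov _ _)) mm_mem_Cov (sq_pp hu huv o)

/-- `-1` is a commutator -/
theorem mm_mem (hQ : Nondeg Q) (h2 : (2 : F) ≠ 0) {u v w : V} (hu : Q u ≠ 0) (huv : Q u = Q v) (huw : Q u = Q w)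
    (o1 : polar Q u v = 0) (o2 : polar Q v w = 0) (o3 : polar Q u w = 0) :
    ∃ m ∈ commutator (Gam Q), (m : Am Q) = mm := by
  obtain ⟨i, hi⟩ : ∃ i : Gam Q, i = ⟨pp u w hu huw, pp_mem_Gam _ _⟩ := ⟨_, rfl⟩
  have h1 := pp_mem_comm hQ h2 hu huv huw o1 o2 o3
  refine ⟨⟨pp u w hu huw, pp_mem_Gam hu huw⟩ * ⟨pp u w hu huw, pp_mem_Gam hu huw⟩, mul_mem h1 h1, ?_⟩
  exact sq_pp' hQ h2 hu huw o3

end perfect

/-! ### Witt frames -/

section frame

variable {F V : Type*} [Field F] [AddCommGroup V] [Module F V] {Q : QuadraticForm F V} {m : ℕ} (W : WFrame (PO Q) m)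

/-- a vector of norm `a` in the `i`-th plane -/
def sv (i : Fin m) (a : F) : V := W.e i + a • W.f i

theorem Qe (i : Fin m) : Q (W.e i) = 0 := (sing_iff Q).1 (W.e_sing i)
theorem Qf (i : Fin m) : Q (W.f i) = 0 := (sing_iff Q).1 (W.f_sing i)
theorem Pee (i j : Fin m) : polar Q (W.e i) (W.e j) = 0 := W.ee i j
theorem Pff (i j : Fin m) : polar Q (W.f i) (W.f j) = 0 := W.ff i j
theorem Pef (i j : Fin m) : polar Q (W.e i) (W.f j) = if i = j then 1 else 0 := W.ef i j
theorem Pfe (i j : Fin m) : polar Q (W.f i) (W.e j) = if i = j then 1 else 0 := W.fe i j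
theorem P0e {w : V} (hw : w ∈ W.V0) (i : Fin m) : polar Q w (W.e i) = 0 := W.V0e w hw i
theorem P0f {w : V} (hw : w ∈ W.V0) (i : Fin m) : polar Q w (W.f i) = 0 := W.V0f w hw i

theorem Q_sv (i : Fin m) (a : F) : Q (sv W i a) = a := by
  rw [sv, Q_add, QuadraticMap.map_smul, Qe, Qf, polar_smul_right, Pef]
  simp

theorem polar_sv_ne {i j : Fin m} (h : i ≠ j) (a b : F) : polar Q (sv W i a) (sv W j b) = 0 := by
  rw [sv, sv, polar_add_left, polar_add_right, polar_add_right, polar_smul_left, polar_smul_right, polar_smul_right,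
    polar_smul_left, Pee, Pff, Pef, Pfe, if_neg h]
  simp

theorem polar_sv (i : Fin m) (a b : F) : polar Q (sv W i a) (sv W i b) = a + b := by
  rw [sv, sv, polar_add_left, polar_add_right, polar_add_right, polar_smul_left, polar_smul_right, polar_smul_right,
    polar_smul_left, Pee, Pff, Pef, Pfe, if_pos rfl]
  simp
  ring

theorem polar_V0_sv {w : V} (hw : w ∈ W.V0) (i : Fin m) (a : F) : polar Q w (sv W i a) = 0 := by
  rw [sv, polar_add_right, polar_smul_right, P0e W hw, P0f W hw]; simp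

theorem polar_sv_V0 {w : V} (hw : w ∈ W.V0) (i : Fin m) (a : F) : polar Q (sv W i a) w = 0 := by
  rw [polar_comm]; exact polar_V0_sv W hw i a

theorem sv_sub (h2 : (2 : F) ≠ 0) (i : Fin m) (g : V ≃ₗ[F] V) (c : F) (h1 : g (sv W i 1) = c • sv W i 1)
    (h3 : g (sv W i (-1)) = c • sv W i (-1)) : g (W.e i) = c • W.e i ∧ g (W.f i) = c • W.f i := by
  have e1 : W.e i = (2 : F)⁻¹ • (sv W i 1 + sv W i (-1)) := by
    rw [sv, sv]
    match_scalars
    · field_simp
      norm_num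
    · ring
  have e2 : W.f i = (2 : F)⁻¹ • (sv W i 1 - sv W i (-1)) := by
    rw [sv, sv]
    match_scalars
    · field_simp
      norm_num
    · ring
  constructor
  · rw [e1, map_smul, map_add, h1, h3, ← smul_add, smul_comm]
  · rw [e2, map_smul, map_sub, h1, h3, ← smul_sub, smul_comm]

variable (hG : Good Q) (h2 : (2 : F) ≠ 0)

include h2 in
theorem pp_sv_mem (hQ : Nondeg Q) (hm : 3 ≤ m) {i j : Fin m} (hij : i ≠ j) {a : F} (ha : a ≠ 0) :
    ∃ x ∈ commutator (Gam Q), (x : Am Q) = pp (sv W i a) (sv W j a) (by rwa [Q_sv]) (by rw [Q_sv, Q_sv]) := by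
  obtain ⟨k, hk1, hk2⟩ : ∃ k : Fin m, i ≠ k ∧ j ≠ k := by
    have h1 : ∃ k : Fin m, k ∉ ({i, j} : Finset (Fin m)) := by
      by_contra hcon
      push Not at hcon
      have h2 : (Finset.univ : Finset (Fin m)) ⊆ {i, j} := fun i _ => hcon i
      have h3 := Finset.card_le_card h2
      rw [Finset.card_univ, Fintype.card_fin] at h3
      have h4 := Finset.card_le_two (a := i) (b := j)
      omega
    obtain ⟨k, hk⟩ := h1
    rw [Finset.mem_insert, Finset.mem_singleton, not_or] at hk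
    exact ⟨k, Ne.symm hk.1, Ne.symm hk.2⟩
  exact ⟨_, pp_mem_comm hQ h2 (v := sv W k a) (by rwa [Q_sv]) (by rw [Q_sv, Q_sv]) (by rw [Q_sv, Q_sv])
    (polar_sv_ne W hk1 _ _) (polar_sv_ne W hk2.symm _ _) (polar_sv_ne W hij _ _), rfl⟩

/-- The lift of the element which is `-1` on the first `2 k` planes and `1` on the others. -/
structure Zk (k : ℕ) (z : Am Q) : Prop where
  mem : ∃ x ∈ commutator (Gam Q), (x : Am Q) = z
  sq : z * z = 1
  lt : ∀ i : Fin m, (i : ℕ) < 2 * k → z.2 (W.e i) = (-1 : F) • W.e i ∧ z.2 (W.f i) = (-1 : F) • W.f i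
  ge : ∀ i : Fin m, 2 * k ≤ (i : ℕ) → z.2 (W.e i) = (1 : F) • W.e i ∧ z.2 (W.f i) = (1 : F) • W.f i
  V0 : ∀ w ∈ W.V0, z.2 w = w

variable {W}

theorem Zk.memGam {k : ℕ} {z : Am Q} (h : Zk W k z) : z ∈ Gam Q := by
  obtain ⟨x, -, rfl⟩ := h.mem
  exact x.2

theorem Zk.sv_ge {k : ℕ} {z : Am Q} (h : Zk W k z) {i : Fin m} (hi : 2 * k ≤ (i : ℕ)) (a : F) :
    z.2 (sv W i a) = sv W i a := by
  obtain ⟨h1, h3⟩ := h.ge i hi
  rw [sv, map_add, map_smul, h1, h3, one_smul, one_smul]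

theorem Zk.sv_lt {k : ℕ} {z : Am Q} (h : Zk W k z) {i : Fin m} (hi : (i : ℕ) < 2 * k) (a : F) :
    z.2 (sv W i a) = -sv W i a := by
  obtain ⟨h1, h3⟩ := h.lt i hi
  rw [sv, map_add, map_smul, h1, h3]
  module

include hG in
/-- `z` commutes with `pp u v` if it fixes `u` and `v` -/
theorem Zk.comm_pp {k : ℕ} {z : Am Q} (h : Zk W k z) {u v : V} (hu : Q u ≠ 0) (huv : Q u = Q v) (h1 : z.2 u = u)
    (h3 : z.2 v = v) : z * pp u v hu huv = pp u v hu huv * z := by
  have := conj_pp (Gam_le_Cov h.memGam) (E_le_O (snd_mem_E hG h.memGam)) hu huv h1 h3 hu huv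
  rwa [mul_inv_eq_iff_eq_mul] at this

variable (W)

include hG h2 in
theorem exists_Zk (hm : 3 ≤ m) (k : ℕ) (hk : 2 * k ≤ m) : ∃ z, Zk W k z := by
  induction k with
  | zero =>
    refine ⟨1, ⟨1, one_mem _, rfl⟩, one_mul 1, fun i hi => by omega, fun i _ => ?_, fun _ _ => rfl⟩
    exact ⟨(one_smul F _).symm, (one_smul F _).symm⟩
  | succ k ih =>
    obtain ⟨z, hz⟩ := ih (by omega)
    set i : Fin m := ⟨2 * k, by omega⟩ with hi
    set j : Fin m := ⟨2 * k + 1, by omega⟩ with hj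
    have hij : i ≠ j := by rw [hi, hj]; simp [Fin.ext_iff]
    have n1 : (1 : F) ≠ 0 := one_ne_zero
    have n2 : (-1 : F) ≠ 0 := neg_ne_zero.2 one_ne_zero
    obtain ⟨a, ha, ea⟩ := pp_sv_mem W h2 hG.nondeg hm hij n1
    obtain ⟨b, hb, eb⟩ := pp_sv_mem W h2 hG.nondeg hm hij n2
    set A : Am Q := pp (sv W i 1) (sv W j 1) (by rwa [Q_sv]) (by rw [Q_sv, Q_sv]) with hA
    set B : Am Q := pp (sv W i (-1)) (sv W j (-1)) (by rwa [Q_sv]) (by rw [Q_sv, Q_sv]) with hB
    have Au : ∀ w, polar Q (sv W i 1) w = 0 → polar Q (sv W j 1) w = 0 → A.2 w = w := fun w h1 h3 => rr_orth _ _ h1 h3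
    have Bu : ∀ w, polar Q (sv W i (-1)) w = 0 → polar Q (sv W j (-1)) w = 0 → B.2 w = w :=
      fun w h1 h3 => rr_orth _ _ h1 h3
    have Ai : A.2 (sv W i 1) = -sv W i 1 := rr_left _ _ (polar_sv_ne W hij _ _)
    have Aj : A.2 (sv W j 1) = -sv W j 1 := rr_right _ _ (polar_sv_ne W hij _ _)
    have Bi : B.2 (sv W i (-1)) = -sv W i (-1) := rr_left _ _ (polar_sv_ne W hij _ _)
    have Bj : B.2 (sv W j (-1)) = -sv W j (-1) := rr_right _ _ (polar_sv_ne W hij _ _)
    have hpm : ∀ i : Fin m, polar Q (sv W i 1) (sv W i (-1)) = 0 := fun i => by rw [polar_sv]; ring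
    have hmp : ∀ i : Fin m, polar Q (sv W i (-1)) (sv W i 1) = 0 := fun i => by rw [polar_sv]; ring
    have Ai' : A.2 (sv W i (-1)) = sv W i (-1) := Au _ (hpm i) (polar_sv_ne W hij.symm _ _)
    have Aj' : A.2 (sv W j (-1)) = sv W j (-1) := Au _ (polar_sv_ne W hij _ _) (hpm j)
    have Bi' : B.2 (sv W i 1) = sv W i 1 := Bu _ (hmp i) (polar_sv_ne W hij.symm _ _)
    have Bj' : B.2 (sv W j 1) = sv W j 1 := Bu _ (polar_sv_ne W hij _ _) (hmp j)
    have hAB : A * B = B * A := by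
      have hAG : A ∈ Gam Q := pp_mem_Gam _ _
      have := conj_pp (x := A) (Gam_le_Cov hAG) (E_le_O (snd_mem_E hG hAG)) (u := sv W i (-1)) (v := sv W j (-1))
        (by rwa [Q_sv]) (by rw [Q_sv, Q_sv]) Ai' Aj' (by rwa [Q_sv]) (by rw [Q_sv, Q_sv])
      rwa [mul_inv_eq_iff_eq_mul] at this
    have hAA : A * A = mm := sq_pp' hG.nondeg h2 _ _ (polar_sv_ne W hij _ _)
    have hBB : B * B = mm := sq_pp' hG.nondeg h2 _ _ (polar_sv_ne W hij _ _)
    have hzA : z * A = A * z := hz.comm_pp hG _ _ (hz.sv_ge (by rw [hi]) _) (hz.sv_ge (by rw [hj]; simp) _)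
    have hzB : z * B = B * z := hz.comm_pp hG _ _ (hz.sv_ge (by rw [hi]) _) (hz.sv_ge (by rw [hj]; simp) _)
    have hap : ∀ v, (z * (A * B)).2 v = z.2 (A.2 (B.2 v)) := fun _ => rfl
    refine ⟨z * (A * B), ?_, ?_, ?_, ?_, ?_⟩
    · obtain ⟨x, hx, rfl⟩ := hz.mem
      exact ⟨x * (a * b), mul_mem hx (mul_mem ha hb), by show (x : Am Q) * (a * b) = _; rw [ea, eb]⟩
    · calc z * (A * B) * (z * (A * B)) = z * (A * (B * z) * A * B) := by simp only [mul_assoc]
        _ = z * (A * (z * B) * A * B) := by rw [hzB]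
        _ = z * ((A * z) * (B * A) * B) := by simp only [mul_assoc]
        _ = z * ((z * A) * (A * B) * B) := by rw [← hzA, hAB]
        _ = (z * z) * (A * A) * (B * B) := by simp only [mul_assoc]
        _ = 1 := by rw [hz.sq, hAA, hBB, one_mul, mm_sq]
    · intro l hl
      by_cases hl1 : (l : ℕ) < 2 * k
      · have hli : i ≠ l := by rw [hi]; rintro rfl; simp at hl1
        have hlj : j ≠ l := by rw [hj]; rintro rfl; simp at hl1
        refine sv_sub W h2 l _ _ ?_ ?_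
        · rw [hap, Bu _ (polar_sv_ne W hli _ _) (polar_sv_ne W hlj _ _),
            Au _ (polar_sv_ne W hli _ _) (polar_sv_ne W hlj _ _), hz.sv_lt hl1, neg_one_smul]
        · rw [hap, Bu _ (polar_sv_ne W hli _ _) (polar_sv_ne W hlj _ _),
            Au _ (polar_sv_ne W hli _ _) (polar_sv_ne W hlj _ _), hz.sv_lt hl1, neg_one_smul]
      · have hli : l = i ∨ l = j := by
          rw [hi, hj, Fin.ext_iff, Fin.ext_iff]
          simp only
          omega
        rcases hli with rfl | rfl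
        · refine sv_sub W h2 _ _ _ ?_ ?_
          · rw [hap, Bi', Ai, map_neg, hz.sv_ge (by rw [hi]), neg_one_smul]
          · rw [hap, Bi, map_neg, map_neg, Ai', hz.sv_ge (by rw [hi]), neg_one_smul]
        · refine sv_sub W h2 _ _ _ ?_ ?_
          · rw [hap, Bj', Aj, map_neg, hz.sv_ge (by rw [hj]; simp), neg_one_smul]
          · rw [hap, Bj, map_neg, map_neg, Aj', hz.sv_ge (by rw [hj]; simp), neg_one_smul]
    · intro l hl
      have hli : i ≠ l := by rw [hi]; rintro rfl; simp only at hl; omega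
      have hlj : j ≠ l := by rw [hj]; rintro rfl; simp only at hl; omega
      refine sv_sub W h2 l _ _ ?_ ?_
      · rw [hap, Bu _ (polar_sv_ne W hli _ _) (polar_sv_ne W hlj _ _),
          Au _ (polar_sv_ne W hli _ _) (polar_sv_ne W hlj _ _), hz.sv_ge (by omega), one_smul]
      · rw [hap, Bu _ (polar_sv_ne W hli _ _) (polar_sv_ne W hlj _ _),
          Au _ (polar_sv_ne W hli _ _) (polar_sv_ne W hlj _ _), hz.sv_ge (by omega), one_smul]
    · intro w hw
      rw [hap, Bu _ (polar_sv_V0 W hw _ _) (polar_sv_V0 W hw _ _), Au _ (polar_sv_V0 W hw _ _) (polar_sv_V0 W hw _ _),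
        hz.V0 w hw]

/-- an isometry is `-1` if it is `-1` on the frame and on `V₀` -/
theorem eq_neg_of {g : V ≃ₗ[F] V} (he : ∀ i, g (W.e i) = (-1 : F) • W.e i) (hf : ∀ i, g (W.f i) = (-1 : F) • W.f i)
    (h0 : ∀ w ∈ W.V0, g w = -w) (v : V) : g v = -v := by
  obtain ⟨a, b, w, hw, rfl⟩ := W.span v
  simp only [map_add, map_sum, map_smul, he, hf, h0 w hw, smul_neg, neg_smul, one_smul, Finset.sum_neg_distrib,
    neg_add]

include hG h2 in
/-- a lift of `-1`, plus type, even -/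
theorem exists_z_even (hm : 3 ≤ m) {k : ℕ} (hk : m = 2 * k) (hV : ∀ w ∈ W.V0, w = 0) :
    ∃ z : Am Q, (∃ x ∈ commutator (Gam Q), (x : Am Q) = z) ∧ (∀ v, z.2 v = -v) ∧ z * z = 1 := by
  obtain ⟨z, hz⟩ := exists_Zk W hG h2 hm k (by omega)
  refine ⟨z, hz.mem, ?_, hz.sq⟩
  refine eq_neg_of W (fun i => (hz.lt i (by omega)).1) (fun i => (hz.lt i (by omega)).2) ?_
  intro w hw
  rw [hV w hw, map_zero, neg_zero]

include hG h2 in
/-- a lift of `-1`, plus type, odd, `-1` a square -/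
theorem exists_z_odd (hm : 3 ≤ m) {k : ℕ} (hk : m = 2 * k + 1) (hV : ∀ w ∈ W.V0, w = 0) {c : F} (hc : c * c = -1) :
    ∃ z : Am Q, (∃ x ∈ commutator (Gam Q), (x : Am Q) = z) ∧ (∀ v, z.2 v = -v) ∧ z * z = mm := by
  obtain ⟨z, hz⟩ := exists_Zk W hG h2 hm k (by omega)
  set l : Fin m := ⟨2 * k, by omega⟩ with hl
  set o : Fin m := ⟨0, by omega⟩ with ho
  have hlo : l ≠ o := by rw [hl, ho]; simp [Fin.ext_iff]; omega
  have hu : Q (sv W l 1) ≠ 0 := by rw [Q_sv]; exact one_ne_zero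
  have hv : Q (sv W l 1) = Q (c • sv W l (-1)) := by
    rw [QuadraticMap.map_smul, Q_sv, Q_sv, smul_eq_mul, hc]; ring
  have huv : polar Q (sv W l 1) (c • sv W l (-1)) = 0 := by
    rw [polar_smul_right, polar_sv]; simp
  obtain ⟨a, ha, ea⟩ : ∃ a ∈ commutator (Gam Q), (a : Am Q) = pp (sv W l 1) (c • sv W l (-1)) hu hv :=
    ⟨_, pp_mem_comm hG.nondeg h2 hu (v := sv W o 1) (by rw [Q_sv, Q_sv]) hv (polar_sv_ne W hlo _ _)
      (by rw [polar_smul_right, polar_sv_ne W hlo.symm, smul_zero]) huv, rfl⟩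
  set A : Am Q := pp (sv W l 1) (c • sv W l (-1)) hu hv with hA
  have hzl : ∀ b, z.2 (sv W l b) = sv W l b := fun b => hz.sv_ge (by rw [hl]) b
  have hzA : z * A = A * z := hz.comm_pp hG hu hv (hzl 1) (by rw [map_smul, hzl])
  have hAA : A * A = mm := sq_pp' hG.nondeg h2 hu hv huv
  have c0 : c ≠ 0 := by
    rintro rfl
    rw [mul_zero] at hc
    exact one_ne_zero (neg_eq_zero.1 hc.symm)
  have A1 : A.2 (sv W l 1) = -sv W l 1 := rr_left _ _ huv
  have A2 : A.2 (sv W l (-1)) = -sv W l (-1) := by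
    have h1 : A.2 (c • sv W l (-1)) = -(c • sv W l (-1)) := rr_right _ _ huv
    rw [map_smul, ← smul_neg] at h1
    exact smul_right_injective V c0 h1
  have Ao : ∀ i : Fin m, l ≠ i → ∀ b, A.2 (sv W i b) = sv W i b := fun i hi b =>
    rr_orth _ _ (polar_sv_ne W hi _ _) (by rw [polar_smul_left, polar_sv_ne W hi, smul_zero])
  have hap : ∀ v, (z * A).2 v = z.2 (A.2 v) := fun _ => rfl
  have hact : ∀ i : Fin m, (z * A).2 (W.e i) = (-1 : F) • W.e i ∧ (z * A).2 (W.f i) = (-1 : F) • W.f i := by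
    intro i
    by_cases hi : i = l
    · subst hi
      refine sv_sub W h2 _ _ _ ?_ ?_
      · rw [hap, A1, map_neg, hzl, neg_one_smul]
      · rw [hap, A2, map_neg, hzl, neg_one_smul]
    · have hi' : (i : ℕ) < 2 * k := by
        have h1 : (i : ℕ) ≠ 2 * k := fun h => hi (Fin.ext h)
        omega
      refine sv_sub W h2 _ _ _ ?_ ?_
      · rw [hap, Ao i (Ne.symm hi), hz.sv_lt hi', neg_one_smul]
      · rw [hap, Ao i (Ne.symm hi), hz.sv_lt hi', neg_one_smul]
  refine ⟨z * A, ?_, ?_, ?_⟩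
  · obtain ⟨x, hx, rfl⟩ := hz.mem
    exact ⟨x * a, mul_mem hx ha, by show (x : Am Q) * a = _; rw [ea]⟩
  · refine eq_neg_of W (fun i => (hact i).1) (fun i => (hact i).2) ?_
    intro w hw
    rw [hV w hw, map_zero, neg_zero]
  · calc z * A * (z * A) = z * (A * z) * A := by simp only [mul_assoc]
      _ = (z * z) * (A * A) := by rw [← hzA]; simp only [mul_assoc]
      _ = mm := by rw [hz.sq, hAA, one_mul]

include hG h2 in
/-- a lift of `-1`, an even number of planes, `V₀` with an orthogonal basis of two vectors of the same norm -/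
theorem exists_z_minus (hm : 3 ≤ m) {k : ℕ} (hk : m = 2 * k) {u v : V} (hu : u ∈ W.V0) (hv : v ∈ W.V0)
    (hu0 : Q u ≠ 0) (huv : Q u = Q v) (o : polar Q u v = 0) (hsp : ∀ w ∈ W.V0, ∃ a b : F, w = a • u + b • v) :
    ∃ z : Am Q, (∃ x ∈ commutator (Gam Q), (x : Am Q) = z) ∧ (∀ v, z.2 v = -v) ∧ z * z = mm := by
  obtain ⟨z, hz⟩ := exists_Zk W hG h2 hm k (by omega)
  set l : Fin m := ⟨0, by omega⟩ with hl
  obtain ⟨a, ha, ea⟩ : ∃ a ∈ commutator (Gam Q), (a : Am Q) = pp u v hu0 huv :=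
    ⟨_, pp_mem_comm hG.nondeg h2 hu0 (v := sv W l (Q u)) (by rw [Q_sv]) huv (polar_V0_sv W hu _ _)
      (polar_sv_V0 W hv _ _) o, rfl⟩
  set A : Am Q := pp u v hu0 huv with hA
  have hzA : z * A = A * z := hz.comm_pp hG hu0 huv (hz.V0 u hu) (hz.V0 v hv)
  have hAA : A * A = mm := sq_pp' hG.nondeg h2 hu0 huv o
  have A1 : A.2 u = -u := rr_left _ _ o
  have A2 : A.2 v = -v := rr_right _ _ o
  have Ao : ∀ i : Fin m, ∀ b, A.2 (sv W i b) = sv W i b := fun i b =>
    rr_orth _ _ (polar_V0_sv W hu _ _) (polar_V0_sv W hv _ _)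
  have hap : ∀ v, (z * A).2 v = z.2 (A.2 v) := fun _ => rfl
  have hact : ∀ i : Fin m, (z * A).2 (W.e i) = (-1 : F) • W.e i ∧ (z * A).2 (W.f i) = (-1 : F) • W.f i := by
    intro i
    refine sv_sub W h2 _ _ _ ?_ ?_
    · rw [hap, Ao i, hz.sv_lt (by omega), neg_one_smul]
    · rw [hap, Ao i, hz.sv_lt (by omega), neg_one_smul]
  refine ⟨z * A, ?_, ?_, ?_⟩
  · obtain ⟨x, hx, rfl⟩ := hz.mem
    exact ⟨x * a, mul_mem hx ha, by show (x : Am Q) * a = _; rw [ea]⟩
  · refine eq_neg_of W (fun i => (hact i).1) (fun i => (hact i).2) ?_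
    intro w hw
    obtain ⟨s, t, rfl⟩ := hsp w hw
    rw [hap, map_add, map_smul, map_smul, A1, A2, map_add, map_smul, map_smul, map_neg, map_neg, hz.V0 u hu,
      hz.V0 v hv]
    module
  · calc z * A * (z * A) = z * (A * z) * A := by simp only [mul_assoc]
      _ = (z * z) * (A * A) := by rw [← hzA]; simp only [mul_assoc]
      _ = mm := by rw [hz.sq, hAA, one_mul]

include W h2 in
/-- `-1` (frame version) -/
theorem exists_mm (hQ : Nondeg Q) (hm : 3 ≤ m) : ∃ x ∈ commutator (Gam Q), (x : Am Q) = mm := by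
  have n1 : (⟨0, by omega⟩ : Fin m) ≠ ⟨1, by omega⟩ := by simp [Fin.ext_iff]
  have n2 : (⟨1, by omega⟩ : Fin m) ≠ ⟨2, by omega⟩ := by simp [Fin.ext_iff]
  have n3 : (⟨0, by omega⟩ : Fin m) ≠ ⟨2, by omega⟩ := by simp [Fin.ext_iff]
  exact mm_mem hQ h2 (u := sv W ⟨0, by omega⟩ 1) (v := sv W ⟨1, by omega⟩ 1) (w := sv W ⟨2, by omega⟩ 1)
    (by rw [Q_sv]; exact one_ne_zero) (by rw [Q_sv, Q_sv]) (by rw [Q_sv, Q_sv]) (polar_sv_ne W n1 _ _)
    (polar_sv_ne W n2 _ _) (polar_sv_ne W n3 _ _)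

end frame

/-! ### The cover of `PΩ` -/

section POmega

variable {κ : Type} [Fintype κ] [DecidableEq κ] {F : Type*} [Field F] {Q : QuadraticForm F (κ → F)} (hG : Good Q)
  (h2 : (2 : F) ≠ 0)

/-- the spin cover -/
noncomputable def spi : LL Q →* Cfsg.POmega F ⇑Q := (toPOmega hG).comp (prL hG)

include h2 in
/-- **The spin cover is a perfect central extension of `PΩ`.** -/
theorem pce : PCE (spi hG) where
  surj := (toPOmega_surjective hG).comp (prL_surjective hG h2)
  cen := by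
    refine H487.ker_comp_le_center (perfect_LL hG h2) (prL_ker hG) ?_
    intro g hg
    exact center_of_toPOmega hG hg
  perf := (perfect_LL hG h2).commutator_eq_top

include hG h2 in
theorem finite_LL [Finite F] : Finite (LL Q) := by
  have : Finite ((κ → F) ≃ₗ[F] (κ → F)) :=
    Finite.of_injective (fun g : (κ → F) ≃ₗ[F] (κ → F) => (g : (κ → F) → (κ → F))) DFunLike.coe_injective
  exact H487.finite_commutator_of_central (pr_surjective hG h2) (pr_ker hG)

theorem spi_eq_one {x : LL Q} (h : ∀ v, x.1.1.2 v = -v) : spi hG x = 1 := by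
  have h1 : prL hG x ∈ Subgroup.center (E Q) := by
    rw [Subgroup.mem_center_iff]
    intro g
    apply Subtype.ext
    ext1 v
    show g.1 (x.1.1.2 v) = x.1.1.2 (g.1 v)
    rw [h, h, map_neg]
  show (QuotientGroup.mk' (Subgroup.center (Cfsg.Omega F ⇑Q))) (toOmega hG (prL hG x)) = 1
  rw [QuotientGroup.mk'_apply, QuotientGroup.eq_one_iff, Subgroup.mem_center_iff]
  intro y
  obtain ⟨g, rfl⟩ := (toOmega hG).surjective y
  rw [← map_mul, ← map_mul, Subgroup.mem_center_iff.1 h1 g]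

theorem spi_eq_one' {x : LL Q} (h : x.1.1.2 = 1) : spi hG x = 1 := by
  have h1 : prL hG x = 1 := Subtype.ext h
  show toPOmega hG (prL hG x) = 1
  rw [h1, map_one]

end POmega

end Cfsg.Agent.H63.Spin
end

-- part: H63/Asm
section
/-!
# Assembly tools for the Schur multiplier of `PΩ`

* `perfect_PO` ; `two_dvd`, `four_dvd`, `four_le` : the order of the kernel of the spin cover;
* `isPGroup_two` ; `bd_two_of_surj` : the prime two from a cyclic kernel of the parametrisation;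
* `hasKlein` : the Klein four multiplier.
-/

set_option autoImplicit false

namespace Cfsg.Agent.H63.Asm

open QuadraticMap
open Cfsg.Agent.LieClassical Cfsg.Agent.LieClassical.OrthCore Cfsg.Agent.LieClassical.OrthTrans
open Cfsg.Agent.TitsThree Cfsg.Agent.TitsThree.Siegel Cfsg.Agent.TitsThree.SiegelGen Cfsg.Agent.TitsThree.KSideO
open Cfsg.Agent.H51.Mult Cfsg.Agent.H63.Spin

universe u v

/-- A finite abelian... the kernel of a perfect central extension is a 2-group if there are no odd covers. -/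
theorem isPGroup_two {X : Type v} [Group X] (hno : ∀ r : ℕ, r.Prime → r ≠ 2 → NoCov r X) {L : Type u} [Group L]
    [Finite L] {π : L →* X} (h : PCE π) : IsPGroup 2 π.ker := by
  have : Fact (Nat.Prime 2) := ⟨Nat.prime_two⟩
  rw [IsPGroup.iff_card]
  refine ⟨_, Nat.eq_prime_pow_of_unique_prime_dvd (p := 2) Nat.card_pos.ne' ?_⟩
  intro d hd hd'
  by_contra hne
  exact (hno d hd hne).not_dvd hd h hd'

/-- the prime two, the kernel being an image of a cyclic group -/
theorem bd_two_of_surj {X : Type v} [Group X] {n : ℕ} (hn : 0 < n) {K : Type*} [Group K] (hK : IsCyclic K)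
    (hKn : Nat.card K ∣ n)
    (hs : ∀ (L : Type) [Group L] [Finite L] (π : L →* X), PCE π → IsPGroup 2 π.ker →
      ∃ f : K →* π.ker, Function.Surjective f) : Bd 2 (n.factorization 2) X := by
  intro L _ _ π hπ hP
  have : Fact (Nat.Prime 2) := ⟨Nat.prime_two⟩
  obtain ⟨f, hf⟩ := hs L π hπ hP
  refine ⟨isCyclic_of_surjective f hf, ?_⟩
  have hfin : Finite K := Nat.finite_of_card_ne_zero fun h => by
    rw [h] at hKn
    exact hn.ne' (Nat.eq_zero_of_zero_dvd hKn)
  obtain ⟨j, hj⟩ := hP.exists_card_eq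
  have h1 : Nat.card π.ker ∣ n := (Subgroup.card_dvd_of_surjective f hf).trans hKn
  rw [hj] at h1 ⊢
  exact pow_dvd_pow 2 ((Nat.Prime.pow_dvd_iff_le_factorization Nat.prime_two hn.ne').1 h1)

/-- the odd primes -/
theorem bd_odd {X : Type v} [Group X] {r n : ℕ} (hr : r.Prime) (h : NoCov r X) : Bd r (n.factorization r) X :=
  (h.bd hr).mono (Nat.zero_le _)

section spin

variable {κ : Type} [Fintype κ] [DecidableEq κ] {F : Type u} [Field F] {Q : QuadraticForm F (κ → F)} (hG : Good Q)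
  (h2 : (2 : F) ≠ 0)

include hG in
theorem perfect_PO : commutator (Cfsg.POmega F ⇑Q) = ⊤ :=
  Cfsg.Agent.KFacts.MulDef.commutator_top_of_surj (toPOmega hG) (toPOmega_surjective hG)
    (perfect_E hG).commutator_eq_top

include hG in
theorem finite_PO [Finite F] : Finite (Cfsg.POmega F ⇑Q) := by
  have : Finite ((κ → F) ≃ₗ[F] (κ → F)) :=
    Finite.of_injective (fun g : (κ → F) ≃ₗ[F] (κ → F) => (g : (κ → F) → (κ → F))) DFunLike.coe_injective
  exact Finite.of_surjective _ (toPOmega_surjective hG)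

variable {m : ℕ} (W : WFrame (PO Q) m)

include W h2 in
/-- the kernel of the spin cover has even order -/
theorem two_dvd [Finite F] (hm : 3 ≤ m) : 2 ∣ Nat.card (spi hG).ker := by
  have := finite_LL hG h2
  obtain ⟨x, hx, hx'⟩ := exists_mm W h2 hG.nondeg hm
  have h1 : spi hG (⟨x, hx⟩ : LL Q) = 1 := spi_eq_one' hG (by rw [hx']; rfl)
  have h3 : orderOf (⟨⟨x, hx⟩, h1⟩ : (spi hG).ker) = 2 := by
    have : Fact (Nat.Prime 2) := ⟨Nat.prime_two⟩
    refine orderOf_eq_prime ?_ ?_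
    · apply Subtype.ext
      apply Subtype.ext
      apply Subtype.ext
      show (x : Am Q) ^ 2 = 1
      rw [hx', pow_two, mm_sq]
    · intro h
      apply mm_ne (Q := Q) h2
      rw [← hx']
      exact congrArg (fun y : (spi hG).ker => (y.1.1.1 : Am Q)) h
  rw [← h3]
  exact orderOf_dvd_natCard _

include h2 in
/-- the kernel of the spin cover has order divisible by four -/
theorem four_dvd [Finite F] (hz : ∃ z : Am Q, (∃ x ∈ commutator (Gam Q), (x : Am Q) = z) ∧ (∀ v, z.2 v = -v) ∧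
    z * z = mm) : 4 ∣ Nat.card (spi hG).ker := by
  have := finite_LL hG h2
  obtain ⟨z, ⟨x, hx, hx'⟩, hzv, hzz⟩ := hz
  have h1 : spi hG (⟨x, hx⟩ : LL Q) = 1 := spi_eq_one hG (fun v => by
    show (x : Am Q).2 v = -v
    rw [hx', hzv])
  have h3 : orderOf (⟨⟨x, hx⟩, h1⟩ : (spi hG).ker) = 2 ^ (1 + 1) := by
    have : Fact (Nat.Prime 2) := ⟨Nat.prime_two⟩
    refine orderOf_eq_prime_pow ?_ ?_
    · intro h
      apply mm_ne (Q := Q) h2
      have h4 : (x : Am Q) ^ (2 ^ 1) = 1 := congrArg (fun y : (spi hG).ker => (y.1.1.1 : Am Q)) h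
      rw [hx', pow_one, pow_two, hzz] at h4
      exact h4
    · apply Subtype.ext
      apply Subtype.ext
      apply Subtype.ext
      show (x : Am Q) ^ (2 ^ (1 + 1)) = 1
      rw [hx', pow_succ, pow_mul, pow_one, pow_two z, hzz, pow_two, mm_sq]
  have h4 : orderOf (⟨⟨x, hx⟩, h1⟩ : (spi hG).ker) ∣ Nat.card (spi hG).ker := orderOf_dvd_natCard _
  rw [h3] at h4
  exact h4

include W h2 in
/-- the kernel of the spin cover has at least four elements -/
theorem four_le [Finite F] (hm : 3 ≤ m) (hz : ∃ z : Am Q, (∃ x ∈ commutator (Gam Q), (x : Am Q) = z) ∧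
    (∀ v, z.2 v = -v) ∧ z * z = 1) : 4 ≤ Nat.card (spi hG).ker := by
  have := finite_LL hG h2
  have := Fintype.ofFinite (spi hG).ker
  classical
  obtain ⟨z, ⟨x, hx, hx'⟩, hzv, hzz⟩ := hz
  obtain ⟨y, hy, hy'⟩ := exists_mm W h2 hG.nondeg hm
  have h1 : spi hG (⟨x, hx⟩ : LL Q) = 1 := spi_eq_one hG (fun v => by
    show (x : Am Q).2 v = -v
    rw [hx', hzv])
  have h3 : spi hG (⟨y, hy⟩ : LL Q) = 1 := spi_eq_one' hG (by rw [hy']; rfl)
  set A : (spi hG).ker := ⟨⟨x, hx⟩, h1⟩ with hA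
  set B : (spi hG).ker := ⟨⟨y, hy⟩, h3⟩ with hB
  let ev : (spi hG).ker → Am Q := fun y => (y.1.1.1 : Am Q)
  have evA : ev A = z := hx'
  have evB : ev B = mm := hy'
  have ev1 : ev 1 = 1 := rfl
  have evAB : ev (A * B) = z * mm := by
    show (x : Am Q) * (y : Am Q) = z * mm
    rw [hx', hy']
  have hB1 : B ≠ 1 := by
    intro h
    apply mm_ne (Q := Q) h2
    rw [← evB, h, ev1]
  -- the action of `z` is not trivial
  have hne : z.2 ≠ 1 := by
    intro h
    have h4 : ∀ v : κ → F, v = 0 := by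
      intro v
      have h5 := hzv v
      rw [h] at h5
      have h6 : v = -v := h5
      have h7 : (2 : F) • v = 0 := by
        rw [two_smul]
        nth_rw 1 [h6]
        exact neg_add_cancel v
      exact (smul_eq_zero.1 h7).resolve_left h2
    have h5 := W.ef ⟨0, by omega⟩ ⟨0, by omega⟩
    rw [h4 (W.e ⟨0, by omega⟩), (HO Q).zero_left, if_pos rfl] at h5
    exact zero_ne_one h5
  have hA1 : A ≠ 1 := by
    intro h
    apply hne
    rw [← evA, h, ev1]; rfl
  have hAB : A ≠ B := by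
    intro h
    apply hne
    rw [← evA, h, evB]; rfl
  have hAB1 : A * B ≠ 1 := by
    intro h
    apply hne
    have h4 : (ev (A * B)).2 = 1 := by rw [h, ev1]; rfl
    rw [evAB] at h4
    exact h4
  have hABA : A * B ≠ A := fun h => hB1 (mul_eq_left.1 h)
  have hABB : A * B ≠ B := fun h => hA1 (mul_eq_right.1 h)
  have h4 : ({1, A, B, A * B} : Finset (spi hG).ker).card = 4 := by
    rw [Finset.card_insert_of_notMem, Finset.card_insert_of_notMem, Finset.card_insert_of_notMem,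
      Finset.card_singleton]
    · simp only [Finset.mem_singleton]; exact hABB.symm
    · simp only [Finset.mem_insert, Finset.mem_singleton, not_or]; exact ⟨hAB, hABA.symm⟩
    · simp only [Finset.mem_insert, Finset.mem_singleton, not_or]; exact ⟨hA1.symm, hB1.symm, hAB1.symm⟩
  rw [Nat.card_eq_fintype_card, ← h4]
  exact Finset.card_le_univ _

end spin

/-- **The Klein four multiplier.** `K` has order at most four and exponent two and maps onto the kernel of each
2-extension; some extension has at least four elements in its kernel. -/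
theorem hasKlein {X : Type u} [Group X] (hX : commutator X = ⊤) (hno : ∀ r : ℕ, r.Prime → r ≠ 2 → NoCov r X)
    {K : Type*} [Group K] [Finite K] (hK : Nat.card K ≤ 4) (hK2 : ∀ x : K, x ^ 2 = 1)
    (hs : ∀ (L : Type u) [Group L] [Finite L] (π : L →* X), PCE π → IsPGroup 2 π.ker →
      ∃ f : K →* π.ker, Function.Surjective f)
    {L : Type u} [Group L] [Finite L] {π : L →* X} (hπ : PCE π) (h4 : 4 ≤ Nat.card π.ker) :
    Cfsg.HasSchurMultiplier X (Multiplicative (ZMod 2 × ZMod 2)) := by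
  obtain ⟨f, hf⟩ := hs L π hπ (isPGroup_two hno hπ)
  have h1 : Nat.card π.ker ≤ Nat.card K := Nat.card_le_card_of_surjective f hf
  have hcK : Nat.card K = 4 := by omega
  have hcp : Nat.card π.ker = 4 := by omega
  have key : ∀ (H : Type _) [Group H] (hc : Nat.card H = 4) (he : ∀ x : H, x ^ 2 = 1), IsKleinFour H := by
    intro H _ hc he
    refine ⟨hc, ?_⟩
    have h2 : Monoid.exponent H ∣ 2 := Monoid.exponent_dvd_of_forall_pow_eq_one he
    rcases (Nat.dvd_prime Nat.prime_two).1 h2 with h3 | h3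
    · exfalso
      rw [Monoid.exp_eq_one_iff] at h3
      have := Nat.card_eq_one_iff_unique.2 ⟨h3, ⟨1⟩⟩
      omega
    · exact h3
  have hK4 : IsKleinFour K := by
    refine ⟨hcK, ?_⟩
    have h2 : Monoid.exponent K ∣ 2 := Monoid.exponent_dvd_of_forall_pow_eq_one hK2
    rcases (Nat.dvd_prime Nat.prime_two).1 h2 with h3 | h3
    · exfalso
      rw [Monoid.exp_eq_one_iff] at h3
      have := Nat.card_eq_one_iff_unique.2 ⟨h3, ⟨1⟩⟩
      omega
    · exact h3
  have hp4 : IsKleinFour π.ker := by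
    refine key _ hcp fun x => ?_
    obtain ⟨y, rfl⟩ := hf x
    rw [← map_pow, hK2, map_one]
  constructor
  · obtain ⟨e⟩ := IsKleinFour.nonempty_mulEquiv (G₁ := π.ker) (G₂ := Multiplicative (ZMod 2 × ZMod 2))
    exact ⟨L, inferInstance, inferInstance, π, hπ.toStem, ⟨e⟩⟩
  · intro Γ _ _ σ hσ
    have hσ' := PCE.of_stem hσ hX
    obtain ⟨g, hg⟩ := hs Γ σ hσ' (isPGroup_two hno hσ')
    obtain ⟨e⟩ := IsKleinFour.nonempty_mulEquiv (G₁ := Multiplicative (ZMod 2 × ZMod 2)) (G₂ := K)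
    exact ⟨g.comp e.toMonoidHom, hg.comp e.surjective⟩

end Cfsg.Agent.H63.Asm
end
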