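import Mathlib
import Cfsg.Agent.H63.Asm
import Cfsg.Agent.H63.NodeBd
import Cfsg.Agent.H63.ODef
import Cfsg.Agent.KFacts.Mult.OMinus_mg
set_option linter.all false

/-!
# The Schur multiplier of `PΩ⁻_{2m+2}(q)`

* `noCov_odd_prime` : odd primes; `odd_char` : `q` odd; `even_char` : `q` even.
-/

set_option autoImplicit false
set_option linter.unusedSectionVars false

namespace Cfsg.Agent.H63.Minus

open QuadraticMap
open Cfsg.Agent.LieClassical Cfsg.Agent.LieClassical.OrthCore Cfsg.Agent.LieClassical.OrthTrans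
open Cfsg.Agent.LieClassical.OrthSimple Cfsg.Agent.LieClassical.OrthFinite Cfsg.Agent.LieClassical.OrthForms
open Cfsg.Agent.TitsThree Cfsg.Agent.TitsThree.Siegel Cfsg.Agent.TitsThree.SiegelGen
  Cfsg.Agent.TitsThree.WittFrame Cfsg.Agent.TitsThree.WittWeyl Cfsg.Agent.TitsThree.WBridge
  Cfsg.Agent.TitsThree.KSideO Cfsg.Agent.TitsThree.StdData
open Cfsg.Agent.Nodes Cfsg.Agent.Nodes.WittAll Cfsg.Agent.Nodes.WittInst
open Cfsg.Agent.OddHalf.NI Cfsg.Agent.OddHalf.NI.OmegaNodes Cfsg.Agent.OddHalf.NI.OmegaLast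
  Cfsg.Agent.OddHalf.NI.OmegaTorus Cfsg.Agent.OddHalf.NI.OmegaRows
open Cfsg.Agent.H51.Mult Cfsg.Agent.H63.Spin Cfsg.Agent.H63.Asm

variable {F : Type} [Field F] (m : ℕ) (a b : F)
  (hab : ∀ z₁ z₂ : F, z₁ ^ 2 + a * z₁ * z₂ + b * z₂ ^ 2 = 0 → z₁ = 0 ∧ z₂ = 0)

/-! ### The nodes -/

/-- the square of the last parameter -/
theorem sqM {k : ℕ} {ε : Fˣ} {t : (EE a b)ˣ} (h3 : nrm a b t = ε ^ k) (h4 : om a b t = embM a b ε) :
    t ^ 2 = embM a b (ε ^ (k + 1)) := by
  have h5 : (t : EE a b) = algebraMap F (EE a b) ε * star (t : EE a b) := by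
    have h6 := congrArg (fun u : (EE a b)ˣ => (u : EE a b) * star (t : EE a b)) h4
    simp only [om_val] at h6
    rw [mul_assoc, ← star_mul, t.mul_inv, star_one, mul_one] at h6
    exact h6
  have h7 : (t : EE a b) * star (t : EE a b) = algebraMap F (EE a b) ((ε : F) ^ k) := by
    rw [← QuadraticAlgebra.algebraMap_norm_eq_mul_star]
    have h8 := congrArg (fun u : Fˣ => (u : F)) h3
    simp only [Units.val_pow_eq_pow_val] at h8
    rw [← h8]
    rfl
  apply Units.ext
  rw [Units.val_pow_eq_pow_val, pow_two]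
  nth_rw 1 [h5]
  rw [mul_assoc, mul_comm (star (t : EE a b)), h7, ← map_mul]
  show _ = algebraMap F (EE a b) ((ε ^ (k + 1) : Fˣ) : F)
  rw [Units.val_pow_eq_pow_val, pow_succ']

theorem embM_inj {ε : Fˣ} (h : embM a b ε = 1) : ε = 1 := by
  have h1 : algebraMap F (EE a b) ε = 1 := congrArg Units.val h
  apply Units.ext
  have h2 := congrArg QuadraticAlgebra.re h1
  simp only [QuadraticAlgebra.algebraMap_re, QuadraticAlgebra.re_one] at h2
  exact h2

theorem four_last {k : ℕ} {ε : Fˣ} (h2 : ε ^ 2 = 1) {t : (EE a b)ˣ} (h3 : nrm a b t = ε ^ k)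
    (h4 : om a b t = embM a b ε) : t ^ 4 = 1 := by
  rw [show 4 = 2 * 2 by norm_num, pow_mul, sqM a b h3 h4]
  unfold embM
  rw [← map_pow, ← pow_mul, mul_comm, pow_mul, h2, one_pow, map_one]

include hab in
theorem two_last {k : ℕ} {ε : Fˣ} (h2 : ε ^ 2 = 1) (hk : Even k) {c : F} (hc : c * c = -1) {t : (EE a b)ˣ}
    (h3 : nrm a b t = ε ^ k) (h4 : om a b t = embM a b ε) : t ^ 2 = 1 := by
  have := fact a b hab
  have h5 := sqM a b h3 h4
  have h7 : ε ^ (k + 1) = ε := by
    obtain ⟨j, hj⟩ := hk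
    rw [hj, ← two_mul, pow_succ, pow_mul, h2, one_pow, one_mul]
  rw [h7] at h5
  have h8 : ((ε : F) - 1) * (ε + 1) = 0 := by
    have h9 : (ε : F) ^ 2 = 1 := by rw [← Units.val_pow_eq_pow_val, h2, Units.val_one]
    linear_combination h9
  have h10 : ε = 1 := by
    rcases mul_eq_zero.1 h8 with h9 | h9
    · exact Units.ext (sub_eq_zero.1 h9)
    · have h11 : (ε : F) = -1 := eq_neg_of_add_eq_zero_left h9
      have h12 : (t : EE a b) * t = algebraMap F (EE a b) c * algebraMap F (EE a b) c := by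
        rw [← map_mul, hc, ← h11]
        have h13 := congrArg Units.val h5
        rw [Units.val_pow_eq_pow_val, pow_two] at h13
        exact h13
      have h13 : star (t : EE a b) = t := by
        rcases mul_self_eq_mul_self_iff.1 h12 with h14 | h14
        · rw [h14]; apply QuadraticAlgebra.ext <;> simp
        · rw [h14]; apply QuadraticAlgebra.ext <;> simp
      have h14 : starU a b t = t := Units.ext h13
      have h15 : om a b t = 1 := by rw [om_apply, h14, mul_inv_cancel]
      exact embM_inj a b (h4.symm.trans h15)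
  rw [h5, h10]
  exact map_one _

variable [Finite F]

theorem nodeM_e {i : Fin m} (hi : (i : ℕ) + 1 < m) : Function.Injective (nodeM m a b hab i).e := by
  unfold nodeM
  rw [dif_pos hi]
  exact Function.injective_id

theorem nodeM_four {i : Fin m} (hi : ¬ (i : ℕ) + 1 < m) {ε : Fˣ} (h2 : ε ^ 2 = 1) (t : ((nodeM m a b hab i).K)ˣ)
    (h3 : (nodeM m a b hab i).e t = ε ^ ((i : ℕ) + 1)) (h4 : (nodeM m a b hab i).w t = embM a b ε) : t ^ 4 = 1 := by
  revert t
  unfold nodeM
  rw [dif_neg hi]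
  intro t h3 h4
  exact four_last a b h2 h3 h4

theorem nodeM_two {i : Fin m} (hi : ¬ (i : ℕ) + 1 < m) {ε : Fˣ} (h2 : ε ^ 2 = 1) (hm : Even m) {c : F}
    (hc : c * c = -1) (t : ((nodeM m a b hab i).K)ˣ)
    (h3 : (nodeM m a b hab i).e t = ε ^ ((i : ℕ) + 1)) (h4 : (nodeM m a b hab i).w t = embM a b ε) : t ^ 2 = 1 := by
  revert t
  unfold nodeM
  rw [dif_neg hi]
  intro t h3 h4
  have h6 : Even ((i : ℕ) + 1) := by
    have := i.2
    have h7 : (i : ℕ) + 1 = m := by omega
    rwa [h7]
  exact two_last a b hab h2 h6 hc h3 h4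

/-! ### The kernel -/

variable (hm3 : 3 ≤ m) (hG : Good (minusForm m F a b))

include hab in
theorem good (hm : 2 ≤ m) : Good (minusForm m F a b) := by
  apply good_of_finite (nondeg_minusForm m F a b hab)
  rw [Module.finrank_fintype_fun_eq_card, Fintype.card_sum, Fintype.card_sum, Fintype.card_fin,
    Fintype.card_fin]
  omega

theorem exists_adm : ∃ p0 : (toFrame (wminus m F a b hab)).Adm, p0.c ≠ 0 := by
  refine ⟨(embMinus m F a b hab).ngt ⟨(1, 0), -nf a b (1, 0), rfl⟩, ?_⟩
  change (1 : F)⁻¹ * (-nf a b (1, 0)) ≠ 0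
  simp [nf]

theorem ambT (hm : 2 ≤ m) (hG : Good (minusForm m F a b)) {p : ℕ} [Fact p.Prime] [CharP F p] :
    AmbT (toFrame (wminus m F a b hab)) p (E (minusForm m F a b)) := by
  by_cases h2 : (2 : F) = 0
  · have hp2 : p = 2 := by
      have h3 : CharP F 2 := CharTwo.of_one_ne_zero_of_two_eq_zero one_ne_zero h2
      exact CharP.eq F ‹CharP F p› h3
    subst hp2
    exact ambT_O _ fun g hg hg2 hb => fixp_minus a b hab h2 hm hG hg hg2 hb
  · exact AmbT.of_amb (amb_O_of_two _ h2) p

variable (hle : ∀ x, WittRoot.rg (toFrame (wminus m F a b hab)) x ≤ E (minusForm m F a b))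

theorem four (hm : 0 < m) (t : ∀ i, ((nodeM m a b hab i).K)ˣ) (ht : NodeBd.thP (nodeM m a b hab) hle hG t = 1) :
    t ^ 4 = 1 := by
  obtain ⟨ε, h2, h⟩ := NodeBd.exists_eps (nodeM m a b hab) hle hG (scalM m a b hm) hm ht
  funext i
  show (t i) ^ 4 = 1
  by_cases hi : (i : ℕ) + 1 < m
  · apply nodeM_e m a b hab hi
    rw [map_pow, (h i).1, ← pow_mul, mul_comm, show 4 = 2 * 2 by norm_num, mul_assoc, pow_mul, h2, one_pow, map_one]
  · exact nodeM_four m a b hab hi h2 _ (h i).1 ((h i).2 hi)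

theorem two_of_odd (hm : 0 < m) (hmo : Odd m) (t : ∀ i, ((nodeM m a b hab i).K)ˣ)
    (ht : NodeBd.thP (nodeM m a b hab) hle hG t = 1) : t ^ 2 = 1 := by
  obtain ⟨ε, h2, h⟩ := NodeBd.exists_eps (nodeM m a b hab) hle hG (scalM m a b hm) hm ht
  funext i
  exact (nodeM m a b hab i).sol ε h2 (Or.inr hmo) (t i) (h i).1 (h i).2

theorem two_of_even (hm : 0 < m) (hme : Even m) {c : F} (hc : c * c = -1) (t : ∀ i, ((nodeM m a b hab i).K)ˣ)
    (ht : NodeBd.thP (nodeM m a b hab) hle hG t = 1) : t ^ 2 = 1 := by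
  obtain ⟨ε, h2, h⟩ := NodeBd.exists_eps (nodeM m a b hab) hle hG (scalM m a b hm) hm ht
  funext i
  show (t i) ^ 2 = 1
  by_cases hi : (i : ℕ) + 1 < m
  · apply nodeM_e m a b hab hi
    rw [map_pow, (h i).1, ← pow_mul, mul_comm, pow_mul, h2, one_pow, map_one]
  · exact nodeM_two m a b hab hi h2 hme hc _ (h i).1 ((h i).2 hi)

/-! ### The bounds -/

include hab in
/-- **odd primes** -/
theorem noCov_odd_prime (hm : 3 ≤ m) {r : ℕ} (hr : r.Prime) (hr2 : r ≠ 2) :
    NoCov r (Cfsg.POmega F (Cfsg.quadFormMinus m F a b)) := by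
  obtain ⟨p, hp⟩ := CharP.exists F
  have hpp : Fact p.Prime := ⟨CharP.char_is_prime F p⟩
  by_cases hne : r = p
  · subst hne
    refine Ort.noCov_minus F (fun h => ?_) (p := r) hm hab
    apply hr2
    have h1 : ((2 : ℕ) : F) = 0 := by exact_mod_cast h
    have h3 := (CharP.cast_eq_zero_iff F r 2).1 h1
    exact (Nat.prime_dvd_prime_iff_eq hr Nat.prime_two).1 h3
  · rw [← coe_minusForm]
    have hG := good m a b hab (by omega)
    obtain ⟨p0, hp0⟩ := exists_adm m a b hab
    have hA := ambT m a b hab (by omega) hG (p := p)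
    exact NodeBd.noCov (nodeM m a b hab) hG (by omega) hA hp0 (four m a b hab hG hA.rg_le (by omega)) hr hr2 hne

include hab in
theorem bd_two (hm : 3 ≤ m) (h2 : (2 : F) ≠ 0) {n : ℕ} (hn : 0 < n)
    (h : ∀ (hG : Good (minusForm m F a b))
      (hle : ∀ x, WittRoot.rg (toFrame (wminus m F a b hab)) x ≤ E (minusForm m F a b))
      (t : ∀ i, ((nodeM m a b hab i).K)ˣ), NodeBd.thP (nodeM m a b hab) hle hG t = 1 → t ^ n = 1) :
    Bd 2 (n.factorization 2) (Cfsg.POmega F (Cfsg.quadFormMinus m F a b)) := by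
  obtain ⟨p, hp⟩ := CharP.exists F
  have hpp : Fact p.Prime := ⟨CharP.char_is_prime F p⟩
  have hp2 : p ≠ 2 := by
    rintro rfl
    exact h2 (by exact_mod_cast CharP.cast_eq_zero F 2)
  rw [← coe_minusForm]
  have hG := good m a b hab (by omega)
  obtain ⟨p0, hp0⟩ := exists_adm m a b hab
  have hA := ambT m a b hab (by omega) hG (p := p)
  obtain ⟨h3, h4⟩ := NodeBd.cyc (nodeM m a b hab) hA.rg_le hG (scalM m a b (show 0 < m by omega)) (by omega)
    (fun i hi => nodeM_e m a b hab hi) (fun ε he => embM_inj a b he) (h hG hA.rg_le)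
  exact bd_two_of_surj hn h3 h4 fun L _ _ π hd hk =>
    NodeBd.exists_surj (nodeM m a b hab) hG (by omega) hA hp0 hp2 hd hk

include hab in
/-- **`q` even** -/
theorem even_char (h2 : (2 : F) = 0) (hm : 3 ≤ m) :
    Cfsg.HasCyclicSchurMultiplier (Cfsg.POmega F (Cfsg.quadFormMinus m F a b)) 1 := by
  have hno : ∀ r : ℕ, r.Prime → r ≠ 2 → NoCov r (Cfsg.POmega F (Cfsg.quadFormMinus m F a b)) :=
    fun r hr hr2 => noCov_odd_prime m a b hab hm hr hr2
  have : CharP F 2 := CharTwo.of_one_ne_zero_of_two_eq_zero one_ne_zero h2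
  have htwo : NoCov 2 (Cfsg.POmega F (Cfsg.quadFormMinus m F a b)) := by
    apply noCov_two
    by_cases hq : 2 < Nat.card F
    · exact KFacts.Mult.OMinus.noDouble F hq hm a b hab
    · have h3 : Nat.card F = 2 := by
        have h4 : 1 < Nat.card F := Finite.one_lt_card
        omega
      exact KFacts.Mult.OMinusTwoInst.noDouble_minus m F a b hab h3 hm
  rw [← coe_minusForm] at hno htwo ⊢
  have hG := good m a b hab (by omega)
  have := finite_PO hG
  refine hasCyclic_one (perfect_PO hG) fun r hr _ => ?_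
  by_cases hr2 : r = 2
  · subst hr2; exact htwo
  · exact hno r hr hr2

include hab in
/-- the two vectors of the anisotropic plane, `-1` not a square -/
theorem exists_pair (h2 : (2 : F) ≠ 0) (hsq : ¬ IsSquare (-1 : F)) :
    ∃ s : F, s ≠ 0 ∧ 4 * b - a ^ 2 = s * s := by
  have := Fintype.ofFinite F
  classical
  have h1 : ¬ IsSquare (a ^ 2 - 4 * b) := by
    rintro ⟨r, hr⟩
    have h3 := (hab ((-a + r) / 2) 1 (by
      field_simp
      linear_combination -hr)).2
    exact one_ne_zero h3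
  have h3 : IsSquare (4 * b - a ^ 2) := by
    have h4 : 4 * b - a ^ 2 ≠ 0 := by
      intro h
      apply h1
      have : a ^ 2 - 4 * b = 0 := by linear_combination -h
      rw [this]
      exact ⟨0, by simp⟩
    rw [← quadraticChar_one_iff_isSquare h4]
    have h5 : 4 * b - a ^ 2 = (-1) * (a ^ 2 - 4 * b) := by ring
    rw [h5, map_mul, quadraticChar_neg_one_iff_not_isSquare.2 hsq, quadraticChar_neg_one_iff_not_isSquare.2 h1]
    norm_num
  obtain ⟨s, hs⟩ := h3
  refine ⟨s, ?_, hs⟩
  rintro rfl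
  apply h1
  exact ⟨0, by linear_combination -hs⟩

open Classical in
include hab in
/-- **`q` odd** -/
theorem odd_char (h2 : (2 : F) ≠ 0) (hm : 3 ≤ m) :
    Cfsg.HasCyclicSchurMultiplier (Cfsg.POmega F (Cfsg.quadFormMinus m F a b))
      (if Even m ∧ ¬ IsSquare (-1 : F) then 4 else 2) := by
  have hno : ∀ r : ℕ, r.Prime → r ≠ 2 → NoCov r (Cfsg.POmega F (Cfsg.quadFormMinus m F a b)) :=
    fun r hr hr2 => noCov_odd_prime m a b hab hm hr hr2
  have hG := good m a b hab (by omega)
  have := finite_LL hG h2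
  split_ifs with h
  · obtain ⟨hme, hsq⟩ := h
    have hbd := bd_two m a b hab hm h2 (n := 4) (by norm_num) fun hG hle t ht =>
      four m a b hab hG hle (by omega) t ht
    rw [← coe_minusForm] at hno hbd ⊢
    have := finite_PO hG
    refine hasCyclic (perfect_PO hG) (by norm_num) (fun r hr _ => ?_)
      ⟨LL (minusForm m F a b), inferInstance, inferInstance, spi hG, pce hG h2, ?_⟩
    · by_cases hr2 : r = 2
      · subst hr2; exact hbd
      · exact bd_odd hr (hno r hr hr2)
    · obtain ⟨k, hk⟩ := hme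
      obtain ⟨s, hs0, hs⟩ := exists_pair a b hab h2 hsq
      have hQ : ∀ x y : F, minusForm m F a b (Sum.elim (fun _ => 0) ![x, y]) = x ^ 2 + a * x * y + b * y ^ 2 := by
        intro x y
        rw [coe_minusForm, quadFormMinus_apply]
        simp
      have hP : ∀ x y z w : F, polar (minusForm m F a b) (Sum.elim (fun _ => 0) ![x, y])
          (Sum.elim (fun _ => 0) ![z, w]) = 2 * x * z + a * (x * w + y * z) + 2 * b * y * w := by
        intro x y z w
        rw [polar_minusForm]
        simp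
      refine four_dvd hG h2 (exists_z_minus (wminus m F a b hab) hG h2 hm (k := k) (by omega)
        (u := Sum.elim (fun _ => 0) ![1, 0]) (v := Sum.elim (fun _ => 0) ![-a / s, 2 / s]) ?_ ?_ ?_ ?_ ?_ ?_)
      · intro j; rfl
      · intro j; rfl
      · rw [hQ]; simp
      · rw [hQ, hQ]
        field_simp
        linear_combination -hs
      · rw [hP]
        field_simp
        ring
      · intro w hw
        have hw' : ∀ j, w (Sum.inl j) = 0 := hw
        refine ⟨w (Sum.inr 0) + a * w (Sum.inr 1) / 2, s * w (Sum.inr 1) / 2, ?_⟩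
        funext j
        rcases j with j | j
        · simp [hw']
        · fin_cases j
          · simp
            field_simp
            ring
          · simp
            field_simp
  · have hbd := bd_two m a b hab hm h2 (n := 2) (by norm_num) fun hG hle t ht => by
      rcases Nat.even_or_odd m with hme | hmo
      · have hsq : IsSquare (-1 : F) := by
          by_contra hsq
          exact h ⟨hme, hsq⟩
        obtain ⟨c, hc⟩ := hsq
        exact two_of_even m a b hab hG hle (by omega) hme hc.symm t ht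
      · exact two_of_odd m a b hab hG hle (by omega) hmo t ht
    rw [← coe_minusForm] at hno hbd ⊢
    have := finite_PO hG
    refine hasCyclic (perfect_PO hG) (by norm_num) (fun r hr _ => ?_)
      ⟨LL (minusForm m F a b), inferInstance, inferInstance, spi hG, pce hG h2, ?_⟩
    · by_cases hr2 : r = 2
      · subst hr2; exact hbd
      · exact bd_odd hr (hno r hr hr2)
    · exact two_dvd hG h2 (wminus m F a b hab) hm

end Cfsg.Agent.H63.Minus
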