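import Cfsg.Agent.H478.RadTools_m3
import Cfsg.Agent.Dichotomy.Constraint
import Cfsg.Agent.OddOrderLocal.RankTwoSolvable
import Cfsg.Agent.Lib.PGroupCoprimeAction
import Cfsg.Agent.Lib.ProductSet
import Cfsg.Agent.H449.FixQuot
import Cfsg.Agent.SignalizersComponents.RelSylow
import Cfsg.Agent.Classification.IdU.GenSylow
import Cfsg.Agent.FastGrp
import Cfsg.Agent.Prune
set_option linter.all false
prune_inst 0x7f00000000000000000000000000000000000000000000000000000000000000000000000000000000000000000000000000000000000000000000000000000000000000000000000000000000000000003fffffffffffffffffffffffffffbeffbdffffffff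
open scoped Cfsg.Agent.FastGrp

-- part: H63/SYRad
section
/-!
# Elements of prime order of the solvable radical, cyclic Sylow subgroups (helper63, for S3846)

`G` finite with cyclic Sylow `p`-subgroups, `x` of order `p` in the solvable radical:
* `core` : there is a normal `p'`-subgroup `N` with `N⟨x⟩` normal in `G`;
* `fact` : `G = N · N_G(⟨x⟩)`;
* `le_of_inv` : `N` contains the `⟨x⟩`-invariant `t`-subgroups without fixed points of `x`.
-/

set_option autoImplicit false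

namespace Cfsg.Agent.H63.SYRad

open Cfsg Subgroup Cfsg.Agent.H301.SY Cfsg.Agent.H459.Rad

variable {G : Type*} [Group G] [Finite G] {p : ℕ} [hp : Fact p.Prime]

/-- subgroups have cyclic Sylow subgroups -/
theorem cyclic_of_le (hP : ∀ P : Sylow p G, IsCyclic (P : Subgroup G)) {Q : Subgroup G} (hQ : IsPGroup p Q) :
    IsCyclic Q := by
  obtain ⟨P, hQP⟩ := hQ.exists_le_sylow
  have := hP P
  exact isCyclic_of_injective (Subgroup.inclusion hQP) (Subgroup.inclusion_injective hQP)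

theorem cyclic_sub (hP : ∀ P : Sylow p G, IsCyclic (P : Subgroup G)) (M : Subgroup G) (P : Sylow p M) :
    IsCyclic (P : Subgroup M) := by
  have h1 := cyclic_of_le hP (P.isPGroup'.map M.subtype)
  have e := (P : Subgroup M).equivMapOfInjective M.subtype M.subtype_injective
  exact isCyclic_of_surjective e.symm e.symm.surjective

theorem core (hP : ∀ P : Sylow p G, IsCyclic (P : Subgroup G)) {x : G} (hx : orderOf x = p)
    (hxr : x ∈ solvableRadical G) : ∃ N : Subgroup G, N.Normal ∧ ¬ p ∣ Nat.card N ∧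
      ∀ g : G, ∃ k : ℤ, (x ^ k)⁻¹ * (g * x * g⁻¹) ∈ N := by
  set S : Subgroup G := solvableRadical G with hS
  have hSn : S.Normal := rad_normal G
  have hSs : Group.IsSolvable S := rad_solvable G
  set N0 : Subgroup S := pPrimeCore p S with hN0
  have hN0n : N0.Normal := Lib.Cores.pPrimeCore_normal p
  have hmap : N0.map S.subtype = S ⊓ pPrimeCore p G := Lib.Cores.map_subtype_pPrimeCore p hSn
  have hs : Function.Surjective (QuotientGroup.mk' N0) := QuotientGroup.mk'_surjective _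
  have hsq : Group.IsSolvable (S ⧸ N0) := Group.isSolvable_of_surjective hs
  have hc : centralizer (pCore p (S ⧸ N0) : Set (S ⧸ N0)) ≤ pCore p (S ⧸ N0) :=
    OddOrderLocal.RankTwoSolvable.centralizer_pCore_le (Lib.Cores.pPrimeCore_quotient_pPrimeCore p)
  obtain ⟨P⟩ : Nonempty (Sylow p S) := inferInstance
  have hPc := cyclic_sub hP S P
  have hQc : IsCyclic ((P.mapSurjective hs : Sylow p (S ⧸ N0)) : Subgroup (S ⧸ N0)) := by
    have h1 : ((P.mapSurjective hs : Sylow p (S ⧸ N0)) : Subgroup (S ⧸ N0)) =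
      (P : Subgroup S).map (QuotientGroup.mk' N0) := rfl
    rw [h1]
    exact isCyclic_of_surjective ((QuotientGroup.mk' N0).subgroupMap (P : Subgroup S))
      ((QuotientGroup.mk' N0).subgroupMap_surjective _)
  -- elements of order `p`
  have key : ∀ y : S, orderOf y = p →
      (QuotientGroup.mk' N0 y) ∈ ((P.mapSurjective hs : Sylow p (S ⧸ N0)) : Subgroup (S ⧸ N0)) := by
    intro y hy
    have hyp : IsPGroup p (zpowers y) := IsPGroup.of_card (n := 1) (by rw [Nat.card_zpowers, hy, pow_one])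
    obtain ⟨P', hyP'⟩ := hyp.exists_le_sylow
    have hP'c := cyclic_sub hP S P'
    have h1 : y ∈ pPrimePCore p S := by
      refine Dichotomy.Constraint.mem_of_commute hc P' fun q hq => ?_
      have := (IsCyclic.isMulCommutative (α := (P' : Subgroup S))).is_comm.comm (⟨y, hyP' (mem_zpowers y)⟩ : (P' : Subgroup S)) ⟨q, hq.1⟩
      exact congrArg Subtype.val this
    exact Lib.Cores.pCore_le_sylow _ h1
  refine ⟨S ⊓ pPrimeCore p G, inferInstance, ?_, ?_⟩
  · intro h
    have h1 := h.trans (card_dvd_of_le (inf_le_right : S ⊓ pPrimeCore p G ≤ pPrimeCore p G))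
    have h2 := Lib.Cores.pPrimeCore_coprime (G := G) p
    exact hp.out.one_lt.ne' (Nat.dvd_one.1 (h2 ▸ Nat.dvd_gcd h1 dvd_rfl))
  · intro g
    have hy : orderOf (⟨x, hxr⟩ : S) = p := by rw [Subgroup.orderOf_mk, hx]
    have hgx : g * x * g⁻¹ ∈ S := hSn.conj_mem x hxr g
    have hy' : orderOf (⟨g * x * g⁻¹, hgx⟩ : S) = p := by
      rw [Subgroup.orderOf_mk, ← hx]
      exact orderOf_injective (MulAut.conj g).toMonoidHom (MulAut.conj g).injective x
    have h1 := key _ hy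
    have h2 := key _ hy'
    have h3 : orderOf (QuotientGroup.mk' N0 ⟨x, hxr⟩) = p := by
      apply orderOf_eq_prime
      · rw [← map_pow, ← hy, pow_orderOf_eq_one, map_one]
      · intro h
        have h4 : (⟨x, hxr⟩ : S) ∈ N0 := (QuotientGroup.eq_one_iff _).1 h
        have h5 : orderOf (⟨⟨x, hxr⟩, h4⟩ : N0) = p := by rw [Subgroup.orderOf_mk, hy]
        have h6 : p ∣ Nat.card N0 := by rw [← h5]; exact _root_.orderOf_dvd_natCard _
        have h7 := Lib.Cores.pPrimeCore_coprime (G := S) p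
        exact hp.out.one_lt.ne' (Nat.dvd_one.1 (h7 ▸ Nat.dvd_gcd h6 dvd_rfl))
    have h4 : (QuotientGroup.mk' N0 ⟨g * x * g⁻¹, hgx⟩) ^ p = 1 := by
      rw [← map_pow, ← hy', pow_orderOf_eq_one, map_one]
    have h5 := cyc_mem (C := ((P.mapSurjective hs : Sylow p (S ⧸ N0)) : Subgroup (S ⧸ N0)))
      (a := ⟨_, h2⟩) (b := ⟨_, h1⟩) (n := p) (Subtype.ext h4) (by rw [Subgroup.orderOf_mk]; exact h3)
    obtain ⟨k, hk⟩ := mem_zpowers_iff.1 h5
    refine ⟨k, ?_⟩
    have h6 : (QuotientGroup.mk' N0 ⟨x, hxr⟩) ^ k = QuotientGroup.mk' N0 ⟨g * x * g⁻¹, hgx⟩ := by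
      have := congrArg Subtype.val hk
      rw [SubgroupClass.coe_zpow] at this
      exact this
    rw [← map_zpow] at h6
    have h7 : (⟨x, hxr⟩ ^ k : S)⁻¹ * ⟨g * x * g⁻¹, hgx⟩ ∈ N0 := QuotientGroup.eq.1 h6
    rw [← hmap]
    exact ⟨_, h7, rfl⟩


/-- the factorization `G = N · N_G(⟨x⟩)` -/
theorem fact {x : G} (hx : orderOf x = p) {N : Subgroup G} (hN : N.Normal) (hNp : ¬ p ∣ Nat.card N)
    (hN1 : ∀ g : G, ∃ k : ℤ, (x ^ k)⁻¹ * (g * x * g⁻¹) ∈ N) (g : G) :
    ∃ n ∈ N, ∃ h : G, h * x * h⁻¹ ∈ zpowers x ∧ g = n * h := by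
  -- `L = N⟨x⟩` is normal
  set L : Subgroup G := N ⊔ zpowers x with hL
  have hxL : zpowers x ≤ L := le_sup_right
  have hNL : N ≤ L := le_sup_left
  have hconj : ∀ g : G, g * x * g⁻¹ ∈ L := by
    intro g
    obtain ⟨k, hk⟩ := hN1 g
    have : g * x * g⁻¹ = x ^ k * ((x ^ k)⁻¹ * (g * x * g⁻¹)) := by group
    rw [this]
    exact L.mul_mem (hxL (zpow_mem_zpowers x k)) (hNL hk)
  have hLn : L.Normal := by
    constructor
    intro l hl g
    obtain ⟨n, hn, y, hy, rfl⟩ := mem_sup_of_normal_left.1 hl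
    obtain ⟨k, rfl⟩ := mem_zpowers_iff.1 hy
    have : g * (n * x ^ k) * g⁻¹ = (g * n * g⁻¹) * (g * x * g⁻¹) ^ k := by
      rw [conj_zpow]; group
    rw [this]
    exact L.mul_mem (hNL (hN.conj_mem n hn g)) (L.zpow_mem (hconj g) k)
  have hxp : IsPGroup p (zpowers x) := IsPGroup.of_card (n := 1) (by rw [Nat.card_zpowers, hx, pow_one])
  have hcardL : Nat.card L ∣ Nat.card N * p := by
    have := Lib.Cores.card_sup_dvd N (zpowers x) hN
    rwa [Nat.card_zpowers, hx] at this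
  have hXL : IsPGroup p ((zpowers x).subgroupOf L) := hxp.comap_subtype
  have hcardX : Nat.card ((zpowers x).subgroupOf L) = p := by
    rw [← hx, ← Nat.card_zpowers x]
    exact Nat.card_congr (subgroupOfEquivOfLe hxL).toEquiv
  have hidx : ¬ p ∣ ((zpowers x).subgroupOf L).index := by
    intro h
    have h1 : p * p ∣ Nat.card L := by
      rw [← Subgroup.card_mul_index ((zpowers x).subgroupOf L), hcardX]
      exact Nat.mul_dvd_mul_left p h
    have h2 := h1.trans hcardL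
    exact hNp (Nat.dvd_of_mul_dvd_mul_right hp.out.pos h2)
  have hfr := (hXL.toSylow hidx).normalizer_sup_eq_top (N := L)
  have hmap : ((hXL.toSylow hidx : Sylow p L) : Subgroup L).map L.subtype = zpowers x := by
    have h1 : ((hXL.toSylow hidx : Sylow p L) : Subgroup L) = (zpowers x).subgroupOf L := rfl
    rw [h1, subgroupOf_map_subtype, inf_eq_left]
    exact hxL
  rw [hmap] at hfr
  have hg : g ∈ normalizer (zpowers x : Set G) ⊔ L := by rw [hfr]; exact mem_top _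
  rw [sup_comm] at hg
  obtain ⟨l, hl, h, hh, rfl⟩ := mem_sup_of_normal_left.1 hg
  obtain ⟨n, hn, y, hy, rfl⟩ := mem_sup_of_normal_left.1 hl
  refine ⟨n, hn, y * h, ?_, by group⟩
  have hyh : y * h ∈ normalizer (zpowers x : Set G) := mul_mem (le_normalizer hy) hh
  exact (mem_normalizer_iff.1 hyh x).1 (mem_zpowers x)

/-- invariant `t`-subgroups without fixed points lie in `N` -/
theorem le_of_inv {t : ℕ} [ht : Fact t.Prime] (htp : t ≠ p) {x : G} (hx : orderOf x = p) {N : Subgroup G}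
    (hN : N.Normal) (hN1 : ∀ g : G, ∃ k : ℤ, (x ^ k)⁻¹ * (g * x * g⁻¹) ∈ N)
    (htx : ¬ t ∣ Nat.card (centralizer ({x} : Set G))) {Q : Subgroup G} (hQ : IsPGroup t Q)
    (hxQ : ∀ a ∈ Q, x * a * x⁻¹ ∈ Q) : Q ≤ N := by
  -- `a ↦ a⁻¹ x a x⁻¹` is a bijection of `Q`
  have hinj : Function.Injective (fun a : Q => (⟨(a : G)⁻¹ * (x * a * x⁻¹),
      Q.mul_mem (Q.inv_mem a.2) (hxQ a a.2)⟩ : Q)) := by
    intro a b hab
    have h1 : (a : G)⁻¹ * (x * a * x⁻¹) = (b : G)⁻¹ * (x * b * x⁻¹) := congrArg Subtype.val hab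
    have h2 : ((b : G) * (a : G)⁻¹) * x = x * ((b : G) * (a : G)⁻¹) := by
      have h3 : (b : G) * ((a : G)⁻¹ * (x * a * x⁻¹)) * (x * (a : G)⁻¹) =
        (b : G) * ((b : G)⁻¹ * (x * b * x⁻¹)) * (x * (a : G)⁻¹) := by rw [h1]
      have h4 : (b : G) * ((a : G)⁻¹ * (x * a * x⁻¹)) * (x * (a : G)⁻¹) = ((b : G) * (a : G)⁻¹) * x := by group
      have h5 : (b : G) * ((b : G)⁻¹ * (x * b * x⁻¹)) * (x * (a : G)⁻¹) = x * ((b : G) * (a : G)⁻¹) := by group
      rw [← h4, h3, h5]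
    have h3 : (b : G) * (a : G)⁻¹ ∈ centralizer ({x} : Set G) := by
      rw [mem_centralizer_iff]
      intro y hy
      rw [Set.mem_singleton_iff.1 hy]
      exact h2.symm
    have h4 : (b : G) * (a : G)⁻¹ ∈ Q := Q.mul_mem b.2 (Q.inv_mem a.2)
    have h5 : (b : G) * (a : G)⁻¹ = 1 := by
      by_contra hne
      obtain ⟨n, hn⟩ := (IsPGroup.iff_orderOf.1 hQ) ⟨_, h4⟩
      rw [Subgroup.orderOf_mk] at hn
      have hn0 : n ≠ 0 := by
        rintro rfl
        rw [pow_zero, orderOf_eq_one_iff] at hn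
        exact hne hn
      apply htx
      have h6 : orderOf (⟨_, h3⟩ : centralizer ({x} : Set G)) = t ^ n := by rw [Subgroup.orderOf_mk, hn]
      exact (dvd_pow_self t hn0).trans (h6 ▸ _root_.orderOf_dvd_natCard _)
    exact Subtype.ext (mul_inv_eq_one.1 h5).symm
  have hsurj := Finite.surjective_of_injective hinj
  have hxN : (QuotientGroup.mk' N x) ^ p = 1 := by rw [← map_pow, ← hx, pow_orderOf_eq_one, map_one]
  intro q hq
  obtain ⟨a, ha⟩ := hsurj ⟨q, hq⟩
  have ha' : (a : G)⁻¹ * (x * a * x⁻¹) = q := congrArg Subtype.val ha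
  obtain ⟨k, hk⟩ := hN1 (a : G)⁻¹
  rw [inv_inv] at hk
  have h1 : (QuotientGroup.mk' N q) = (QuotientGroup.mk' N x) ^ k * (QuotientGroup.mk' N x)⁻¹ := by
    have h2 : (QuotientGroup.mk' N) (x ^ k) = QuotientGroup.mk' N ((a : G)⁻¹ * x * a) := QuotientGroup.eq.2 hk
    rw [← map_zpow, h2, ← map_inv, ← map_mul, ← ha']
    congr 1
    group
  have h2 : (QuotientGroup.mk' N q) ^ p = 1 := by
    have hcomm : Commute ((QuotientGroup.mk' N x) ^ k) (QuotientGroup.mk' N x)⁻¹ :=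
      ((Commute.refl (QuotientGroup.mk' N x)).zpow_left k).inv_right
    rw [h1, hcomm.mul_pow, inv_pow, hxN, inv_one, mul_one, ← zpow_natCast, ← zpow_mul, mul_comm k, zpow_mul,
      zpow_natCast, hxN, one_zpow]
  obtain ⟨n, hn⟩ := (IsPGroup.iff_orderOf.1 hQ) ⟨q, hq⟩
  rw [Subgroup.orderOf_mk] at hn
  have h3 : (QuotientGroup.mk' N q) ^ t ^ n = 1 := by rw [← map_pow, ← hn, pow_orderOf_eq_one, map_one]
  have h4 : orderOf (QuotientGroup.mk' N q) = 1 := by
    have h5 := orderOf_dvd_of_pow_eq_one h2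
    have h6 := orderOf_dvd_of_pow_eq_one h3
    have h7 : Nat.Coprime p (t ^ n) :=
      Nat.Coprime.pow_right n ((Nat.coprime_primes hp.out ht.out).2 htp.symm)
    exact Nat.dvd_one.1 (h7 ▸ Nat.dvd_gcd h5 h6)
  rw [orderOf_eq_one_iff] at h4
  exact (QuotientGroup.eq_one_iff q).1 h4

end Cfsg.Agent.H63.SYRad
end

-- part: H63/SYTools
section
/-!
# Tools for Theorem O (helper63, for S3846)
-/

set_option autoImplicit false
set_option linter.unusedSectionVars false

namespace Cfsg.Agent.H63.SYTools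

open Cfsg Subgroup Cfsg.Agent.H301.SY Cfsg.Agent.H459.Rad Cfsg.Agent.H63.SYRad

variable {K : Type*} [Group K] [Finite K]

theorem mem_norm {A : Subgroup K} {g : K} (h : ∀ a ∈ A, g * a * g⁻¹ ∈ A) : g ∈ normalizer (A : Set K) := by
  have h1 : A.map (MulAut.conj g).toMonoidHom = A := by
    apply Subgroup.eq_of_le_of_card_ge
    · rintro _ ⟨x, hx, rfl⟩
      exact h x hx
    · rw [Subgroup.card_map_of_injective (MulAut.conj g).injective]
  rw [mem_normalizer_iff]
  intro x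
  refine ⟨fun hx => h x hx, fun hx => ?_⟩
  have h2 : g * x * g⁻¹ ∈ A.map (MulAut.conj g).toMonoidHom := by rw [h1]; exact hx
  obtain ⟨y, hy, hyx⟩ := h2
  have h3 : y = x := (MulAut.conj g).injective hyx
  rwa [← h3]

theorem conj_of_norm {A : Subgroup K} {g : K} (h : g ∈ normalizer (A : Set K)) {a : K} (ha : a ∈ A) :
    g * a * g⁻¹ ∈ A := (mem_normalizer_iff.1 h a).1 ha

/-- comparison of prime powers -/
theorem pow_eq_of {t a b u v : ℕ} (ht : t.Prime) (hu : ¬ t ∣ u) (hv : ¬ t ∣ v) (h : t ^ a * u = t ^ b * v) :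
    t ^ a = t ^ b := by
  apply Nat.dvd_antisymm
  · have h1 : t ^ a ∣ t ^ b * v := h ▸ dvd_mul_right _ _
    exact ((ht.coprime_iff_not_dvd.2 hv).pow_left a).dvd_of_dvd_mul_right h1
  · have h1 : t ^ b ∣ t ^ a * u := h ▸ dvd_mul_right _ _
    exact ((ht.coprime_iff_not_dvd.2 hu).pow_left b).dvd_of_dvd_mul_right h1

/-- the subgroup generated by commuting elements of exponent `t` -/
theorem elem_closure {t : ℕ} {S : Set K} (hcomm : ∀ x ∈ S, ∀ y ∈ S, x * y = y * x) (hexp : ∀ x ∈ S, x ^ t = 1) :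
    IsElementaryAbelian t (_root_.Subgroup.closure S) := by
  have hc : IsMulCommutative (closure S) := Subgroup.isMulCommutative_closure hcomm
  refine ⟨hc, fun x hx => ?_⟩
  induction hx using closure_induction with
  | mem x hx => exact hexp x hx
  | one => exact one_pow _
  | mul x y hx hy h1 h2 =>
    have h3 : Commute x y := congrArg Subtype.val (hc.is_comm.comm (⟨x, hx⟩ : closure S) ⟨y, hy⟩)
    rw [h3.mul_pow, h1, h2, one_mul]
  | inv x hx h1 => rw [inv_pow, h1, inv_one]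

theorem elem_comm {t : ℕ} {A : Subgroup K} (hA : IsElementaryAbelian t A) {a b : K} (ha : a ∈ A) (hb : b ∈ A) :
    a * b = b * a := congrArg Subtype.val (hA.1.is_comm.comm (⟨a, ha⟩ : A) ⟨b, hb⟩)

section Fix

variable {p : ℕ} [hp : Fact p.Prime]

/-- an element of order `p` without fixed points on `Q` -/
theorem card_sub_one {x : K} (hx : x ^ p = 1) {Q : Subgroup K} (hxQ : ∀ a ∈ Q, x * a * x⁻¹ ∈ Q)
    (hfix : ∀ a ∈ Q, x * a = a * x → a = 1) : p ∣ Nat.card Q - 1 := by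
  classical
  let _ : Fintype Q := Fintype.ofFinite Q
  let f : Function.End Q := fun a => ⟨x * a * x⁻¹, hxQ a a.2⟩
  have hf : ∀ n : ℕ, ∀ a : Q, (((f ^ n) a : Q) : K) = x ^ n * a * (x ^ n)⁻¹ := by
    intro n
    induction n with
    | zero =>
      intro a
      show (a : K) = _
      simp
    | succ n ih =>
      intro a
      have h1 : (f ^ (n + 1)) a = f ((f ^ n) a) := by rw [pow_succ']; rfl
      rw [h1]
      show x * ((f ^ n) a : Q) * x⁻¹ = _
      rw [ih, pow_succ']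
      group
  have hfp : f ^ p ^ 1 = 1 := by
    funext a
    apply Subtype.ext
    rw [pow_one, hf, hx]
    show _ = (a : K)
    simp
  have h1 := Equiv.Perm.card_fixedPoints_modEq hfp
  have h2 : Fintype.card f.fixedPoints = 1 := by
    rw [Fintype.card_eq_one_iff]
    refine ⟨⟨1, Subtype.ext (by simp [f])⟩, ?_⟩
    rintro ⟨a, ha⟩
    apply Subtype.ext
    have h3 : x * (a : K) * x⁻¹ = a := congrArg Subtype.val ha
    exact Subtype.ext (hfix a a.2 (mul_inv_eq_iff_eq_mul.1 h3))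
  rw [h2] at h1
  rw [Nat.card_eq_fintype_card]
  exact (Nat.modEq_iff_dvd' Fintype.card_pos).1 h1.symm

/-- powers of an element of prime order -/
theorem mem_zpowers_of {x y : K} (hx : orderOf x = p) (hy : y ∈ zpowers x) (hy1 : y ≠ 1) : x ∈ zpowers y := by
  have h1 : zpowers y ≤ zpowers x := by rwa [zpowers_le]
  have h2 : Nat.card (zpowers y) ∣ p := by
    have := card_dvd_of_le h1
    rwa [Nat.card_zpowers x, hx] at this
  rcases (Nat.dvd_prime hp.out).1 h2 with h | h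
  · rw [Nat.card_zpowers, orderOf_eq_one_iff] at h
    exact absurd h hy1
  · have h3 := Subgroup.eq_of_le_of_card_ge h1 (by rw [h, Nat.card_zpowers, hx])
    rw [h3]
    exact mem_zpowers x

/-- **the fixed points of an element which does not centralise `x`** -/
theorem sq_le {x : K} (hx : orderOf x = p) {V : Subgroup K} (hxV : ∀ a ∈ V, x * a * x⁻¹ ∈ V)
    (hfix : ∀ a ∈ V, x * a = a * x → a = 1) {y : K} (hy : y ∈ normalizer (zpowers x : Set K))
    (hyx : y * x ≠ x * y) : Nat.card (V ⊓ centralizer ({y} : Set K) : Subgroup K) ^ 2 ≤ Nat.card V := by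
  set C : Subgroup K := V ⊓ centralizer ({y} : Set K) with hC
  set C' : Subgroup K := C.map (MulAut.conj x).toMonoidHom with hC'
  have hcard : Nat.card C' = Nat.card C := Subgroup.card_map_of_injective (MulAut.conj x).injective
  have hinf : C ⊓ C' = ⊥ := by
    rw [eq_bot_iff]
    rintro v ⟨hv, w, hw, hwv⟩
    have hwv' : x * w * x⁻¹ = v := hwv
    have h1 : y * v = v * y := (mem_centralizer_iff.1 hv.2 y rfl)
    have h2 : y * w = w * y := (mem_centralizer_iff.1 hw.2 y rfl)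
    have h3 : Commute v (x * y * x⁻¹) := by
      show v * (x * y * x⁻¹) = (x * y * x⁻¹) * v
      rw [← hwv']
      have e1 : x * w * x⁻¹ * (x * y * x⁻¹) = x * (w * y) * x⁻¹ := by group
      have e2 : x * y * x⁻¹ * (x * w * x⁻¹) = x * (y * w) * x⁻¹ := by group
      rw [e1, e2, h2]
    have h4 : Commute v (y⁻¹ * (x * y * x⁻¹)) := by
      have h5 : Commute v y := h1.symm
      exact h5.inv_right.mul_right h3
    have h5 : y⁻¹ * (x * y * x⁻¹) ∈ zpowers x := by
      have h6 : y⁻¹ * x * y⁻¹⁻¹ ∈ zpowers x :=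
        conj_of_norm ((normalizer (zpowers x : Set K)).inv_mem hy) (mem_zpowers x)
      rw [inv_inv] at h6
      have h7 := (zpowers x).mul_mem h6 ((zpowers x).inv_mem (mem_zpowers x))
      have e : y⁻¹ * (x * y * x⁻¹) = y⁻¹ * x * y * x⁻¹ := by group
      rw [e]
      exact h7
    have h6 : y⁻¹ * (x * y * x⁻¹) ≠ 1 := by
      intro h
      apply hyx
      have e : y = x * y * x⁻¹ := by rw [inv_mul_eq_one] at h; exact h
      calc y * x = (x * y * x⁻¹) * x := by rw [← e]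
        _ = x * y := by group
    obtain ⟨k, hk⟩ := mem_zpowers_iff.1 (mem_zpowers_of hx h5 h6)
    have h7 : Commute v x := by
      rw [← hk]
      exact h4.zpow_right k
    rw [mem_bot]
    exact hfix v hv.1 h7.symm
  have h1 := Lib.ProductSet.card_mul_card_inf C C'
  rw [hinf, Subgroup.card_bot, mul_one, hcard, ← pow_two] at h1
  rw [← h1]
  apply Nat.card_mono (Set.toFinite _)
  rintro _ ⟨a, ha, b, ⟨c, hc, rfl⟩, rfl⟩
  exact V.mul_mem ha.1 (hxV c hc.1)

end Fix

/-- `|V| ≤ |C_V(y)| ^ (t ^ j)` for `y ^ (t ^ j) = 1` -/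
theorem card_le_fixed_pow {t : ℕ} [ht : Fact t.Prime] {V : Subgroup K} (hV : IsElementaryAbelian t V) {y : K}
    (hy : y ∈ normalizer (V : Set K)) {j : ℕ} (hyj : y ^ t ^ j = 1) :
    Nat.card V ≤ Nat.card (V ⊓ centralizer ({y} : Set K) : Subgroup K) ^ (t ^ j) := by
  let _ : CommGroup V := { (inferInstance : Group V) with mul_comm := hV.1.is_comm.comm }
  let A := Additive V
  let _ : Finite A := inferInstanceAs (Finite V)
  have hexp : ∀ v : A, t • v = 0 := fun v => by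
    have : (Additive.toMul v : V) ^ t = 1 := Subtype.ext (hV.2 _ (Additive.toMul v).2)
    exact congrArg Additive.ofMul this
  let α : AddMonoid.End A := AddMonoidHom.mk' (fun v => Additive.ofMul (⟨y * (Additive.toMul v : V) * y⁻¹,
    conj_of_norm hy (Additive.toMul v).2⟩ : V)) (by
      intro a b
      apply congrArg Additive.ofMul
      apply Subtype.ext
      show y * ((Additive.toMul a : V) * (Additive.toMul b : V) : K) * y⁻¹ =
        (y * (Additive.toMul a : V) * y⁻¹) * (y * (Additive.toMul b : V) * y⁻¹)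
      group)
  have hα : ∀ n : ℕ, ∀ v : A, ((Additive.toMul ((α ^ n) v) : V) : K) = y ^ n * (Additive.toMul v : V) * (y ^ n)⁻¹ := by
    intro n
    induction n with
    | zero => intro v; simp only [_root_.pow_zero, _root_.AddMonoid.End.coe_one, _root_.id_eq, _root_.one_mul, _root_.inv_one, _root_.mul_one]
    | succ n ih =>
      intro v
      have h1 : (α ^ (n + 1)) v = α ((α ^ n) v) := by rw [pow_succ']; rfl
      rw [h1]
      show y * (Additive.toMul ((α ^ n) v) : V) * y⁻¹ = _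
      rw [ih, pow_succ']
      group
  have hα1 : α ^ t ^ j = 1 := by
    apply AddMonoidHom.ext
    intro v
    show (α ^ t ^ j) v = v
    have h1 : ((Additive.toMul ((α ^ t ^ j) v) : V) : K) = (Additive.toMul v : V) := by
      rw [hα, hyj]
      simp
    exact congrArg Additive.ofMul (Subtype.ext h1)
  set δ : AddMonoid.End A := α - 1 with hδ
  have h0 : (t : AddMonoid.End A) = 0 := by
    ext v
    have : ((t : AddMonoid.End A)) v = t • v := by
      rw [AddMonoid.End.natCast_apply]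
    rw [this, hexp]; rfl
  have h1 : δ ^ t ^ j = 0 := by
    obtain ⟨r, hr⟩ := (Commute.one_right δ).exists_add_pow_prime_pow_eq ht.out j
    simp only [h0, zero_mul, add_zero, one_pow] at hr
    rw [hδ, sub_add_cancel, hα1] at hr
    exact right_eq_add.mp hr
  have h2 := H449.card_ker_pow_le δ (t ^ j)
  have h3 : Nat.card {x : A // (δ ^ t ^ j) x = 0} = Nat.card V := by
    apply Nat.card_congr
    rw [h1]
    exact (Equiv.subtypeUnivEquiv (fun x => rfl)).trans Additive.toMul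
  have h4 : Nat.card {x : A // δ x = 0} = Nat.card (V ⊓ centralizer ({y} : Set K) : Subgroup K) := by
    apply Nat.card_congr
    refine ⟨fun v => ⟨((Additive.toMul v.1 : V) : K), (Additive.toMul v.1).2, ?_⟩,
      fun v => ⟨Additive.ofMul (⟨v.1, v.2.1⟩ : V), ?_⟩, fun v => rfl, fun v => rfl⟩
    · have h5 : α v.1 = v.1 := sub_eq_zero.1 v.2
      have h6 : y * (Additive.toMul v.1 : V) * y⁻¹ = (Additive.toMul v.1 : V) :=
        congrArg (fun z : A => ((Additive.toMul z : V) : K)) h5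
      have h7 : ((Additive.toMul v.1 : V) : K) ∈ centralizer ({y} : Set K) := by
        rw [mem_centralizer_iff]
        intro z hz
        rw [Set.mem_singleton_iff.1 hz]
        exact mul_inv_eq_iff_eq_mul.1 h6
      exact h7
    · have h5 : y * v.1 = v.1 * y := mem_centralizer_iff.1 v.2.2 y rfl
      have h6 : α (Additive.ofMul (⟨v.1, v.2.1⟩ : V)) = Additive.ofMul (⟨v.1, v.2.1⟩ : V) := by
        apply congrArg Additive.ofMul
        apply Subtype.ext
        show y * v.1 * y⁻¹ = v.1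
        rw [h5]; group
      have h8 : (α - 1) (Additive.ofMul (⟨v.1, v.2.1⟩ : V)) = α (Additive.ofMul (⟨v.1, v.2.1⟩ : V)) -
        Additive.ofMul (⟨v.1, v.2.1⟩ : V) := rfl
      show (α - 1) _ = 0
      rw [h8, h6, sub_self]
  rwa [h3, h4] at h2

/-- `N_G(⟨x⟩) / C_G(x)` embeds in a cyclic group of order `p - 1` -/
theorem cyclic_of_faithful {p : ℕ} [hp : Fact p.Prime] {x : K} (hx : orderOf x = p) {Y : Subgroup K}
    (hY : Y ≤ normalizer (zpowers x : Set K)) (hYc : ∀ y ∈ Y, y * x = x * y → y = 1) :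
    IsCyclic Y ∧ Nat.card Y ∣ p - 1 := by
  have hcard : Nat.card (zpowers x) = p := by rw [Nat.card_zpowers, hx]
  have hcyc : IsCyclic (zpowers x) := inferInstance
  have e := IsCyclic.mulAutMulEquiv (zpowers x)
  rw [hcard] at e
  let φ : Y →* MulAut (zpowers x) := (zpowers x).normalizerMonoidHom.comp (Subgroup.inclusion hY)
  have hφ : Function.Injective φ := by
    rw [injective_iff_map_eq_one]
    intro y hy
    apply Subtype.ext
    apply hYc y y.2
    have h1 : ((φ y ⟨x, mem_zpowers x⟩ : zpowers x) : K) = x := by rw [hy]; rfl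
    have h2 : (y : K) * x * (y : K)⁻¹ = x := h1
    exact mul_inv_eq_iff_eq_mul.1 h2
  let ψ : Y →* (ZMod p)ˣ := e.toMonoidHom.comp φ
  have hψ : Function.Injective ψ := e.injective.comp hφ
  refine ⟨isCyclic_of_injective ψ hψ, ?_⟩
  have h3 := Subgroup.card_dvd_of_injective ψ hψ
  rwa [Nat.card_eq_fintype_card (α := (ZMod p)ˣ), ZMod.card_units] at h3

end Cfsg.Agent.H63.SYTools
end

-- part: H63/SYThmO
section
/-!
# Theorem O for S3846 (helper63)

A `t`-subgroup normalised by the radical element `x` of order `p` of the simple group `K` with cyclic Sylow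
`p`-subgroups is almost a Sylow `t`-subgroup of `K`, if `t` does not divide the order of `C_K(x)`.
-/

set_option autoImplicit false
set_option linter.unusedSectionVars false

namespace Cfsg.Agent.H63.SYThmO

open Cfsg Subgroup Cfsg.Agent.H301.SY Cfsg.Agent.H459.Rad Cfsg.Agent.H63.SYRad Cfsg.Agent.H63.SYTools
open scoped Pointwise
open Cfsg.Agent.SignalizersComponents.RelSylow (IsMaxP exists_isMaxP isMaxP_of_not_dvd exists_mem_normalizer)

variable {K : Type*} [Group K] [Finite K] {p t : ℕ} [hp : Fact p.Prime] [ht : Fact t.Prime]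

/-- a normal `p'`-subgroup `N` of `M ∋ x` with `M = N · N_M(⟨x⟩)`, containing the `x`-invariant `t`-subgroups -/
structure NM (p t : ℕ) (x : K) (M N : Subgroup K) : Prop where
  le : N ≤ M
  conj : ∀ m ∈ M, ∀ n ∈ N, m * n * m⁻¹ ∈ N
  cop : ¬ p ∣ Nat.card N
  fact : ∀ m ∈ M, ∃ n ∈ N, ∃ h ∈ M, h * x * h⁻¹ ∈ zpowers x ∧ m = n * h
  inv : ∀ Q : Subgroup K, Q ≤ M → IsPGroup t Q → (∀ a ∈ Q, x * a * x⁻¹ ∈ Q) → Q ≤ N

theorem exists_NM (hP : ∀ P : Sylow p K, IsCyclic (P : Subgroup K)) (htp : t ≠ p) {x : K} (hx : orderOf x = p)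
    (hR : RE x) (htx : ¬ t ∣ Nat.card (centralizer ({x} : Set K))) {M : Subgroup K} (hM : M ≠ ⊤) (hxM : x ∈ M) :
    ∃ N : Subgroup K, NM p t x M N := by
  have h1 := hR M hM hxM
  have h2 : (⟨x, hxM⟩ : M) ∈ solvableRadical M := mem_radIn_coe.1 h1
  have hx' : orderOf (⟨x, hxM⟩ : M) = p := by rw [Subgroup.orderOf_mk, hx]
  obtain ⟨N, hN, hNp, hN1⟩ := core (cyclic_sub hP M) hx' h2
  have htx' : ¬ t ∣ Nat.card (centralizer ({⟨x, hxM⟩} : Set M)) := by
    intro h
    apply htx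
    refine h.trans ?_
    rw [← Subgroup.card_map_of_injective (K := centralizer ({⟨x, hxM⟩} : Set M)) M.subtype_injective]
    apply card_dvd_of_le
    rintro _ ⟨a, ha, rfl⟩
    rw [mem_centralizer_iff]
    intro z hz
    rw [Set.mem_singleton_iff.1 hz]
    exact congrArg Subtype.val (mem_centralizer_iff.1 ha ⟨x, hxM⟩ rfl)
  refine ⟨N.map M.subtype, map_subtype_le _, ?_, ?_, ?_, ?_⟩
  · rintro m hm _ ⟨n, hn, rfl⟩
    exact ⟨(⟨m, hm⟩ * n * ⟨m, hm⟩⁻¹ :), hN.conj_mem n hn _, rfl⟩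
  · rw [Subgroup.card_map_of_injective M.subtype_injective]
    exact hNp
  · intro m hm
    obtain ⟨n, hn, h, hh, hmn⟩ := SYRad.fact hx' hN hNp hN1 ⟨m, hm⟩
    refine ⟨n, ⟨n, hn, rfl⟩, h, h.2, ?_, congrArg Subtype.val hmn⟩
    obtain ⟨k, hk⟩ := mem_zpowers_iff.1 hh
    refine mem_zpowers_iff.2 ⟨k, ?_⟩
    have := congrArg Subtype.val hk
    rw [SubgroupClass.coe_zpow] at this
    exact this
  · intro Q hQM hQ hxQ
    have h3 : Q.subgroupOf M ≤ N :=
      le_of_inv htp hx' hN hN1 htx' (Q := Q.subgroupOf M) hQ.comap_subtype (fun a ha => hxQ a ha)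
    intro a ha
    exact ⟨⟨a, hQM ha⟩, h3 ha, rfl⟩

/-- `x`-invariant `t`-subgroups, maximal -/
structure MaxInv (t : ℕ) (x : K) (R : Subgroup K) : Prop where
  pgrp : IsPGroup t R
  inv : ∀ a ∈ R, x * a * x⁻¹ ∈ R
  max : ∀ Q : Subgroup K, IsPGroup t Q → (∀ a ∈ Q, x * a * x⁻¹ ∈ Q) → R ≤ Q → Q ≤ R

theorem exists_maxInv {x : K} {R : Subgroup K} (hRt : IsPGroup t R) (hxR : ∀ a ∈ R, x * a * x⁻¹ ∈ R) :
    ∃ Q : Subgroup K, MaxInv t x Q ∧ R ≤ Q := by
  obtain ⟨Q, ⟨hQ1, hQ2, hQ3⟩, hmax⟩ := (Set.toFinite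
    {Q : Subgroup K | IsPGroup t Q ∧ (∀ a ∈ Q, x * a * x⁻¹ ∈ Q) ∧ R ≤ Q}).exists_maximal ⟨R, hRt, hxR, le_rfl⟩
  exact ⟨Q, ⟨hQ1, hQ2, fun Q' h1 h2 h3 => hmax ⟨h1, h2, hQ3.trans h3⟩ h3⟩, hQ3⟩

theorem zp_norm {x : K} {R : Subgroup K} (hxR : ∀ a ∈ R, x * a * x⁻¹ ∈ R) :
    ∀ b ∈ zpowers x, ∀ u ∈ R, b * u * b⁻¹ ∈ R := by
  intro b hb u hu
  have h1 : zpowers x ≤ normalizer (R : Set K) := by rw [zpowers_le]; exact mem_norm hxR
  exact conj_of_norm (h1 hb) hu

/-- the maximal invariant `t`-subgroup is a Sylow subgroup of `N` -/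
theorem sylow_R (_htp : t ≠ p) {x : K} (hx : orderOf x = p) {M N R : Subgroup K} (hN : NM p t x M N) (hxM : x ∈ M)
    (hR : MaxInv t x R) (hRM : R ≤ M) : R ≤ N ∧ ¬ t ∣ R.relIndex N := by
  have hRN := hN.inv R hRM hR.pgrp hR.inv
  refine ⟨hRN, ?_⟩
  have hA : IsPGroup p (zpowers x) := IsPGroup.of_card (n := 1) (by rw [Nat.card_zpowers, hx, pow_one])
  have hzM : zpowers x ≤ M := by rwa [zpowers_le]
  obtain ⟨S, ⟨T, hT⟩, hS, hRS⟩ := Lib.PGroupCoprimeAction.exists_invariant_sylow_ge hA hN.cop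
    (fun b hb u hu => hN.conj b (hzM hb) u hu) hRN hR.pgrp (zp_norm hR.inv)
  have hSt : IsPGroup t S := by rw [← hT]; exact T.isPGroup'.map _
  have hSR : S = R := le_antisymm (hR.max S hSt (fun a ha => hS x (mem_zpowers x) a ha) hRS) hRS
  have h1 : R.subgroupOf N = (T : Subgroup N) := by
    rw [← hSR, ← hT, subgroupOf]
    exact comap_map_eq_self_of_injective N.subtype_injective _
  rw [relIndex, h1]
  exact T.not_dvd_index

/-- `t`-elements which commute with `x` -/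
theorem eq_one_of_comm {x : K} (htx : ¬ t ∣ Nat.card (centralizer ({x} : Set K))) {Q : Subgroup K}
    (hQ : IsPGroup t Q) {a : K} (ha : a ∈ Q) (h : x * a = a * x) : a = 1 := by
  by_contra hne
  obtain ⟨n, hn⟩ := (IsPGroup.iff_orderOf.1 hQ) ⟨a, ha⟩
  rw [Subgroup.orderOf_mk] at hn
  have hn0 : n ≠ 0 := by
    rintro rfl
    rw [pow_zero, orderOf_eq_one_iff] at hn
    exact hne hn
  apply htx
  have h3 : a ∈ centralizer ({x} : Set K) := by
    rw [mem_centralizer_iff]
    intro y hy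
    rw [Set.mem_singleton_iff.1 hy]
    exact h
  have h6 : orderOf (⟨a, h3⟩ : centralizer ({x} : Set K)) = t ^ n := by rw [Subgroup.orderOf_mk, hn]
  exact (dvd_pow_self t hn0).trans (h6 ▸ _root_.orderOf_dvd_natCard _)

/-- the order of `M = N_K(R)` -/
theorem exists_Y (htp : t ≠ p) {x : K} (hx : orderOf x = p) (htx : ¬ t ∣ Nat.card (centralizer ({x} : Set K)))
    {M N R : Subgroup K} (hN : NM p t x M N) (hxM : x ∈ M) (hR : MaxInv t x R) (hRM : R ≤ M)
    (hMR : M ≤ normalizer (R : Set K)) :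
    ∃ Y T : Subgroup K, IsPGroup t Y ∧ IsPGroup t T ∧ T ≤ M ∧ ¬ t ∣ T.relIndex M ∧ R ≤ T ∧ Y ≤ T ∧
      Y ≤ normalizer (zpowers x : Set K) ∧ (∀ a ∈ T, ∃ r ∈ R, ∃ y ∈ Y, a = r * y) ∧
      Nat.card T = Nat.card R * Nat.card Y ∧ (∀ y ∈ Y, y ∈ R → y = 1) := by
  obtain ⟨hRN, hRi⟩ := sylow_R htp hx hN hxM hR hRM
  set H : Subgroup K := M ⊓ normalizer (zpowers x : Set K) with hH
  obtain ⟨Y, hY, -⟩ := exists_isMaxP (p := t) (C := H) (W := ⊥) IsPGroup.of_bot bot_le
  have hYt : IsPGroup t Y := hY.1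
  have hYH : Y ≤ H := hY.2.1
  have hYM : Y ≤ M := hYH.trans inf_le_left
  obtain ⟨T, hT, hYT⟩ := exists_isMaxP (p := t) (C := M) (W := Y) hYt hYM
  have hTt : IsPGroup t T := hT.1
  have hTM : T ≤ M := hT.2.1
  -- `R ≤ T`
  have hRT : R ≤ T := by
    obtain ⟨c, hc, hcR⟩ := hT.exists_conj_le hR.pgrp hRM
    have h1 : R.map (MulAut.conj c).toMonoidHom = R := by
      apply Subgroup.eq_of_le_of_card_ge
      · rintro _ ⟨r, hr, rfl⟩
        exact conj_of_norm (hMR hc) hr
      · rw [Subgroup.card_map_of_injective (MulAut.conj c).injective]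
    rwa [h1] at hcR
  -- `N ∩ H` is a `t'`-group
  have hNH : ¬ t ∣ Nat.card (N ⊓ H : Subgroup K) := by
    intro h
    apply htx
    refine h.trans (card_dvd_of_le ?_)
    rintro a ⟨ha, ha'⟩
    have h1 : a * x * a⁻¹ ∈ zpowers x := conj_of_norm ha'.2 (mem_zpowers x)
    have h2 : a * x * a⁻¹ * x⁻¹ ∈ zpowers x := (zpowers x).mul_mem h1 ((zpowers x).inv_mem (mem_zpowers x))
    have h3 : a * x * a⁻¹ * x⁻¹ ∈ N := by
      have h4 := N.mul_mem ha (hN.conj x hxM a⁻¹ (N.inv_mem ha))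
      have e : a * x * a⁻¹ * x⁻¹ = a * (x * a⁻¹ * x⁻¹) := by group
      rw [e]
      exact h4
    have h4 : a * x * a⁻¹ * x⁻¹ = 1 := by
      by_contra hne
      have h5 := mem_zpowers_of hx h2 hne
      have h6 : x ∈ N := (zpowers_le.2 h3) h5
      apply hN.cop
      have h7 : orderOf (⟨x, h6⟩ : N) = p := by rw [Subgroup.orderOf_mk, hx]
      rw [← h7]
      exact _root_.orderOf_dvd_natCard _
    rw [mem_centralizer_iff]
    intro y hy
    rw [Set.mem_singleton_iff.1 hy]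
    have h5 : a * x * a⁻¹ = x := mul_inv_eq_one.1 h4
    exact (mul_inv_eq_iff_eq_mul.1 h5).symm
  -- the orders
  have hset : ((N : Set K) * (H : Set K) : Set K) = (M : Set K) := by
    ext m
    constructor
    · rintro ⟨n, hn, h, hh, rfl⟩
      exact M.mul_mem (hN.le hn) hh.1
    · intro hm
      obtain ⟨n, hn, h, hh, hhx, rfl⟩ := hN.fact m hm
      refine ⟨n, hn, h, ⟨hh, ?_⟩, rfl⟩
      apply mem_norm
      intro b hb
      obtain ⟨k, rfl⟩ := mem_zpowers_iff.1 hb
      rw [← conj_zpow]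
      exact (zpowers x).zpow_mem hhx k
  have hcard := Lib.ProductSet.card_mul_card_inf N H
  rw [hset] at hcard
  have hcM : Nat.card T * T.relIndex M = Nat.card M := by
    rw [relIndex, ← Subgroup.card_mul_index (T.subgroupOf M)]
    congr 1
    exact (Nat.card_congr (subgroupOfEquivOfLe hTM).toEquiv).symm
  have hcN : Nat.card R * R.relIndex N = Nat.card N := by
    rw [relIndex, ← Subgroup.card_mul_index (R.subgroupOf N)]
    congr 1
    exact (Nat.card_congr (subgroupOfEquivOfLe hRN).toEquiv).symm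
  have hcH : Nat.card Y * Y.relIndex H = Nat.card H := by
    rw [relIndex, ← Subgroup.card_mul_index (Y.subgroupOf H)]
    congr 1
    exact (Nat.card_congr (subgroupOfEquivOfLe hYH).toEquiv).symm
  have hYi : ¬ t ∣ Y.relIndex H := hY.not_dvd_index
  have hTi : ¬ t ∣ T.relIndex M := hT.not_dvd_index
  obtain ⟨a, ha⟩ := IsPGroup.iff_card.1 hR.pgrp
  obtain ⟨j, hj⟩ := IsPGroup.iff_card.1 hYt
  obtain ⟨b, hb⟩ := IsPGroup.iff_card.1 hTt
  have hcT : Nat.card T = Nat.card R * Nat.card Y := by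
    rw [ha, hj, hb, ← pow_add]
    apply pow_eq_of ht.out (u := T.relIndex M * Nat.card (N ⊓ H : Subgroup K))
      (v := R.relIndex N * Y.relIndex H)
    · exact ht.out.prime.not_dvd_mul hTi hNH
    · exact ht.out.prime.not_dvd_mul hRi hYi
    · rw [← hb, ← mul_assoc, hcM, pow_add, ← ha, ← hj]
      have h1 : Nat.card (M : Set K) = Nat.card M := rfl
      rw [h1] at hcard
      rw [hcard, ← hcN, ← hcH]
      ring
  -- `R ∩ Y = 1`
  have hRY : ∀ y ∈ Y, y ∈ R → y = 1 := by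
    intro y hy hyR
    have h1 : y * x * y⁻¹ ∈ zpowers x := conj_of_norm (hYH hy).2 (mem_zpowers x)
    have h2 : y * x * y⁻¹ * x⁻¹ ∈ zpowers x := (zpowers x).mul_mem h1 ((zpowers x).inv_mem (mem_zpowers x))
    have h3 : y * x * y⁻¹ * x⁻¹ ∈ R := by
      have h4 := R.mul_mem hyR (hR.inv y⁻¹ (R.inv_mem hyR))
      have e : y * x * y⁻¹ * x⁻¹ = y * (x * y⁻¹ * x⁻¹) := by group
      rw [e]
      exact h4
    have h4 : y * x * y⁻¹ * x⁻¹ = 1 := by
      by_contra hne
      have h5 := mem_zpowers_of hx h2 hne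
      have h6 : x ∈ N := hRN ((zpowers_le.2 h3) h5)
      apply hN.cop
      have h7 : orderOf (⟨x, h6⟩ : N) = p := by rw [Subgroup.orderOf_mk, hx]
      rw [← h7]
      exact _root_.orderOf_dvd_natCard _
    have h5 : y * x * y⁻¹ = x := mul_inv_eq_one.1 h4
    exact eq_one_of_comm htx hYt hy (mul_inv_eq_iff_eq_mul.1 h5).symm
  refine ⟨Y, T, hYt, hTt, hTM, hTi, hRT, hYT, fun y hy => (hYH hy).2, ?_, hcT, hRY⟩
  -- `T = R Y`
  have h1 := Lib.ProductSet.card_mul_card_inf R Y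
  have h2 : R ⊓ Y = ⊥ := by
    rw [eq_bot_iff]
    rintro y ⟨hy1, hy2⟩
    exact hRY y hy2 hy1
  rw [h2, Subgroup.card_bot, mul_one, ← hcT] at h1
  have h3 : ((R : Set K) * (Y : Set K) : Set K) ⊆ (T : Set K) := by
    rintro _ ⟨r, hr, y, hy, rfl⟩
    exact T.mul_mem (hRT hr) (hYT hy)
  have h4 : ((R : Set K) * (Y : Set K) : Set K) = (T : Set K) := by
    apply Set.eq_of_subset_of_ncard_le h3
    · have h5 : (T : Set K).ncard = Nat.card T := rfl
      have h6 : ((R : Set K) * (Y : Set K) : Set K).ncard = Nat.card ((R : Set K) * (Y : Set K) : Set K) := rfl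
      rw [h5, h6, h1]
  intro a ha
  have h5 : a ∈ ((R : Set K) * (Y : Set K) : Set K) := by rw [h4]; exact ha
  obtain ⟨r, hr, y, hy, hry⟩ := h5
  exact ⟨r, hr, y, hy, hry.symm⟩

/-! ### `Ω₁(Z(R))` -/

/-- `Ω₁(Z(R))` -/
def omZ (t : ℕ) (R : Subgroup K) : Subgroup K where
  carrier := {v | v ∈ R ∧ v ^ t = 1 ∧ ∀ r ∈ R, v * r = r * v}
  mul_mem' := by
    rintro v w ⟨hv1, hv2, hv3⟩ ⟨hw1, hw2, hw3⟩
    refine ⟨R.mul_mem hv1 hw1, ?_, fun r hr => ?_⟩
    · have h : Commute v w := hv3 w hw1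
      rw [h.mul_pow, hv2, hw2, one_mul]
    · rw [mul_assoc, hw3 r hr, ← mul_assoc, hv3 r hr, mul_assoc]
  one_mem' := ⟨R.one_mem, one_pow _, fun r _ => by rw [one_mul, mul_one]⟩
  inv_mem' := by
    rintro v ⟨hv1, hv2, hv3⟩
    refine ⟨R.inv_mem hv1, by rw [inv_pow, hv2, inv_one], fun r hr => ?_⟩
    have h : Commute v r := hv3 r hr
    exact h.inv_left

theorem mem_omZ {R : Subgroup K} {v : K} : v ∈ omZ t R ↔ v ∈ R ∧ v ^ t = 1 ∧ ∀ r ∈ R, v * r = r * v := Iff.rfl

theorem omZ_le (R : Subgroup K) : omZ t R ≤ R := fun _ hv => hv.1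

theorem omZ_elem (R : Subgroup K) : IsElementaryAbelian t (omZ t R) :=
  ⟨⟨⟨fun a b => Subtype.ext (a.2.2.2 b b.2.1)⟩⟩, fun _ ha => ha.2.1⟩

theorem omZ_conj {R : Subgroup K} {g : K} (hg : g ∈ normalizer (R : Set K)) {v : K} (hv : v ∈ omZ t R) :
    g * v * g⁻¹ ∈ omZ t R := by
  obtain ⟨h1, h2, h3⟩ := hv
  refine ⟨conj_of_norm hg h1, by rw [conj_pow, h2]; group, fun r hr => ?_⟩
  have h4 : g⁻¹ * r * g⁻¹⁻¹ ∈ R := conj_of_norm ((normalizer (R : Set K)).inv_mem hg) hr
  rw [inv_inv] at h4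
  have h5 := h3 _ h4
  calc g * v * g⁻¹ * r = g * (v * (g⁻¹ * r * g)) * g⁻¹ := by group
    _ = g * ((g⁻¹ * r * g) * v) * g⁻¹ := by rw [h5]
    _ = r * (g * v * g⁻¹) := by group

theorem omZ_ne {R : Subgroup K} (hR : IsPGroup t R) (h0 : R ≠ ⊥) : omZ t R ≠ ⊥ := by
  have hn : Nontrivial R := (Subgroup.nontrivial_iff_ne_bot R).2 h0
  have hc := hR.center_nontrivial
  have h1 : IsPGroup t (center R) := hR.to_subgroup _
  obtain ⟨k, hk⟩ := IsPGroup.iff_card.1 h1
  have h2 : 1 < Nat.card (center R) := Finite.one_lt_card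
  have h3 : t ∣ Nat.card (center R) := by
    rw [hk] at h2 ⊢
    refine dvd_pow_self t ?_
    rintro rfl
    simp at h2
  obtain ⟨z, hz⟩ := exists_prime_orderOf_dvd_card' t h3
  intro hbot
  have h4 : ((z : R) : K) ∈ omZ t R := by
    refine ⟨(z : R).2, ?_, fun r hr => ?_⟩
    · have h5 : z ^ t = 1 := by rw [← hz]; exact pow_orderOf_eq_one z
      have h6 : (((z ^ t : center R) : R) : K) = 1 := by rw [h5]; rfl
      simpa only [_root_.SubmonoidClass.coe_pow] using h6
    · have h5 := mem_center_iff.1 z.2 ⟨r, hr⟩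
      exact (congrArg Subtype.val h5).symm
  rw [hbot, mem_bot] at h4
  have h5 : z = 1 := Subtype.ext (Subtype.ext h4)
  rw [h5, orderOf_one] at hz
  exact ht.out.one_lt.ne hz

/-! ### The Thompson subgroup -/

/-- an elementary abelian subgroup of `T` of maximal order -/
structure MaxEl (t : ℕ) (T A : Subgroup K) : Prop where
  le : A ≤ T
  el : IsElementaryAbelian t A
  max : ∀ B : Subgroup K, B ≤ T → IsElementaryAbelian t B → Nat.card B ≤ Nat.card A

theorem MaxEl.conj {T A : Subgroup K} (h : MaxEl t T A) {g : K} (hg : A.map (MulAut.conj g).toMonoidHom ≤ T) :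
    MaxEl t T (A.map (MulAut.conj g).toMonoidHom) := by
  refine ⟨hg, ⟨⟨⟨?_⟩⟩, ?_⟩, fun B hB hBe => ?_⟩
  · rintro ⟨_, a, ha, rfl⟩ ⟨_, b, hb, rfl⟩
    have h2 : a * b = b * a := elem_comm h.el ha hb
    refine Subtype.ext ?_
    change (MulAut.conj g) a * (MulAut.conj g) b = (MulAut.conj g) b * (MulAut.conj g) a
    rw [← map_mul, h2, map_mul]
  · rintro _ ⟨a, ha, rfl⟩
    have h1 := h.el.2 a ha
    change ((MulAut.conj g) a) ^ t = 1
    rw [← map_pow, h1, map_one]
  · rw [Subgroup.card_map_of_injective (MulAut.conj g).injective]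
    exact h.max B hB hBe

/-- `a = r y` modulo `R` -/
theorem zpow_mod {R : Subgroup K} {a r y : K} (hr : r ∈ R) (hy : y ∈ normalizer (R : Set K)) (ha : a = r * y) (k : ℤ) :
    a ^ k * (y ^ k)⁻¹ ∈ R := by
  have han : a ∈ normalizer (R : Set K) := by rw [ha]; exact mul_mem (le_normalizer hr) hy
  set R' := R.subgroupOf (normalizer (R : Set K)) with hR'
  have hn : R'.Normal := inferInstance
  have h1 : (QuotientGroup.mk' R' ⟨a, han⟩) = QuotientGroup.mk' R' ⟨y, hy⟩ := by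
    apply QuotientGroup.eq.2
    show (a⁻¹ * y) ∈ R
    have e : a⁻¹ * y = (y⁻¹ * r⁻¹ * y⁻¹⁻¹) := by rw [ha]; group
    rw [e]
    exact conj_of_norm ((normalizer (R : Set K)).inv_mem hy) (R.inv_mem hr)
  have h2 : (QuotientGroup.mk' R') (⟨y, hy⟩ ^ k) = (QuotientGroup.mk' R') (⟨a, han⟩ ^ k) := by
    rw [map_zpow, map_zpow, h1]
  have h3 : (⟨a, han⟩ ^ k : normalizer (R : Set K)) * (⟨y, hy⟩ ^ k)⁻¹ ∈ R' := by
    have h4 : (QuotientGroup.mk' R') ((⟨a, han⟩ ^ k : normalizer (R : Set K)) * (⟨y, hy⟩ ^ k)⁻¹) = 1 := by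
      rw [map_mul, map_inv, h2, mul_inv_cancel]
    exact (QuotientGroup.eq_one_iff _).1 h4
  exact h3

theorem le_R (hp5 : 5 ≤ p) {x : K} (hx : orderOf x = p) {R T Y : Subgroup K} (hR0 : R ≠ ⊥) (hRt : IsPGroup t R)
    (hxR : ∀ a ∈ R, x * a * x⁻¹ ∈ R) (hfix : ∀ a ∈ R, x * a = a * x → a = 1) (hRT : R ≤ T)
    (hTn : T ≤ normalizer (R : Set K)) (hYT : Y ≤ T) (hYX : Y ≤ normalizer (zpowers x : Set K))
    (hYc : ∀ y ∈ Y, y * x = x * y → y = 1) (hYR : ∀ y ∈ Y, y ∈ R → y = 1)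
    (hTY : ∀ a ∈ T, ∃ r ∈ R, ∃ y ∈ Y, a = r * y) {A : Subgroup K} (hA : MaxEl t T A) :
    A ≤ R := by
  by_contra hcon
  obtain ⟨a, haA, haR⟩ := SetLike.not_le_iff_exists.1 hcon
  obtain ⟨r, hr, y, hy, ha⟩ := hTY a (hA.le haA)
  have hy1 : y ≠ 1 := by
    rintro rfl
    apply haR
    rw [ha, mul_one]
    exact hr
  have hYn : ∀ y ∈ Y, y ∈ normalizer (R : Set K) := fun y hy => hTn (hYT hy)
  obtain ⟨hYcyc, hYp⟩ := cyclic_of_faithful hx hYX hYc
  set V := omZ t R with hV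
  have hVR : V ≤ R := omZ_le R
  have hVe : IsElementaryAbelian t V := omZ_elem R
  have hxn : x ∈ normalizer (R : Set K) := mem_norm hxR
  have hxV : ∀ a ∈ V, x * a * x⁻¹ ∈ V := fun a ha => omZ_conj hxn ha
  -- elements of `Y` of order dividing `t` are powers of `y`
  have hord : ∀ b ∈ A, ∀ r' ∈ R, ∀ y' ∈ Y, b = r' * y' → y' ^ t = 1 := by
    intro b hb r' hr' y' hy' hb'
    have h1 := zpow_mod hr' (hYn y' hy') hb' t
    rw [zpow_natCast, zpow_natCast, hA.el.2 b hb, one_mul] at h1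
    have h2 : y' ^ t ∈ R := by
      have := R.inv_mem h1
      rwa [inv_inv] at this
    exact hYR _ (Y.pow_mem hy' t) h2
  have hyt : orderOf y = t := orderOf_eq_prime (hord a haA r hr y hy ha) hy1
  -- `A ≤ (A ∩ R) ⟨a⟩`
  have hAset : (A : Set K) ⊆ ((A ⊓ R : Subgroup K) : Set K) * (zpowers a : Set K) := by
    intro b hb
    obtain ⟨r', hr', y', hy', hb'⟩ := hTY b (hA.le hb)
    have h1 := hord b hb r' hr' y' hy' hb'
    have h2 := cyc_mem (C := Y) (a := ⟨y', hy'⟩) (b := ⟨y, hy⟩) (n := t) (Subtype.ext h1)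
      (by rw [Subgroup.orderOf_mk]; exact hyt)
    obtain ⟨k, hk⟩ := mem_zpowers_iff.1 h2
    have hk' : y ^ k = y' := by
      have := congrArg Subtype.val hk
      rw [SubgroupClass.coe_zpow] at this
      exact this
    refine ⟨b * (a ^ k)⁻¹, ⟨A.mul_mem hb (A.inv_mem (A.zpow_mem haA k)), ?_⟩, a ^ k, zpow_mem_zpowers a k, by group⟩
    have h3 := zpow_mod hr (hYn y hy) ha k
    have e : b * (a ^ k)⁻¹ = r' * (a ^ k * (y ^ k)⁻¹)⁻¹ := by
      rw [hb', hk']
      group
    rw [e]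
    exact R.mul_mem hr' (R.inv_mem h3)
  have hcA : Nat.card A ≤ Nat.card (A ⊓ R : Subgroup K) * t := by
    have h1 := Lib.ProductSet.card_mul_card_inf (A ⊓ R) (zpowers a)
    have h2 : Nat.card A ≤ Nat.card (((A ⊓ R : Subgroup K) : Set K) * (zpowers a : Set K) : Set K) :=
      Nat.card_mono (Set.toFinite _) hAset
    have h3 : Nat.card (zpowers a) ≤ t := by
      rw [Nat.card_zpowers]
      exact Nat.le_of_dvd ht.out.pos (orderOf_dvd_of_pow_eq_one (hA.el.2 a haA))
    have h4 : 1 ≤ Nat.card ((A ⊓ R) ⊓ zpowers a : Subgroup K) := Nat.card_pos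
    calc Nat.card A ≤ Nat.card (((A ⊓ R : Subgroup K) : Set K) * (zpowers a : Set K) : Set K) * 1 := by
          rw [mul_one]; exact h2
      _ ≤ Nat.card (((A ⊓ R : Subgroup K) : Set K) * (zpowers a : Set K) : Set K) *
          Nat.card ((A ⊓ R) ⊓ zpowers a : Subgroup K) := Nat.mul_le_mul_left _ h4
      _ = Nat.card (A ⊓ R : Subgroup K) * Nat.card (zpowers a) := h1
      _ ≤ Nat.card (A ⊓ R : Subgroup K) * t := Nat.mul_le_mul_left _ h3
  -- the group `B = (A ∩ R) V`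
  set B : Subgroup K := _root_.Subgroup.closure (((A ⊓ R : Subgroup K) : Set K) ∪ (V : Set K)) with hB
  have hBe : IsElementaryAbelian t B := by
    apply elem_closure
    · rintro u (hu | hu) v (hv | hv)
      · exact elem_comm hA.el hu.1 hv.1
      · exact (hv.2.2 u hu.2).symm
      · exact hu.2.2 v hv.2
      · exact hu.2.2 v hv.1
    · rintro u (hu | hu)
      · exact hA.el.2 u hu.1
      · exact hu.2.1
  have hBT : B ≤ T := by
    rw [hB, closure_le]
    rintro u (hu | hu)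
    · exact hRT hu.2
    · exact hRT hu.1
  have hBset : (((A ⊓ R : Subgroup K) : Set K) * (V : Set K)) ⊆ (B : Set K) := by
    rintro _ ⟨u, hu, v, hv, rfl⟩
    exact B.mul_mem (_root_.Subgroup.subset_closure (Or.inl hu)) (_root_.Subgroup.subset_closure (Or.inr hv))
  have hcB := hA.max B hBT hBe
  -- `(A ∩ R) ∩ V ≤ C_V(y)`
  have hinf : (A ⊓ R) ⊓ V ≤ V ⊓ centralizer ({y} : Set K) := by
    rintro v ⟨hvA, hvV⟩
    refine ⟨hvV, ?_⟩
    have h1 : v * a = a * v := elem_comm hA.el hvA.1 haA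
    have h2 : v * r = r * v := hvV.2.2 r hr
    have h3 : y * v = v * y := by
      have e1 : v * (r * y) = (r * y) * v := by rw [← ha]; exact h1
      have e2 : r * (v * y) = r * (y * v) := by
        calc r * (v * y) = (r * v) * y := by group
          _ = (v * r) * y := by rw [h2]
          _ = v * (r * y) := by group
          _ = (r * y) * v := e1
          _ = r * (y * v) := by group
      exact (mul_left_cancel e2).symm
    have h4 : v ∈ centralizer ({y} : Set K) := by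
      rw [mem_centralizer_iff]
      intro z hz
      rw [Set.mem_singleton_iff.1 hz]
      exact h3
    exact h4
  set c := Nat.card (V ⊓ centralizer ({y} : Set K) : Subgroup K) with hc
  have hsq : c ^ 2 ≤ Nat.card V := by
    refine _root_.Cfsg.Agent.H63.SYTools.sq_le hx hxV (fun a ha => hfix a (hVR ha)) (hYX hy) ?_
    intro h
    exact hy1 (hYc y hy h)
  have hVt : Nat.card V ≤ t * c := by
    have h1 := Lib.ProductSet.card_mul_card_inf (A ⊓ R) V
    have h2 : Nat.card (((A ⊓ R : Subgroup K) : Set K) * (V : Set K) : Set K) ≤ Nat.card B :=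
      Nat.card_mono (Set.toFinite _) hBset
    have h3 : Nat.card ((A ⊓ R) ⊓ V : Subgroup K) ≤ c := Nat.card_mono (Set.toFinite _) hinf
    have h4 : 0 < Nat.card (A ⊓ R : Subgroup K) := Nat.card_pos
    have h5 : Nat.card (A ⊓ R : Subgroup K) * Nat.card V ≤ Nat.card (A ⊓ R : Subgroup K) * (t * c) := by
      rw [← h1]
      calc _ ≤ (Nat.card (A ⊓ R : Subgroup K) * t) * c :=
            Nat.mul_le_mul (h2.trans (hcB.trans hcA)) h3
        _ = _ := by ring
    exact Nat.le_of_mul_le_mul_left h5 h4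
  have hc0 : 0 < c := Nat.card_pos
  have hct : c ≤ t := by
    have h1 : c * c ≤ t * c := by rw [← pow_two]; exact hsq.trans hVt
    exact Nat.le_of_mul_le_mul_right h1 hc0
  have hV2 : Nat.card V ≤ t ^ 2 := by
    rw [pow_two]
    exact hVt.trans (Nat.mul_le_mul_left t hct)
  -- numbers
  have hVt' : IsPGroup t V := hRt.to_le hVR
  obtain ⟨n, hn⟩ := IsPGroup.iff_card.1 hVt'
  have hV0 : V ≠ ⊥ := omZ_ne hRt hR0
  have hn0 : n ≠ 0 := by
    rintro rfl
    rw [pow_zero] at hn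
    exact hV0 (Subgroup.card_eq_one.1 hn)
  have hn2 : n ≤ 2 := by
    rw [hn] at hV2
    exact (Nat.pow_le_pow_iff_right ht.out.one_lt).1 hV2
  have hpV : p ∣ Nat.card V - 1 :=
    card_sub_one (by rw [← hx]; exact pow_orderOf_eq_one x) hxV (fun a ha => hfix a (hVR ha))
  have htY : t ∣ p - 1 := by
    refine dvd_trans ?_ hYp
    have h1 : orderOf (⟨y, hy⟩ : Y) = t := by rw [Subgroup.orderOf_mk]; exact hyt
    rw [← h1]
    exact _root_.orderOf_dvd_natCard _
  have htp1 : t ≤ p - 1 := Nat.le_of_dvd (by omega) htY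
  have ht2 := ht.out.two_le
  have hnot : ¬ p ∣ t - 1 := fun h => by
    have := Nat.le_of_dvd (by omega) h
    omega
  rw [hn] at hpV
  rcases (show n = 1 ∨ n = 2 by omega) with h | h
  · rw [h, pow_one] at hpV
    exact hnot hpV
  · rw [h] at hpV
    have h1 : t ^ 2 - 1 = (t + 1) * (t - 1) := by
      have := Nat.sq_sub_sq t 1
      rwa [one_pow] at this
    rw [h1] at hpV
    rcases hp.out.dvd_mul.1 hpV with h2 | h2
    · have h3 := Nat.le_of_dvd (by omega) h2
      have h4 : p = t + 1 := by omega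
      rcases ht.out.eq_two_or_odd with h5 | h5
      · omega
      · rcases hp.out.eq_two_or_odd with h6 | h6 <;> (clear * - hp5 hx h4 h5 h6; omega)
    · exact hnot h2

/-- a `t`-subgroup which is a Sylow subgroup of its normalizer is a Sylow subgroup -/
theorem not_dvd_index_of_normalizer {T : Subgroup K} (hT : IsPGroup t T)
    (h : ¬ t ∣ T.relIndex (normalizer (T : Set K))) : ¬ t ∣ T.index := by
  obtain ⟨n, hn⟩ := IsPGroup.iff_card.1 hT
  have h1 := Sylow.card_quotient_normalizer_modEq_card_quotient hn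
  intro h2
  apply h
  have h3 : Nat.card (K ⧸ T) = T.index := rfl
  rw [h3] at h1
  exact (Nat.modEq_zero_iff_dvd.1 (h1.trans (Nat.modEq_zero_iff_dvd.2 h2)))

theorem normalizer_ne_top [IsSimpleGroup K] (htp : t ≠ p) {x : K} (hx : orderOf x = p) {A : Subgroup K}
    (hA : IsPGroup t A) (h0 : A ≠ ⊥) : normalizer (A : Set K) ≠ ⊤ := by
  intro h
  have hn : A.Normal := normalizer_eq_top_iff.1 h
  rcases hn.eq_bot_or_eq_top with h1 | h1
  · exact h0 h1
  · have hxA : x ∈ A := by rw [h1]; exact mem_top _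
    obtain ⟨n, hn⟩ := (IsPGroup.iff_orderOf.1 hA) ⟨x, hxA⟩
    rw [Subgroup.orderOf_mk, hx] at hn
    exact htp ((Nat.prime_dvd_prime_iff_eq hp.out ht.out).1 (hp.out.dvd_of_dvd_pow (dvd_of_eq hn))).symm

theorem card_relIndex {A B : Subgroup K} (h : A ≤ B) : Nat.card A * A.relIndex B = Nat.card B := by
  rw [relIndex, ← Subgroup.card_mul_index (A.subgroupOf B)]
  congr 1
  exact (Nat.card_congr (subgroupOfEquivOfLe h).toEquiv).symm

/-- **Theorem O**, the core -/
theorem main [IsSimpleGroup K] (hp5 : 5 ≤ p) (htp : t ≠ p) (hP : ∀ P : Sylow p K, IsCyclic (P : Subgroup K))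
    {x : K} (hx : orderOf x = p) (hRE : RE x) (htx : ¬ t ∣ Nat.card (centralizer ({x} : Set K)))
    {R : Subgroup K} (h0 : R ≠ ⊥) (hR : MaxInv t x R) :
    ∃ Y T : Subgroup K, IsPGroup t T ∧ ¬ t ∣ T.index ∧ R ≤ T ∧ Y ≤ T ∧ Y ≤ normalizer (zpowers x : Set K) ∧
      T ≤ normalizer (R : Set K) ∧ (∀ y ∈ Y, y * x = x * y → y = 1) ∧
      (∀ a ∈ T, ∃ r ∈ R, ∃ y ∈ Y, a = r * y) ∧ Nat.card T = Nat.card R * Nat.card Y := by
  have hfix : ∀ a ∈ R, x * a = a * x → a = 1 := fun a ha => eq_one_of_comm htx hR.pgrp ha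
  set M := normalizer (R : Set K) with hM
  have hMtop : M ≠ ⊤ := normalizer_ne_top htp hx hR.pgrp h0
  have hxM : x ∈ M := mem_norm hR.inv
  have hRM : R ≤ M := le_normalizer
  obtain ⟨N, hN⟩ := exists_NM hP htp hx hRE htx hMtop hxM
  obtain ⟨Y, T, hYt, hTt, hTM, hTi, hRT, hYT, hYX, hTY, hcT, hYR⟩ := exists_Y htp hx htx hN hxM hR hRM le_rfl
  have hYc : ∀ y ∈ Y, y * x = x * y → y = 1 := fun y hy h => eq_one_of_comm htx hYt hy h.symm
  refine ⟨Y, T, hTt, ?_, hRT, hYT, hYX, hTM, hYc, hTY, hcT⟩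
  -- the Thompson subgroup
  have hle : ∀ A : Subgroup K, MaxEl t T A → A ≤ R := fun A hA =>
    le_R hp5 hx h0 hR.pgrp hR.inv hfix hRT hTM hYT hYX hYc hYR hTY hA
  set J : Subgroup K := sSup {A : Subgroup K | MaxEl t T A} with hJ
  have hJR : J ≤ R := sSup_le hle
  have hJt : IsPGroup t J := hR.pgrp.to_le hJR
  have hconj : ∀ g : K, (∀ A : Subgroup K, MaxEl t T A → A.map (MulAut.conj g).toMonoidHom ≤ T) →
      g ∈ normalizer (J : Set K) := by
    intro g hg
    apply mem_norm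
    intro a ha
    have h1 : J ≤ J.comap (MulAut.conj g).toMonoidHom := by
      refine sSup_le fun A hA => ?_
      rw [← map_le_iff_le_comap]
      exact le_sSup (MaxEl.conj hA (hg A hA))
    exact h1 ha
  have hMJ : M ≤ normalizer (J : Set K) := by
    intro g hg
    apply hconj
    intro A hA
    rintro _ ⟨a, ha, rfl⟩
    exact hRT (conj_of_norm hg (hle A hA ha))
  have hTJ : normalizer (T : Set K) ≤ normalizer (J : Set K) := by
    intro g hg
    apply hconj
    intro A hA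
    rintro _ ⟨a, ha, rfl⟩
    exact conj_of_norm hg (hA.le ha)
  have hJ0 : J ≠ ⊥ := by
    -- a maximal elementary abelian subgroup
    obtain ⟨A, hA, hAmax⟩ := Set.exists_max_image {B : Subgroup K | B ≤ T ∧ IsElementaryAbelian t B}
      (fun B => Nat.card B) (Set.toFinite _) ⟨omZ t R, (omZ_le R).trans hRT, omZ_elem R⟩
    have hA' : MaxEl t T A := ⟨hA.1, hA.2, fun B h1 h2 => hAmax B ⟨h1, h2⟩⟩
    have h1 := hAmax (omZ t R) ⟨(omZ_le R).trans hRT, omZ_elem R⟩
    intro h2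
    have h3 : A = ⊥ := by
      rw [eq_bot_iff, ← h2]
      exact le_sSup hA'
    have h4 : 1 < Nat.card (omZ t R) := by
      have := (Subgroup.nontrivial_iff_ne_bot _).2 (omZ_ne hR.pgrp h0)
      exact Finite.one_lt_card
    have h5 : Nat.card (omZ t R) ≤ Nat.card A := h1
    rw [h3, Subgroup.card_bot] at h5
    omega
  set M2 := normalizer (J : Set K) with hM2
  have hM2top : M2 ≠ ⊤ := normalizer_ne_top htp hx hJt hJ0
  obtain ⟨N2, hN2⟩ := exists_NM hP htp hx hRE htx hM2top (hMJ hxM)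
  obtain ⟨hRN2, hRi2⟩ := sylow_R htp hx hN2 (hMJ hxM) hR (hRM.trans hMJ)
  -- `M₂ = N₂ M`
  have hset : ((N2 : Set K) * (M : Set K) : Set K) = (M2 : Set K) := by
    ext m
    constructor
    · rintro ⟨n, hn, h, hh, rfl⟩
      exact M2.mul_mem (hN2.le hn) (hMJ hh)
    · intro hm
      obtain ⟨k, hk, hkm⟩ := Classification.IdU.GenSylow.frattini hR.pgrp hRN2 hRi2 (g := m)
        (fun n hn => hN2.conj m hm n hn)
      exact ⟨k, hk, k⁻¹ * m, mem_norm hkm, by simp⟩
  have hcard := Lib.ProductSet.card_mul_card_inf N2 M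
  rw [hset] at hcard
  have h1 : Nat.card (M2 : Set K) = Nat.card M2 := rfl
  rw [h1] at hcard
  have hTM2 : T ≤ M2 := hTM.trans hMJ
  have e1 := card_relIndex hTM2
  have e2 := card_relIndex hTM
  have e3 := card_relIndex hRN2
  have e4 := card_relIndex (le_inf hRN2 hRM)
  rw [← e1, ← e2, ← e3, ← e4] at hcard
  have hT0 : 0 < Nat.card T := Nat.card_pos
  have hR0 : 0 < Nat.card R := Nat.card_pos
  have h2 : T.relIndex M2 * R.relIndex (N2 ⊓ M) = R.relIndex N2 * T.relIndex M := by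
    apply Nat.eq_of_mul_eq_mul_left (Nat.mul_pos hT0 hR0)
    linarith only [hcard]
  have h3 : ¬ t ∣ T.relIndex M2 := by
    intro h
    have h4 : t ∣ R.relIndex N2 * T.relIndex M := h2 ▸ (h.mul_right _)
    exact (ht.out.prime.not_dvd_mul hRi2 hTi) h4
  apply not_dvd_index_of_normalizer hTt
  intro h
  apply h3
  rw [← relIndex_mul_relIndex T (normalizer (T : Set K)) M2 le_normalizer hTJ]
  exact h.mul_right _

/-- **Theorem O** (task 1494 of S3846) -/
theorem thmO {K : Type*} [Group K] [Finite K] [IsSimpleGroup K] {p t : ℕ} [Fact p.Prime] [Fact t.Prime]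
    (hp5 : 5 ≤ p) (htp : t ≠ p) (hP : ∀ P : Sylow p K, IsCyclic (P : Subgroup K)) {x : K} (hx : orderOf x = p)
    (hR : Cfsg.Agent.H301.SY.RE x) (ht : ¬ t ∣ Nat.card (Subgroup.centralizer ({x} : Set K))) {R : Subgroup K}
    (h0 : R ≠ ⊥) (hRt : IsPGroup t R) (hxR : ∀ a ∈ R, x * a * x⁻¹ ∈ R) (T : Sylow t K) :
    ∃ a j n : ℕ, Nat.card T = t ^ (a + j) ∧ p ∣ t ^ a - 1 ∧ t ^ j ∣ p - 1 ∧ 0 < n ∧ p ∣ t ^ n - 1 ∧ n ≤ a ∧
      ∃ W : Subgroup K, W ≤ T ∧ (∀ w ∈ W, ∀ u ∈ (T : Subgroup K), w * u = u * w) ∧ (∀ w ∈ W, w ^ t = 1) ∧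
        t ^ n ≤ Nat.card W ^ (t ^ j) := by
  have hp' : p.Prime := Fact.out
  have ht' : t.Prime := Fact.out
  obtain ⟨Q, hQ, hRQ⟩ := exists_maxInv hRt hxR
  have hQ0 : Q ≠ ⊥ := fun h => h0 (le_bot_iff.1 (h ▸ hRQ))
  have hfix : ∀ a ∈ Q, x * a = a * x → a = 1 := fun a ha => eq_one_of_comm ht hQ.pgrp ha
  have hxp : x ^ p = 1 := by rw [← hx]; exact pow_orderOf_eq_one x
  obtain ⟨Y, T1, hT1t, hT1i, hQT, hYT, hYX, hTn, hYc, hTY, hcT⟩ := main hp5 htp hP hx hR ht hQ0 hQ
  obtain ⟨hYcyc, hYp⟩ := cyclic_of_faithful hx hYX hYc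
  obtain ⟨a, ha⟩ := IsPGroup.iff_card.1 hQ.pgrp
  have hYt : IsPGroup t Y := hT1t.to_le hYT
  obtain ⟨j, hj⟩ := IsPGroup.iff_card.1 hYt
  set V := omZ t Q with hV
  have hVQ : V ≤ Q := omZ_le Q
  have hVt : IsPGroup t V := hQ.pgrp.to_le hVQ
  obtain ⟨n, hn⟩ := IsPGroup.iff_card.1 hVt
  have hV0 : V ≠ ⊥ := omZ_ne hQ.pgrp hQ0
  -- the generator of `Y`
  obtain ⟨y, hy⟩ := hYcyc.exists_generator
  have hyj : (y : K) ^ t ^ j = 1 := by
    have h1 : y ^ t ^ j = 1 := by rw [← hj]; exact pow_card_eq_one'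
    exact congrArg Subtype.val h1
  have hyV : (y : K) ∈ normalizer (V : Set K) :=
    mem_norm fun v hv => omZ_conj (hTn (hYT y.2)) hv
  have hbound := card_le_fixed_pow (omZ_elem Q) hyV hyj
  set W := V ⊓ centralizer ({(y : K)} : Set K) with hW
  -- `W` is central in `T1`
  have hWc : ∀ w ∈ W, ∀ u ∈ T1, w * u = u * w := by
    intro w hw u hu
    obtain ⟨r, hr, z, hz, rfl⟩ := hTY u hu
    have h1 : Commute w r := hw.1.2.2 r hr
    have h2 : Commute w z := by
      obtain ⟨k, hk⟩ := mem_zpowers_iff.1 (hy ⟨z, hz⟩)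
      have hk' : (y : K) ^ k = z := by
        have := congrArg Subtype.val hk
        rw [SubgroupClass.coe_zpow] at this
        exact this
      rw [← hk']
      have h3 : Commute w (y : K) := (mem_centralizer_iff.1 hw.2 (y : K) rfl).symm
      exact h3.zpow_right k
    exact h1.mul_right h2
  -- the Sylow subgroup
  obtain ⟨g, hg⟩ := MulAction.exists_smul_eq K (hT1t.toSylow hT1i) T
  have hT : (T : Subgroup K) = T1.map (MulAut.conj g).toMonoidHom := by
    rw [← hg, Sylow.coe_subgroup_smul]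
    rfl
  have hcT' : Nat.card T = Nat.card T1 := by
    have h1 : Nat.card T = Nat.card (T : Subgroup K) := rfl
    rw [h1, hT, Subgroup.card_map_of_injective (MulAut.conj g).injective]
  refine ⟨a, j, n, ?_, ?_, ?_, ?_, ?_, ?_, W.map (MulAut.conj g).toMonoidHom, ?_, ?_, ?_, ?_⟩
  · rw [hcT', hcT, ha, hj, pow_add]
  · rw [← ha]
    exact card_sub_one hxp hQ.inv hfix
  · rw [← hj]; exact hYp
  · apply Nat.pos_of_ne_zero
    rintro rfl
    rw [pow_zero] at hn
    exact hV0 (Subgroup.card_eq_one.1 hn)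
  · rw [← hn]
    exact card_sub_one hxp (fun v hv => omZ_conj (mem_norm hQ.inv) hv) (fun v hv => hfix v (hVQ hv))
  · have h1 := card_dvd_of_le hVQ
    rw [hn, ha] at h1
    exact (Nat.pow_dvd_pow_iff_le_right ht'.one_lt).1 h1
  · rw [hT]
    exact map_mono ((inf_le_left.trans hVQ).trans hQT)
  · rintro _ ⟨w, hw, rfl⟩ u hu
    rw [hT] at hu
    obtain ⟨v, hv, rfl⟩ := hu
    rw [← map_mul, ← map_mul, hWc w hw v hv]
  · rintro _ ⟨w, hw, rfl⟩
    rw [← map_pow, hw.1.2.1, map_one]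
  · rw [Subgroup.card_map_of_injective (MulAut.conj g).injective, ← hn]
    exact hbound

end Cfsg.Agent.H63.SYThmO
end
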